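import Cfsg.Agent.Lib.Classical.TwoDimTorus

/-! Sylow subgroups of `SL₂` inside the tori. -/

set_option autoImplicit false
set_option linter.unusedSectionVars false

namespace Cfsg.Lib.Classical.TwoDim

open Matrix

variable {F : Type*} [Field F] [Fintype F] [DecidableEq F]

lemma exists_noncentral {T : Subgroup (SpecialLinearGroup (Fin 2) F)} (h : 2 < Nat.card T) :
    ∃ X ∈ T, X ≠ 1 ∧ X ≠ -1 := by
  classical
  by_contra hc
  simp only [not_exists, not_and, not_not] at hc
  have hsub : (T : Set (SpecialLinearGroup (Fin 2) F)) ⊆ ({1, -1} : Set (SpecialLinearGroup (Fin 2) F)) := fun x hx => by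
    by_cases h1 : x = 1
    · exact Or.inl h1
    · exact Or.inr (hc x hx h1)
  have := (Set.ncard_le_ncard hsub (Set.toFinite _)).trans ((Set.ncard_insert_le _ _).trans (by rw [Set.ncard_singleton]))
  rw [← Nat.card_coe_set_eq] at this
  exact absurd h (by simpa using this)

lemma card_SL : Nat.card (SpecialLinearGroup (Fin 2) F) = Fintype.card F * ((Fintype.card F + 1) * (Fintype.card F - 1)) := by
  have hsur : (GeneralLinearGroup.det : GL (Fin 2) F →* Fˣ).range = ⊤ :=
    eq_top_iff.2 fun a _ => ⟨dg a 1, Units.ext (by simp [det_fin_two])⟩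
  have h := Subgroup.card_mul_index (GeneralLinearGroup.det : GL (Fin 2) F →* Fˣ).ker
  rw [Subgroup.index_ker, hsur, Subgroup.card_top, Nat.card_units, Nat.card_eq_fintype_card (α := F),
    ← Nat.card_congr (toN (F := F)).toEquiv, GL2.card_gl2] at h
  have hpos : 0 < Fintype.card F - 1 := by have := Fintype.one_lt_card (α := F); omega
  apply Nat.eq_of_mul_eq_mul_right hpos
  rw [h]; ring

lemma centralizer_map {G : Type*} [Group G] (e : G ≃* G) (Q : Subgroup G) :
    Subgroup.centralizer ((Q.map e.toMonoidHom : Subgroup G) : Set G) = (Subgroup.centralizer (Q : Set G)).map e.toMonoidHom := by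
  ext x
  rw [Subgroup.mem_centralizer_iff, Subgroup.mem_map]
  constructor
  · intro h
    refine ⟨e.symm x, Subgroup.mem_centralizer_iff.2 fun y hy => e.injective ?_, by simp⟩
    have := h (e y) ⟨y, hy, rfl⟩
    simpa using this
  · rintro ⟨y, hy, rfl⟩ z ⟨w, hw, rfl⟩
    simp only [MulEquiv.coe_toMonoidHom, ← map_mul, Subgroup.mem_centralizer_iff.1 hy w hw]

/-- A Sylow subgroup for an odd prime dividing the order of a torus has the conjugate normalizer. -/
theorem TorusData.sylow_conj {T : Subgroup (SpecialLinearGroup (Fin 2) F)} {W : Set (SpecialLinearGroup (Fin 2) F)}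
    (D : TorusData T W) (h2 : (2 : F) ≠ 0) {k : ℕ}
    (hk : Nat.card (SpecialLinearGroup (Fin 2) F) = Nat.card T * k) {ℓ : ℕ} [Fact ℓ.Prime] (hℓ : ℓ ≠ 2)
    (hdvd : ℓ ∣ Nat.card T) (hnk : ¬ ℓ ∣ k) (P : Sylow ℓ (SpecialLinearGroup (Fin 2) F)) :
    ∃ g : SpecialLinearGroup (Fin 2) F,
      Subgroup.centralizer ((P : Subgroup (SpecialLinearGroup (Fin 2) F)) : Set (SpecialLinearGroup (Fin 2) F)) =
        T.map (MulAut.conj g).toMonoidHom ∧
      Subgroup.normalizer ((P : Subgroup (SpecialLinearGroup (Fin 2) F)) : Set (SpecialLinearGroup (Fin 2) F)) =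
        (Subgroup.normalizer (T : Set (SpecialLinearGroup (Fin 2) F))).map (MulAut.conj g).toMonoidHom ∧
      ∃ X ∈ T, X ≠ 1 ∧ X ≠ -1 := by
  classical
  have hp := Fact.out (p := ℓ.Prime)
  obtain ⟨P₀⟩ : Nonempty (Sylow ℓ T) := inferInstance
  set Q : Subgroup (SpecialLinearGroup (Fin 2) F) := (P₀ : Subgroup T).map T.subtype
  have hQT : Q ≤ T := Subgroup.map_subtype_le _
  have hQcard : Nat.card Q = ℓ ^ (Nat.card (SpecialLinearGroup (Fin 2) F)).factorization ℓ := by
    rw [Subgroup.card_map_of_injective T.subtype_injective, Sylow.card_eq_multiplicity, hk,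
      Nat.factorization_mul Nat.card_pos.ne' (fun (h : k = 0) => hnk (h ▸ dvd_zero ℓ)), Finsupp.add_apply,
      Nat.factorization_eq_zero_of_not_dvd hnk, add_zero]
  obtain ⟨g, hg⟩ : ∃ g : SpecialLinearGroup (Fin 2) F, g • Sylow.ofCard Q hQcard = P :=
    MulAction.exists_smul_eq _ _ _
  have hP : (P : Subgroup (SpecialLinearGroup (Fin 2) F)) = Q.map (MulAut.conj g).toMonoidHom := by
    rw [← hg, Sylow.coe_subgroup_smul]; rfl
  have hℓQ : ℓ ∣ Nat.card Q := by
    rw [hQcard]
    refine dvd_pow_self ℓ ?_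
    have h0 : 0 < (Nat.card (SpecialLinearGroup (Fin 2) F)).factorization ℓ :=
      hp.factorization_pos_of_dvd Nat.card_pos.ne' (hk ▸ hdvd.mul_right k)
    omega
  obtain ⟨x, hx⟩ := exists_prime_orderOf_dvd_card' ℓ hℓQ
  have hxo : orderOf (x : SpecialLinearGroup (Fin 2) F) = ℓ := (Subgroup.orderOf_coe x).trans hx
  have hx1 : (x : SpecialLinearGroup (Fin 2) F) ≠ 1 := fun h => by
    rw [h, orderOf_one] at hxo; exact hp.one_lt.ne hxo
  have hxn : (x : SpecialLinearGroup (Fin 2) F) ≠ -1 := fun h => by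
    have : orderOf (x : SpecialLinearGroup (Fin 2) F) ∣ 2 := orderOf_dvd_of_pow_eq_one (by rw [h]; simp [sq])
    rw [hxo, Nat.dvd_prime Nat.prime_two] at this
    exact this.elim hp.one_lt.ne' hℓ
  have hC : Subgroup.centralizer (Q : Set (SpecialLinearGroup (Fin 2) F)) = T := by
    refine le_antisymm ?_ fun t ht => Subgroup.mem_centralizer_iff.2 fun y hy => D.comm y (hQT hy) t ht
    rw [← D.centralizer_elem h2 (hQT x.2) hx1 hxn]
    exact Subgroup.centralizer_le (Set.singleton_subset_iff.2 x.2)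
  have hN : Subgroup.normalizer (Q : Set (SpecialLinearGroup (Fin 2) F)) = Subgroup.normalizer (T : Set (SpecialLinearGroup (Fin 2) F)) := by
    ext t
    refine ⟨fun ht => (D.mem_normalizer (hQT x.2) hx1 hxn t).2
      (D.norm t x (hQT x.2) hx1 hxn (hQT ((Subgroup.mem_normalizer_iff.1 ht _).1 x.2))), fun ht => ?_⟩
    have key : ∀ t ∈ Subgroup.normalizer (T : Set (SpecialLinearGroup (Fin 2) F)), ∀ y ∈ Q, t * y * t⁻¹ ∈ Q := by
      intro t ht y hy
      rcases (D.mem_normalizer (hQT x.2) hx1 hxn t).1 ht with h | h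
      · rw [D.comm t h y (hQT hy), mul_inv_cancel_right]; exact hy
      · rw [D.inv_conj h (hQT hy)]; exact Q.inv_mem hy
    refine Subgroup.mem_normalizer_iff.2 fun y => ⟨key t ht y, fun hy => ?_⟩
    have := key t⁻¹ (Subgroup.inv_mem _ ht) _ hy
    simpa [mul_assoc] using this
  refine ⟨g, by rw [hP, centralizer_map, hC], ?_, _, hQT x.2, hx1, hxn⟩
  rw [hP, ← Subgroup.map_equiv_normalizer_eq Q (MulAut.conj g), hN]

/-- A Sylow subgroup for an odd prime dividing the order of a torus. -/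
theorem TorusData.sylow {T : Subgroup (SpecialLinearGroup (Fin 2) F)} {W : Set (SpecialLinearGroup (Fin 2) F)}
    (D : TorusData T W) (h2 : (2 : F) ≠ 0) (hcyc : IsCyclic T) {k : ℕ}
    (hk : Nat.card (SpecialLinearGroup (Fin 2) F) = Nat.card T * k) {ℓ : ℕ} [Fact ℓ.Prime] (hℓ : ℓ ≠ 2)
    (hdvd : ℓ ∣ Nat.card T) (hnk : ¬ ℓ ∣ k) (P : Sylow ℓ (SpecialLinearGroup (Fin 2) F)) :
    Nat.card (Subgroup.centralizer ((P : Subgroup (SpecialLinearGroup (Fin 2) F)) : Set (SpecialLinearGroup (Fin 2) F))) = Nat.card T ∧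
    IsCyclic (Subgroup.centralizer ((P : Subgroup (SpecialLinearGroup (Fin 2) F)) : Set (SpecialLinearGroup (Fin 2) F))) ∧
    Nat.card (Subgroup.normalizer ((P : Subgroup (SpecialLinearGroup (Fin 2) F)) : Set (SpecialLinearGroup (Fin 2) F))) = 2 * Nat.card T := by
  obtain ⟨g, hC, hN, X, hX, h1, hn⟩ := D.sylow_conj h2 hk hℓ hdvd hnk P
  rw [hC, hN]
  refine ⟨Subgroup.card_map_of_injective (MulAut.conj g).injective, ?_, ?_⟩
  · exact (MulEquiv.isCyclic (T.equivMapOfInjective _ (MulAut.conj g).injective)).1 hcyc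
  · rw [Subgroup.card_map_of_injective (MulAut.conj g).injective]
    exact (D.normalizer_facts h2 hX h1 hn).1

end Cfsg.Lib.Classical.TwoDim
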