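-- Helper library: subgroups of SL(2, F) containing a copy of SL(2, p).
import Mathlib
import Cfsg.Agent.Lib.PStable.QuadraticPair
import Cfsg.Agent.Lib.PLocal.QuadraticSection
import Cfsg.Agent.Lib.ZStar.UniqueInvolution

set_option autoImplicit false

namespace Cfsg.Lib.SLTwoSub

open Matrix Cfsg.Lib.PStable
open scoped MatrixGroups

variable {F : Type*} [Field F] {p : ℕ} [Fact p.Prime] [CharP F p]

/-- Conjugation of `SL(2, F)` by an invertible matrix. -/
noncomputable def conjSL (C : GL (Fin 2) F) : SL(2, F) →* SL(2, F) where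
  toFun A := ⟨(C : Matrix (Fin 2) (Fin 2) F) * A * ((C⁻¹ : GL (Fin 2) F) : Matrix (Fin 2) (Fin 2) F), by
    rw [Matrix.det_mul, Matrix.det_mul, A.det_coe, mul_one, ← Matrix.det_mul, ← Units.val_mul, mul_inv_cancel, Units.val_one, Matrix.det_one]⟩
  map_one' := Subtype.ext (by simp)
  map_mul' A B := Subtype.ext (by
    show (C : Matrix (Fin 2) (Fin 2) F) * (A * B : Matrix (Fin 2) (Fin 2) F) * ((C⁻¹ : GL (Fin 2) F) : Matrix (Fin 2) (Fin 2) F) =
      ((C : Matrix (Fin 2) (Fin 2) F) * A * ((C⁻¹ : GL (Fin 2) F) : Matrix (Fin 2) (Fin 2) F)) *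
        ((C : Matrix (Fin 2) (Fin 2) F) * B * ((C⁻¹ : GL (Fin 2) F) : Matrix (Fin 2) (Fin 2) F))
    simp only [Matrix.mul_assoc, Units.inv_mul_cancel_left])

lemma conjSL_injective (C : GL (Fin 2) F) : Function.Injective (conjSL C) := by
  intro A B h
  refine Subtype.ext ?_
  have h' : (C : Matrix (Fin 2) (Fin 2) F) * A * ((C⁻¹ : GL (Fin 2) F) : Matrix (Fin 2) (Fin 2) F) =
      (C : Matrix (Fin 2) (Fin 2) F) * B * ((C⁻¹ : GL (Fin 2) F) : Matrix (Fin 2) (Fin 2) F) := congrArg Subtype.val h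
  exact (Units.mul_right_inj C).1 ((Units.mul_left_inj C⁻¹).1 h')

lemma pow_tri {z : SL(2, F)} (h10 : z 1 0 = 0) (j : ℕ) : (z ^ j) 1 0 = 0 ∧ (z ^ j) 0 0 = (z 0 0) ^ j := by
  induction j with
  | zero => simp
  | succ j ih =>
    rw [pow_succ z j, mul_entry, mul_entry, ih.1, ih.2, h10, pow_succ (z 0 0) j]
    simp

lemma map_upperU (c : ZMod p) :
    Matrix.SpecialLinearGroup.map (ZMod.castHom (dvd_refl p) F) (upperU c) = upperU (ZMod.castHom (dvd_refl p) F c) := by
  refine Subtype.ext (Matrix.ext fun i l => ?_)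
  show ZMod.castHom (dvd_refl p) F ((upperU c : SL(2, ZMod p)) i l) = _
  fin_cases i <;> fin_cases l <;> simp [upperU]

lemma map_lowerU (c : ZMod p) :
    Matrix.SpecialLinearGroup.map (ZMod.castHom (dvd_refl p) F) (lowerU c) = lowerU (ZMod.castHom (dvd_refl p) F c) := by
  refine Subtype.ext (Matrix.ext fun i l => ?_)
  show ZMod.castHom (dvd_refl p) F ((lowerU c : SL(2, ZMod p)) i l) = _
  fin_cases i <;> fin_cases l <;> simp [lowerU]

/-- A subgroup of `SL(2, F)`, `F` finite of odd characteristic `p`, with more than one Sylow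
`p`-subgroup contains a copy of `SL(2, p)`. -/
theorem exists_sl_two [Finite F] (hp : p ≠ 2) (H : Subgroup SL(2, F)) (hH : 1 < Nat.card (Sylow p H)) :
    ∃ ψ : SL(2, ZMod p) →* SL(2, F), Function.Injective ψ ∧ ψ.range ≤ H := by
  classical
  -- an element of order p
  have hdvd : p ∣ Nat.card H := by
    by_contra h
    haveI : ∀ P : Sylow p H, Subsingleton (P : Subgroup H) := fun P => by
      obtain ⟨k, hk⟩ := IsPGroup.iff_card.1 P.isPGroup'
      rcases Nat.eq_zero_or_pos k with rfl | hk0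
      · rw [pow_zero] at hk; exact (Nat.card_eq_one_iff_unique.1 hk).1
      · exact absurd ((dvd_pow_self p hk0.ne').trans (hk ▸ Subgroup.card_subgroup_dvd_card _)) h
    have hs : Subsingleton (Sylow p H) := ⟨fun P Q => Sylow.ext (by
      rw [Subgroup.eq_bot_of_subsingleton (P : Subgroup H), Subgroup.eq_bot_of_subsingleton (Q : Subgroup H)])⟩
    rw [Nat.card_of_subsingleton (Classical.arbitrary (Sylow p H))] at hH
    exact lt_irrefl 1 hH
  obtain ⟨x, hx⟩ := exists_prime_orderOf_dvd_card' p hdvd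
  set X : Matrix (Fin 2) (Fin 2) F := ((x : SL(2, F)) : Matrix (Fin 2) (Fin 2) F) with hX
  have hXp : X ^ p = 1 := by
    have h := congrArg (fun z : H => ((z : SL(2, F)) : Matrix (Fin 2) (Fin 2) F)) (hx ▸ pow_orderOf_eq_one x : x ^ p = 1)
    simpa using h
  have hX1 : X ≠ 1 := fun h => by
    have : x = 1 := Subtype.ext (Subtype.ext h)
    rw [this, orderOf_one] at hx
    exact (Fact.out : p.Prime).one_lt.ne hx
  have hnil : (X - 1) ^ p = 0 := by
    haveI : CharP (Matrix (Fin 2) (Fin 2) F) p := charP_of_injective_algebraMap (algebraMap F (Matrix (Fin 2) (Fin 2) F)).injective p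
    rw [sub_pow_char_of_commute p (Commute.one_right X), hXp, one_pow, sub_self]
  obtain ⟨v, hv0, hXv⟩ : ∃ v : Fin 2 → F, v ≠ 0 ∧ X *ᵥ v = v := by
    have hdet : (X - 1).det = 0 := by
      have h := congrArg Matrix.det hnil
      rw [Matrix.det_pow, Matrix.det_zero] at h
      exact eq_zero_of_pow_eq_zero h
    obtain ⟨v, hv0, hv⟩ := Matrix.exists_mulVec_eq_zero_iff.2 hdet
    exact ⟨v, hv0, sub_eq_zero.1 (by rwa [Matrix.sub_mulVec, Matrix.one_mulVec] at hv)⟩
  -- move v to the first axis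
  obtain ⟨s, hs⟩ : ∃ s : SL(2, F), (s : Matrix (Fin 2) (Fin 2) F) *ᵥ ![1, 0] = v := by
    by_cases h0 : v 0 = 0
    · have h1 : v 1 ≠ 0 := fun h1 => hv0 (by ext i; fin_cases i <;> simp [h0, h1])
      refine ⟨⟨!![0, -(v 1)⁻¹; v 1, 0], by rw [Matrix.det_fin_two_of]; field_simp; ring⟩, ?_⟩
      ext i; fin_cases i <;> simp [h0]
    · refine ⟨⟨!![v 0, 0; v 1, (v 0)⁻¹], by rw [Matrix.det_fin_two_of]; field_simp; ring⟩, ?_⟩
      ext i; fin_cases i <;> simp
  let cs : SL(2, F) →* SL(2, F) := (MulAut.conj s).toMonoidHom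
  set M : Subgroup SL(2, F) := H.comap cs with hM
  have hmem : ∀ y : SL(2, F), y ∈ M ↔ s * y * s⁻¹ ∈ H := fun y => Iff.rfl
  set u := s⁻¹ * (x : SL(2, F)) * s with hu
  have huM : u ∈ M := (hmem u).2 (by simp [hu, mul_assoc])
  have hue : (u : Matrix (Fin 2) (Fin 2) F) *ᵥ ![1, 0] = ![1, 0] := by
    rw [hu, Matrix.SpecialLinearGroup.coe_mul, Matrix.SpecialLinearGroup.coe_mul, ← Matrix.mulVec_mulVec, ← Matrix.mulVec_mulVec, hs,
      ← hX, hXv, ← hs, Matrix.mulVec_mulVec, ← Matrix.SpecialLinearGroup.coe_mul, inv_mul_cancel, Matrix.SpecialLinearGroup.coe_one, Matrix.one_mulVec]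
  have hu00 : u 0 0 = 1 := by simpa [Matrix.mulVec, dotProduct, Fin.sum_univ_two] using congrFun hue 0
  have hu10 : u 1 0 = 0 := by simpa [Matrix.mulVec, dotProduct, Fin.sum_univ_two] using congrFun hue 1
  have hueq := eq_upperU hu10 hu00
  have ha0 : u 0 1 ≠ 0 := by
    intro h0
    apply hX1
    rw [hueq, h0, upperU_zero] at hu
    have : (x : SL(2, F)) = 1 := by
      have h := congrArg (fun z => s * z * s⁻¹) hu
      simpa [mul_assoc] using h.symm
    rw [hX, this]; rfl
  -- an element moving the first axis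
  obtain ⟨g0, hg0, hγ⟩ : ∃ g0 ∈ M, g0 1 0 ≠ 0 := by
    by_contra h
    push Not at h
    have hfix : ∀ P : Sylow p H, ∀ y ∈ (P : Subgroup H), (s⁻¹ * (y : SL(2, F)) * s) 1 0 = 0 ∧ (s⁻¹ * (y : SL(2, F)) * s) 0 0 = 1 := by
      intro P y hy
      have h10 : (s⁻¹ * (y : SL(2, F)) * s) 1 0 = 0 := h _ ((hmem _).2 (by simp [mul_assoc]))
      refine ⟨h10, ?_⟩
      obtain ⟨k, hk⟩ := P.isPGroup' ⟨y, hy⟩
      set z := s⁻¹ * (y : SL(2, F)) * s with hz
      have hzk : z ^ (p ^ k) = 1 := by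
        rw [hz, show s⁻¹ * (y : SL(2, F)) * s = MulAut.conj s⁻¹ (y : SL(2, F)) by simp, ← map_pow,
          show (y : SL(2, F)) ^ p ^ k = 1 from congrArg (fun w : (P : Subgroup H) => ((w : H) : SL(2, F))) hk, map_one]
      have hpow := pow_tri h10
      have h1 : (z 0 0) ^ (p ^ k) = 1 := by rw [← (hpow _).2, hzk]; simp
      exact sub_eq_zero.1 (eq_zero_of_pow_eq_zero (n := p ^ k) (by rw [sub_pow_char_pow, h1, one_pow, sub_self]))
    obtain ⟨P⟩ : Nonempty (Sylow p H) := inferInstance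
    haveI hs1 : Subsingleton (Sylow p H) := by
      refine ⟨fun P Q => Sylow.ext ?_⟩
      let U : Subgroup H :=
        { carrier := {y | (s⁻¹ * (y : SL(2, F)) * s) 1 0 = 0 ∧ (s⁻¹ * (y : SL(2, F)) * s) 0 0 = 1}
          one_mem' := by
            show (s⁻¹ * ((1 : H) : SL(2, F)) * s) 1 0 = 0 ∧ (s⁻¹ * ((1 : H) : SL(2, F)) * s) 0 0 = 1
            rw [OneMemClass.coe_one, mul_one, inv_mul_cancel]; simp
          mul_mem' := fun {y z} hy hz => by
            have e : s⁻¹ * ((y * z : H) : SL(2, F)) * s = (s⁻¹ * (y : SL(2, F)) * s) * (s⁻¹ * (z : SL(2, F)) * s) := by simp [mul_assoc]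
            simp only [Set.mem_setOf_eq]
            rw [e, eq_upperU hy.1 hy.2, eq_upperU hz.1 hz.2, ← upperU_add]
            simp [upperU]
          inv_mem' := fun {y} hy => by
            have e : s⁻¹ * ((y⁻¹ : H) : SL(2, F)) * s = (s⁻¹ * (y : SL(2, F)) * s)⁻¹ := by simp [mul_assoc]
            have e2 : (upperU ((s⁻¹ * (y : SL(2, F)) * s) 0 1))⁻¹ = upperU (-((s⁻¹ * (y : SL(2, F)) * s) 0 1)) :=
              inv_eq_of_mul_eq_one_right (by rw [← upperU_add, add_neg_cancel, upperU_zero])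
            simp only [Set.mem_setOf_eq]
            rw [e, eq_upperU hy.1 hy.2, e2]
            simp [upperU] }
      have hU : IsPGroup p U := fun y => ⟨1, by
        refine Subtype.ext (Subtype.ext ?_)
        rw [pow_one]
        have e : s⁻¹ * (((y : H) ^ p : H) : SL(2, F)) * s = (s⁻¹ * ((y : H) : SL(2, F)) * s) ^ p := by
          rw [show s⁻¹ * ((y : H) : SL(2, F)) * s = MulAut.conj s⁻¹ ((y : H) : SL(2, F)) by simp, ← map_pow]; simp
        rw [eq_upperU y.2.1 y.2.2, ← upperU_nsmul, nsmul_eq_mul, CharP.cast_eq_zero, zero_mul, upperU_zero] at e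
        have := congrArg (fun w => s * w * s⁻¹) e
        simpa [mul_assoc] using this⟩
      exact (P.3 hU (fun y hy => hfix P y hy)).symm.trans (Q.3 hU (fun y hy => hfix Q y hy))
    rw [Nat.card_of_subsingleton P] at hH
    exact lt_irrefl 1 hH
  -- the parameter
  obtain ⟨a, a', ha, ha', haM, ha'M, g, hg, hg10, j, hj⟩ :=
    exists_param hp M (a0 := u 0 1) ha0 (hueq ▸ huM) hg0 hγ
  let C : GL (Fin 2) F := Matrix.GeneralLinearGroup.mkOfDetNeZero !![a, g 0 0 / g 1 0; 0, 1]
    (by rw [Matrix.det_fin_two_of]; simpa using ha)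
  let φ : SL(2, ZMod p) →* SL(2, F) := (conjSL C).comp (Matrix.SpecialLinearGroup.map (ZMod.castHom (dvd_refl p) F))
  have hCi : ∀ (A : SL(2, F)) (B : SL(2, F)), (C : Matrix (Fin 2) (Fin 2) F) * A = B * (C : Matrix (Fin 2) (Fin 2) F) → conjSL C A = B := by
    intro A B h
    refine Subtype.ext ?_
    show (C : Matrix (Fin 2) (Fin 2) F) * A * _ = _
    rw [h, Matrix.mul_assoc, ← Units.val_mul, mul_inv_cancel, Units.val_one, Matrix.mul_one]
  have hφu : φ (upperU 1) = upperU a := by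
    show conjSL C (Matrix.SpecialLinearGroup.map _ (upperU 1)) = _
    rw [map_upperU, map_one]
    refine hCi _ _ ?_
    ext i l
    fin_cases i <;> fin_cases l <;>
      simp [C, upperU, Matrix.mul_apply, Fin.sum_univ_two, Matrix.GeneralLinearGroup.mkOfDetNeZero] <;> ring
  have hφl : φ (lowerU (-(j : ZMod p))) = g * upperU a' * g⁻¹ := by
    show conjSL C (Matrix.SpecialLinearGroup.map _ (lowerU _)) = _
    rw [map_lowerU, map_neg, map_natCast]
    refine hCi _ _ ?_
    rw [Matrix.SpecialLinearGroup.coe_mul, Matrix.SpecialLinearGroup.coe_mul, Matrix.SpecialLinearGroup.coe_inv]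
    have hd := det_eq (g := g)
    ext i l
    fin_cases i <;> fin_cases l <;>
      simp [C, upperU, lowerU, Matrix.mul_apply, Fin.sum_univ_two, Matrix.GeneralLinearGroup.mkOfDetNeZero, Matrix.SpecialLinearGroup.coe_inv, Matrix.adjugate_fin_two, hj] <;>
      field_simp <;> (try linear_combination -hd) <;> (try linear_combination (-(g 0 0)) * hd) <;> (try linear_combination (-a) * hd) <;> (try linear_combination hd) <;> ring
  have hjne : (-(j : ZMod p)) ≠ 0 := by
    intro h0
    have h1 : (j : F) = 0 := by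
      have := congrArg (ZMod.castHom (dvd_refl p) F) (neg_eq_zero.1 h0)
      simpa using this
    rw [hj] at h1
    exact mul_ne_zero (mul_ne_zero ha ha') (pow_ne_zero 2 hg10) h1
  have htop : M.comap φ = ⊤ := eq_top_of_transvections _ (by rw [Subgroup.mem_comap, hφu]; exact haM) hjne
    (by rw [Subgroup.mem_comap, hφl]; exact M.mul_mem (M.mul_mem hg ha'M) (M.inv_mem hg))
  refine ⟨cs.comp φ, ?_, ?_⟩
  · refine (MulAut.conj s).injective.comp ((conjSL_injective C).comp ?_)
    intro A B h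
    refine Subtype.ext ?_
    ext i l
    exact (ZMod.castHom (dvd_refl p) F).injective (congrFun (congrFun (congrArg Subtype.val h) i) l)
  · rintro _ ⟨A, rfl⟩
    exact (htop ▸ Subgroup.mem_top A : A ∈ M.comap φ)

/-- The Sylow 2-subgroups of a subgroup of `SL(2, F)` containing a copy of `SL(2, p)` are generalized quaternion. -/
theorem sylow_two_quaternion [Finite F] (hp : p ≠ 2) (H : Subgroup SL(2, F)) (ψ : SL(2, ZMod p) →* SL(2, F))
    (hψ : Function.Injective ψ) (hle : ψ.range ≤ H) (S : Sylow 2 H) :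
    ∃ k : ℕ, 1 ≤ k ∧ Nonempty ((S : Subgroup H) ≃* QuaternionGroup (2 ^ k)) := by
  classical
  haveI : Fact (Nat.Prime 2) := ⟨Nat.prime_two⟩
  have h2 : (2 : F) ≠ 0 := by
    intro h
    exact hp ((Nat.prime_dvd_prime_iff_eq (Fact.out : p.Prime) Nat.prime_two).1 ((CharP.cast_eq_zero_iff F p 2).1 (by exact_mod_cast h)))
  let e : (ψ.range.subgroupOf H) →* SL(2, ZMod p) :=
    ((MonoidHom.ofInjective hψ).symm.toMonoidHom).comp (Subgroup.subgroupOfEquivOfLe hle).toMonoidHom
  have hS : ¬ IsMulCommutative (S : Subgroup H) := Cfsg.Lib.PLocal.QuadSection.sylow_not_comm hp _ e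
    ((MonoidHom.ofInjective hψ).symm.surjective.comp (Subgroup.subgroupOfEquivOfLe hle).surjective) S
  have huniq : ∀ x y : (S : Subgroup H), orderOf x = 2 → orderOf y = 2 → y ∈ Subgroup.zpowers x := by
    have key : ∀ x : (S : Subgroup H), orderOf x = 2 → ((x : H) : SL(2, F)) = -1 := by
      intro x hx
      set z := ((x : H) : SL(2, F)) with hz
      have h1 : z * z = 1 := by
        have hx2 : x ^ 2 = 1 := by simpa [hx] using pow_orderOf_eq_one x
        have h := congrArg (fun w : (S : Subgroup H) => ((w : H) : SL(2, F))) hx2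
        simpa [pow_two] using h
      rcases (isScalar2_iff z).1 (scalar_of_sq_eq_one h2 h1) with h | h
      · rw [show x = 1 from Subtype.ext (Subtype.ext h), orderOf_one] at hx
        exact absurd hx (by norm_num)
      · exact h
    intro x y hx hy
    rw [show y = x from Subtype.ext (Subtype.ext ((key y hy).trans (key x hx).symm))]
    exact Subgroup.mem_zpowers x
  rcases Cfsg.Lib.ZStar.isCyclic_or_inverted S.isPGroup' huniq with h | ⟨-, a, g, ha4, hidx, hg, hinv, hg2⟩
  · exact absurd ⟨⟨fun a b => (IsCyclic.commGroup (α := (S : Subgroup H))).mul_comm a b⟩⟩ hS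
  · obtain ⟨i, hi⟩ := S.isPGroup' a
    obtain ⟨k, -, hk⟩ := (Nat.dvd_prime_pow Nat.prime_two).1 (orderOf_dvd_of_pow_eq_one hi)
    have hk2 : 2 ≤ k := by
      by_contra hlt
      rcases (show k = 0 ∨ k = 1 by omega) with rfl | rfl <;> (rw [hk] at ha4; norm_num at ha4)
    obtain ⟨k, rfl⟩ : ∃ k', k = k' + 1 := ⟨k - 1, by omega⟩
    have hh : orderOf a / 2 = 2 ^ k := by rw [hk, pow_succ]; simp
    exact ⟨k, by omega, Cfsg.Lib.ZStar.nonempty_quaternion_of_inverted (pow_ne_zero k two_ne_zero)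
      (by rw [hk, pow_succ, mul_comm]) hidx hg hinv (hh ▸ hg2)⟩

end Cfsg.Lib.SLTwoSub
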