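import Mathlib
import Cfsg.Agent.S5913
import Cfsg.Agent.Lib.Classical.CompLength
import Cfsg.Agent.Lib.Characters.Burnside

/-!
# Subgroups of powers of a non-abelian simple group invariant under automorphisms
-/

set_option autoImplicit false

namespace Cfsg.Lib.PowerSimple

open Cfsg.Lib.CompLen

/-- A finite non-abelian simple group has at least 60 elements. -/
theorem sixty_le {T : Type*} [Group T] [Finite T] [IsSimpleGroup T] (hT : ¬ IsMulCommutative T) :
    60 ≤ Nat.card T := by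
  by_contra h
  push Not at h
  suffices hs : Group.IsSolvable T from
    hT ⟨⟨fun a b => IsSimpleGroup.comm_iff_isSolvable.2 hs a b⟩⟩
  by_cases hsq : Squarefree (Nat.card T)
  · haveI := IsZGroup.of_squarefree hsq
    infer_instance
  · have hall : ∀ n : Fin 60, (n : ℕ) ≠ 0 → (∀ p ∈ [2, 3, 5, 7], ¬ p * p ∣ (n : ℕ)) ∨
        ∃ pq ∈ [(2, 3), (2, 5), (2, 7), (2, 11), (2, 13), (3, 5), (5, 7), (3, 7)],
          ∃ a ∈ [0, 1, 2, 3, 4, 5], ∃ b ∈ [0, 1, 2, 3], (n : ℕ) = pq.1 ^ a * pq.2 ^ b := by decide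
    rcases hall ⟨_, h⟩ Nat.card_pos.ne' with h' | ⟨⟨p, q⟩, hpq, a, -, b, -, e⟩
    · refine absurd (Nat.squarefree_iff_prime_squarefree.2 fun p hp hd => ?_) hsq
      have hp8 : p < 8 := by
        by_contra hp8
        have := Nat.le_of_dvd Nat.card_pos hd
        nlinarith
      refine h' p ?_ hd
      have := hp.two_le
      interval_cases p <;> first | decide | (exfalso; revert hp; decide)
    · refine Cfsg.Lib.Characters.isSolvable_of_card_eq_pow_mul_pow ?_ ?_ _ T rfl ⟨a, b, e⟩ <;>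
        · simp at hpq
          rcases hpq with ⟨rfl, rfl⟩ | ⟨rfl, rfl⟩ | ⟨rfl, rfl⟩ | ⟨rfl, rfl⟩ | ⟨rfl, rfl⟩ | ⟨rfl, rfl⟩ | ⟨rfl, rfl⟩ | ⟨rfl, rfl⟩ <;> norm_num

/-- A small generating set. -/
theorem exists_gen_aux.{u} : ∀ (n : ℕ) (G : Type u) [Group G] [Finite G], Nat.card G = n →
    ∃ s : Finset G, Subgroup.closure (s : Set G) = ⊤ ∧ 2 ^ s.card ≤ n := by
  classical
  intro n
  induction n using Nat.strong_induction_on with
  | _ n ih =>
  intro G _ _ hn
  rcases subsingleton_or_nontrivial G with hG | hG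
  · exact ⟨∅, Subgroup.subsingleton_iff.2 hG |>.elim _ _, hn ▸ Nat.card_pos⟩
  obtain ⟨M, hM⟩ : ∃ M : Subgroup G, IsCoatom M := (IsCoatomic.eq_top_or_exists_le_coatom (⊥ : Subgroup G)).resolve_left bot_ne_top |>.imp fun _ h => h.1
  have hlt : Nat.card M < n := hn ▸ lt_of_le_of_ne (Subgroup.card_le_card_group M) fun e => hM.1 ((Subgroup.card_eq_iff_eq_top M).1 e)
  obtain ⟨s, hs, hcard⟩ := ih _ hlt M rfl
  obtain ⟨x, hx⟩ : ∃ x, x ∉ M := by
    by_contra! hall
    exact hM.1 (top_le_iff.1 fun y _ => hall y)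
  refine ⟨insert x (s.image M.subtype), ?_, ?_⟩
  · refine hM.2 _ (lt_of_le_of_ne ?_ fun e => hx (e.symm ▸ Subgroup.subset_closure (by simp)))
    have hgenM : M = Subgroup.closure (M.subtype '' (s : Set M)) := by
      rw [← MonoidHom.map_closure, hs, ← MonoidHom.range_eq_map, Subgroup.range_subtype]
    refine hgenM.le.trans (Subgroup.closure_mono ?_)
    rw [Finset.coe_insert, Finset.coe_image]
    exact Set.subset_insert _ _
  · have h2 : 2 * Nat.card M ≤ n := by
      rw [← hn, ← M.card_mul_index, mul_comm 2]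
      exact Nat.mul_le_mul_left _ (M.one_lt_index_of_ne_top hM.1)
    calc 2 ^ (insert x (s.image M.subtype)).card ≤ 2 ^ (s.card + 1) :=
          Nat.pow_le_pow_right two_pos ((Finset.card_insert_le _ _).trans (Nat.succ_le_succ Finset.card_image_le))
      _ ≤ n := by rw [pow_succ]; omega

/-- A generating set `s` of a finite non-abelian simple group with `2 ^ (|s| + 1) ≤ |T|`. -/
theorem exists_gen {T : Type*} [Group T] [Finite T] [IsSimpleGroup T] (hT : ¬ IsMulCommutative T) :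
    ∃ s : Finset T, Subgroup.closure (s : Set T) = ⊤ ∧ 2 ^ (s.card + 1) ≤ Nat.card T := by
  classical
  have h60 := sixty_le hT
  obtain ⟨M, hM⟩ : ∃ M : Subgroup T, IsCoatom M := (IsCoatomic.eq_top_or_exists_le_coatom (⊥ : Subgroup T)).resolve_left bot_ne_top |>.imp fun _ h => h.1
  obtain ⟨s, hs, hcard⟩ := exists_gen_aux _ M rfl
  have h4 : 4 * Nat.card M ≤ Nat.card T := by
    rw [← M.card_mul_index, mul_comm 4]
    refine Nat.mul_le_mul_left _ ?_
    by_contra hlt
    push Not at hlt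
    haveI : Fintype (T ⧸ M) := Fintype.ofFinite _
    rcases IsSimpleGroup.eq_bot_or_eq_top_of_normal M.normalCore inferInstance with e | e
    · have hinj : Function.Injective (MulAction.toPermHom T (T ⧸ M)) := by
        rw [← MonoidHom.ker_eq_bot_iff, ← Subgroup.normalCore_eq_ker, e]
      have := Nat.card_le_card_of_injective _ hinj
      rw [Nat.card_perm, show Nat.card (T ⧸ M) = M.index from rfl] at this
      have := this.trans (Nat.factorial_le (show M.index ≤ 3 by omega))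
      norm_num [Nat.factorial] at this
      omega
    · exact hM.1 (top_le_iff.1 (e ▸ Subgroup.normalCore_le M))
  obtain ⟨x, hx⟩ : ∃ x, x ∉ M := by
    by_contra! hall
    exact hM.1 (top_le_iff.1 fun y _ => hall y)
  refine ⟨insert x (s.image M.subtype), ?_, ?_⟩
  · refine hM.2 _ (lt_of_le_of_ne ?_ fun e => hx (e.symm ▸ Subgroup.subset_closure (by simp)))
    have hgenM : M = Subgroup.closure (M.subtype '' (s : Set M)) := by
      rw [← MonoidHom.map_closure, hs, ← MonoidHom.range_eq_map, Subgroup.range_subtype]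
    refine hgenM.le.trans (Subgroup.closure_mono ?_)
    rw [Finset.coe_insert, Finset.coe_image]
    exact Set.subset_insert _ _
  · calc 2 ^ ((insert x (s.image M.subtype)).card + 1) ≤ 2 ^ (s.card + 2) :=
          Nat.pow_le_pow_right two_pos (Nat.succ_le_succ ((Finset.card_insert_le _ _).trans (Nat.succ_le_succ Finset.card_image_le)))
      _ ≤ Nat.card T := by rw [pow_add]; omega

variable {T : Type*} [Group T] [Finite T] [IsSimpleGroup T]

/-- The `i`-th factor. -/
abbrev U {k : ℕ} (i : Fin k) : Subgroup (Fin k → T) := (MonoidHom.mulSingle (fun _ : Fin k => T) i).range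

instance U_normal {k : ℕ} (i : Fin k) : (U (T := T) i).Normal := by
  refine ⟨fun x hx g => ?_⟩
  obtain ⟨t, rfl⟩ := hx
  refine ⟨g i * t * (g i)⁻¹, ?_⟩
  funext j
  rcases eq_or_ne j i with rfl | hj
  · simp
  · simp [Pi.mulSingle_eq_of_ne hj]

variable (hT : ¬ IsMulCommutative T)
include hT

theorem exists_factor_le {k : ℕ} {K : Subgroup (Fin k → T)} [K.Normal] (hK : K ≠ ⊥) : ∃ i, U i ≤ K := by
  obtain ⟨S, hS⟩ := Cfsg.Agent.S5913.result hT k K
  by_contra! hall
  refine hK ((Subgroup.eq_bot_iff_forall _).2 fun x hx => funext fun i => (hS x).1 hx i fun hi => hall i ?_)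
  rintro _ ⟨t, rfl⟩
  exact (hS _).2 fun j hj => Pi.mulSingle_eq_of_ne (fun e : j = i => hj (e.symm ▸ hi)) _

/-- Automorphisms permute the factors. -/
theorem exists_perm_map {k : ℕ} (ψ : MulAut (Fin k → T)) : ∃ σ : Equiv.Perm (Fin k), ∀ i, (U (T := T) i).map ψ.toMonoidHom = U (σ i) := by
  classical
  have hne : ∀ i : Fin k, U (T := T) i ≠ ⊥ := fun i e => by
    obtain ⟨t, ht⟩ := exists_ne (1 : T)
    have : (MonoidHom.mulSingle (fun _ : Fin k => T) i t) ∈ U (T := T) i := ⟨t, rfl⟩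
    rw [e, Subgroup.mem_bot] at this
    exact ht (by simpa using congrFun this i)
  have hinj : ∀ i j : Fin k, U (T := T) i ≤ U j → i = j := fun i j h => by
    by_contra hij
    refine hne i ((Subgroup.eq_bot_iff_forall _).2 ?_)
    rintro _ ⟨t, rfl⟩
    obtain ⟨s, hs⟩ := h ⟨t, rfl⟩
    have := congrFun hs i
    simp [Pi.mulSingle_eq_of_ne hij] at this
    simp [← this]
  have key : ∀ i, ∃ j, (U (T := T) i).map ψ.toMonoidHom = U j := by
    intro i
    haveI := (U_normal (T := T) i).map ψ.toMonoidHom ψ.surjective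
    obtain ⟨j, hj⟩ := exists_factor_le hT (K := (U (T := T) i).map ψ.toMonoidHom)
      fun e => hne i ((Subgroup.map_eq_bot_iff_of_injective _ ψ.injective).1 e)
    refine ⟨j, le_antisymm ?_ hj⟩
    haveI := (U_normal (T := T) j).comap ψ.toMonoidHom
    obtain ⟨l, hl⟩ := exists_factor_le hT (K := (U (T := T) j).comap ψ.toMonoidHom) fun e => hne j (by
      rw [← Subgroup.map_comap_eq_self_of_surjective (f := ψ.toMonoidHom) ψ.surjective (U (T := T) j), e, Subgroup.map_bot])
    have h2 : U (T := T) l ≤ U i := hl.trans fun x hx => by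
      obtain ⟨y, hy, hyx⟩ := hj hx
      rwa [← ψ.injective hyx]
    obtain rfl := hinj l i h2
    exact Subgroup.map_le_iff_le_comap.2 hl
  choose σ hσ using key
  have hσi : Function.Injective σ := fun a b e => hinj a b (le_of_eq (Subgroup.map_injective ψ.injective (by rw [hσ, hσ, e])))
  exact ⟨Equiv.ofBijective σ (Finite.injective_iff_bijective.1 hσi), hσ⟩

theorem coord_eq_one {k : ℕ} {ψ : MulAut (Fin k → T)} {σ : Equiv.Perm (Fin k)}
    (hσ : ∀ i, (U (T := T) i).map ψ.toMonoidHom = U (σ i)) {x : Fin k → T} {i : Fin k} (hx : x i = 1) : ψ x (σ i) = 1 := by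
  have hc : ∀ u : T, ψ x (σ i) * u = u * ψ x (σ i) := by
    intro u
    obtain ⟨y, ⟨t, rfl⟩, hy⟩ := (hσ i).ge ⟨u, rfl⟩
    have hcomm : x * MonoidHom.mulSingle (fun _ : Fin k => T) i t = MonoidHom.mulSingle (fun _ : Fin k => T) i t * x := by
      funext j
      rcases eq_or_ne j i with rfl | hj
      · simp [hx]
      · simp [Pi.mulSingle_eq_of_ne hj]
    have := congrFun (congrArg ψ hcomm) (σ i)
    rw [map_mul, map_mul, Pi.mul_apply, Pi.mul_apply,
      show ψ (MonoidHom.mulSingle (fun _ : Fin k => T) i t) = MonoidHom.mulSingle (fun _ : Fin k => T) (σ i) u from hy] at this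
    simpa using this
  have hmem : ψ x (σ i) ∈ Subgroup.center T := Subgroup.mem_center_iff.2 fun u => (hc u).symm
  rcases IsSimpleGroup.eq_bot_or_eq_top_of_normal (Subgroup.center T) inferInstance with e | e
  · rwa [e, Subgroup.mem_bot] at hmem
  · exact absurd ⟨⟨fun a b => Subgroup.mem_center_iff.1 (e.ge (Subgroup.mem_top b)) a⟩⟩ hT

theorem coord_eq {k : ℕ} {ψ : MulAut (Fin k → T)} {σ : Equiv.Perm (Fin k)}
    (hσ : ∀ i, (U (T := T) i).map ψ.toMonoidHom = U (σ i)) {x y : Fin k → T} {i : Fin k} (hxy : x i = y i) :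
    ψ x (σ i) = ψ y (σ i) := by
  have := coord_eq_one hT hσ (x := x * y⁻¹) (i := i) (by simp [hxy])
  rw [map_mul, map_inv, Pi.mul_apply, Pi.inv_apply, mul_inv_eq_one] at this
  exact this

/-- Nontrivial intersections with all factors give large composition length. -/
theorem le_cl : ∀ {k : ℕ} (D : Subgroup (Fin k → T)), (∀ i, D ⊓ U i ≠ ⊥) → k ≤ cl D := by
  intro k
  induction k with
  | zero => intro D _; exact Nat.zero_le _
  | succ k ih =>
    intro D hD
    let f : D →* T := (Pi.evalMonoidHom (fun _ : Fin (k + 1) => T) 0).comp D.subtype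
    rw [cl_eq_ker_add_range f]
    have hne : ∀ i, ∃ t : T, t ≠ 1 ∧ Pi.mulSingle i t ∈ D := fun i => by
      obtain ⟨⟨x, hxD, t, rfl⟩, hx1⟩ := Subgroup.ne_bot_iff_exists_ne_one.1 (hD i)
      exact ⟨t, fun e => hx1 (Subtype.ext (by simp [e])), hxD⟩
    have h1 : 1 ≤ cl f.range := by
      haveI : Nontrivial f.range := by
        obtain ⟨t, ht, hm⟩ := hne 0
        exact ⟨⟨⟨t, ⟨⟨_, hm⟩, by simp [f]⟩⟩, 1, fun e => ht (congrArg Subtype.val e)⟩⟩
      exact cl_pos
    let g : f.ker →* (Fin k → T) :=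
      { toFun := fun x j => x.1.1 j.succ
        map_one' := rfl
        map_mul' := fun _ _ => rfl }
    have hg : Function.Injective g := fun x y e => Subtype.ext (Subtype.ext (funext fun j => by
      refine Fin.cases ?_ (fun j => congrFun e j) j
      have hx : x.1.1 0 = 1 := x.2
      have hy : y.1.1 0 = 1 := y.2
      rw [hx, hy]))
    have h2 := ih g.range fun i hb => by
      obtain ⟨t, ht, hm⟩ := hne i.succ
      have hk : (⟨_, hm⟩ : D) ∈ f.ker := Pi.mulSingle_eq_of_ne (M := fun _ => T) (Fin.succ_ne_zero i).symm t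
      have h3 : g ⟨⟨_, hm⟩, hk⟩ ∈ g.range ⊓ U i := ⟨⟨_, rfl⟩, t, funext fun j => by
        show Pi.mulSingle (M := fun _ => T) i t j = Pi.mulSingle (M := fun _ => T) i.succ t j.succ
        simp [Pi.mulSingle_apply]⟩
      rw [hb, Subgroup.mem_bot] at h3
      exact ht (by simpa [g] using congrFun h3 i)
    rw [← cl_congr (MonoidHom.ofInjective hg)] at h2
    omega

/-- The dichotomy for invariant subgroups. -/
theorem dichotomy {k : ℕ} (Ψ : Set (MulAut (Fin k → T))) (D : Subgroup (Fin k → T))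
    (hD : ∀ ψ ∈ Ψ, D.map ψ.toMonoidHom = D)
    (hnorm : ∀ K : Subgroup (Fin k → T), K.Normal → (∀ ψ ∈ Ψ, K.map ψ.toMonoidHom ≤ K) → K = ⊥ ∨ K = ⊤)
    (hmaxi : ∀ X : Subgroup (Fin k → T), D ≤ X → (∀ ψ ∈ Ψ, X.map ψ.toMonoidHom ≤ X) → X = D ∨ X = ⊤) :
    k ≤ cl D ∨ Nat.card D ^ 2 ≤ Nat.card T ^ k := by
  classical
  have hperm := exists_perm_map hT (k := k)
  -- the factors met by `D`
  let K : Subgroup (Fin k → T) :=
    { carrier := {x | ∀ i, D ⊓ U i = ⊥ → x i = 1}
      one_mem' := fun i _ => rfl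
      mul_mem' := fun hx hy i hi => by simp [hx i hi, hy i hi]
      inv_mem' := fun hx i hi => by simp [hx i hi] }
  have hKn : K.Normal := ⟨fun x hx g i hi => by simp [hx i hi]⟩
  rcases hnorm K hKn (fun ψ hψ => by
    obtain ⟨σ, hσ⟩ := hperm ψ
    rintro _ ⟨x, hx, rfl⟩ j hj
    obtain ⟨i, rfl⟩ := σ.surjective j
    refine coord_eq_one hT hσ (hx i ?_)
    rw [← Subgroup.map_eq_bot_iff_of_injective _ (f := ψ.toMonoidHom) ψ.injective,
      Subgroup.map_inf_eq _ _ _ ψ.injective, hD ψ hψ, hσ, hj]) with hK | hK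
  swap
  · left
    refine le_cl hT D fun i hi => ?_
    obtain ⟨t, ht⟩ := exists_ne (1 : T)
    have := hK.ge (Subgroup.mem_top (Pi.mulSingle i t)) i hi
    simp [ht] at this
  right
  have hbot : ∀ i, D ⊓ U i = ⊥ := by
    intro i
    by_contra hi
    obtain ⟨t, ht⟩ := exists_ne (1 : T)
    have hm : Pi.mulSingle i t ∈ K := fun j hj => Pi.mulSingle_eq_of_ne (fun e : j = i => hi (e ▸ hj)) _
    rw [hK, Subgroup.mem_bot] at hm
    exact ht (by simpa using congrFun hm i)
  let X : Subgroup (Fin k → T) := Subgroup.pi Set.univ fun i => D.map (Pi.evalMonoidHom (fun _ => T) i)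
  have hDX : D ≤ X := fun x hx i _ => ⟨x, hx, rfl⟩
  rcases hmaxi X hDX (fun ψ hψ => by
    obtain ⟨σ, hσ⟩ := hperm ψ
    rintro _ ⟨x, hx, rfl⟩ j -
    obtain ⟨i, rfl⟩ := σ.surjective j
    obtain ⟨d, hd, hdx⟩ := hx i trivial
    exact ⟨ψ d, (hD ψ hψ).le ⟨d, hd, rfl⟩, (coord_eq hT hσ (show x i = d i from hdx.symm)).symm⟩) with hX | hX
  · have hDbot : D = ⊥ := by
      refine (Subgroup.eq_bot_iff_forall _).2 fun x hx => funext fun i => ?_
      by_contra hxi
      have hm : Pi.mulSingle i (x i) ∈ D ⊓ U i := by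
        refine ⟨hX.le fun j _ => ?_, ⟨x i, rfl⟩⟩
        rcases eq_or_ne j i with rfl | hj
        · exact ⟨x, hx, by simp⟩
        · exact ⟨1, D.one_mem, by simp [Pi.mulSingle_eq_of_ne hj]⟩
      rw [hbot, Subgroup.mem_bot] at hm
      exact hxi (by simpa using congrFun hm i)
    simp [hDbot, Nat.one_le_pow _ _ Nat.card_pos]
  -- subdirect case
  have hsurj : ∀ (i : Fin k) (t : T), ∃ d ∈ D, d i = t := fun i t => by
    obtain ⟨d, hd, hdt⟩ := hX.ge (Subgroup.mem_top (fun _ => t)) i trivial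
    exact ⟨d, hd, hdt⟩
  obtain ⟨S, hS, hSmin⟩ := exists_minimal_of_wellFoundedLT (fun S : Finset (Fin k) => ∀ x ∈ D, (∀ i ∈ S, x i = 1) → x = 1)
    ⟨Finset.univ, fun x _ h => funext fun i => h i (Finset.mem_univ i)⟩
  let Dk : Fin k → Subgroup (Fin k → T) := fun s =>
    { carrier := {x | x ∈ D ∧ ∀ i ∈ S, i ≠ s → x i = 1}
      one_mem' := ⟨D.one_mem, fun i _ _ => rfl⟩
      mul_mem' := fun hx hy => ⟨D.mul_mem hx.1 hy.1, fun i hi his => by simp [hx.2 i hi his, hy.2 i hi his]⟩
      inv_mem' := fun hx => ⟨D.inv_mem hx.1, fun i hi his => by simp [hx.2 i hi his]⟩ }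
  have hfull : ∀ (s j : Fin k) (x : Fin k → T), x ∈ Dk s → x j ≠ 1 → ∀ t : T, ∃ y ∈ Dk s, y j = t := by
    intro s j x hx hxj t
    have hn : ((Dk s).map (Pi.evalMonoidHom (fun _ => T) j)).Normal := by
      refine ⟨?_⟩
      rintro _ ⟨y, hy, rfl⟩ g
      obtain ⟨d, hd, rfl⟩ := hsurj j g
      exact ⟨d * y * d⁻¹, ⟨D.mul_mem (D.mul_mem hd hy.1) (D.inv_mem hd), fun i hi his => by simp [hy.2 i hi his]⟩, rfl⟩
    rcases hn.eq_bot_or_eq_top with e | e
    · exfalso
      have h : x j ∈ (Dk s).map (Pi.evalMonoidHom (fun _ => T) j) := ⟨x, hx, rfl⟩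
      rw [e, Subgroup.mem_bot] at h
      exact hxj h
    · obtain ⟨y, hy, hyt⟩ := e.ge (Subgroup.mem_top t)
      exact ⟨y, hy, hyt⟩
  have hj : ∀ s ∈ S, ∃ j, j ∉ S ∧ ∃ x ∈ Dk s, x j ≠ 1 := by
    intro s hs
    obtain ⟨x, hxD, hx, hx1⟩ : ∃ x ∈ D, (∀ i ∈ S.erase s, x i = 1) ∧ x ≠ 1 := by
      by_contra! hall
      have := hSmin (y := S.erase s) hall (Finset.erase_subset _ _) hs
      simp at this
    have hxk : x ∈ Dk s := ⟨hxD, fun i hi his => hx i (Finset.mem_erase.2 ⟨his, hi⟩)⟩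
    by_contra! hall
    refine hx1 ((Subgroup.eq_bot_iff_forall _).1 (hbot s) x ⟨hxD, x s, funext fun i => ?_⟩)
    rcases eq_or_ne i s with rfl | his
    · simp
    · by_cases hi : i ∈ S
      · simp [hxk.2 i hi his, Pi.mulSingle_eq_of_ne his]
      · simp [hall i hi x hxk, Pi.mulSingle_eq_of_ne his]
  choose! j hjS x hx hxj using hj
  have hjinj : Set.InjOn j S := by
    intro a ha b hb e
    by_contra hab
    refine hT ⟨⟨fun u v => ?_⟩⟩
    obtain ⟨y, hy, rfl⟩ := hfull a (j a) (x a) (hx a ha) (hxj a ha) u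
    obtain ⟨z, hz, rfl⟩ := hfull b (j a) (x b) (hx b hb) (e ▸ hxj b hb) v
    have h1 : y * z * (z * y)⁻¹ = 1 := by
      refine hS _ (D.mul_mem (D.mul_mem hy.1 hz.1) (D.inv_mem (D.mul_mem hz.1 hy.1))) fun i hi => ?_
      rcases eq_or_ne i a with rfl | hia
      · simp [hz.2 i hi hab]
      · simp [hy.2 i hi hia]
    exact congrFun (mul_inv_eq_one.1 h1) (j a)
  have h2S : S.card + S.card ≤ k := by
    have h1 : (S.image j).card = S.card := Finset.card_image_of_injOn hjinj
    have h2 : Disjoint S (S.image j) := Finset.disjoint_left.2 fun i hi hi' => by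
      obtain ⟨s, hs, rfl⟩ := Finset.mem_image.1 hi'
      exact hjS s hs hi
    have := Finset.card_le_univ (S ∪ S.image j)
    rw [Finset.card_union_of_disjoint h2, h1, Fintype.card_fin] at this
    exact this
  have hle : Nat.card D ≤ Nat.card (S → T) := Nat.card_le_card_of_injective (fun d i => d.1 i.1) fun d d' e =>
    Subtype.ext (mul_inv_eq_one.1 (hS _ (D.mul_mem d.2 (D.inv_mem d'.2)) fun i hi => by
      simp [show d.1 i = d'.1 i from congrFun e ⟨i, hi⟩]))
  rw [Nat.card_fun, Nat.card_eq_fintype_card (α := S), Fintype.card_coe] at hle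
  calc Nat.card D ^ 2 ≤ (Nat.card T ^ S.card) ^ 2 := Nat.pow_le_pow_left hle 2
    _ ≤ Nat.card T ^ k := by rw [← pow_mul]; exact Nat.pow_le_pow_right Nat.card_pos (by omega)

/-- A group acting faithfully by automorphisms on `T ^ k` is small. -/
theorem card_le {k : ℕ} {H : Type*} [Group H] (φ : H →* MulAut (Fin k → T)) (hφ : Function.Injective φ) {s : Finset T}
    (hs : Subgroup.closure (s : Set T) = ⊤) : Nat.card H ≤ k.factorial * Nat.card T ^ (k * s.card) := by
  classical
  choose σ hσ using fun h => exists_perm_map hT (φ h)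
  have hinj : Function.Injective fun h : H => (σ h, fun p : Fin k × s => φ h (Pi.mulSingle p.1 p.2.1) (σ h p.1)) := by
    intro a b e
    simp only [Prod.mk.injEq] at e
    apply hφ
    refine MulEquiv.ext fun x => ?_
    suffices h : x ∈ (φ a).toMonoidHom.eqLocus (φ b).toMonoidHom from h
    refine Subgroup.pi_mem_of_mulSingle_mem x fun i => ?_
    suffices h : Subgroup.closure (s : Set T) ≤ Subgroup.comap (MonoidHom.mulSingle (fun _ : Fin k => T) i) ((φ a).toMonoidHom.eqLocus (φ b).toMonoidHom) from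
      h (hs.symm ▸ Subgroup.mem_top (x i))
    refine (Subgroup.closure_le _).2 fun t ht => ?_
    show φ a (Pi.mulSingle i t) = φ b (Pi.mulSingle i t)
    obtain ⟨u, hu⟩ := (hσ a i).le ⟨_, ⟨t, rfl⟩, rfl⟩
    obtain ⟨v, hv⟩ := (hσ b i).le ⟨_, ⟨t, rfl⟩, rfl⟩
    change MonoidHom.mulSingle (fun _ : Fin k => T) (σ a i) u = φ a (Pi.mulSingle i t) at hu
    change MonoidHom.mulSingle (fun _ : Fin k => T) (σ b i) v = φ b (Pi.mulSingle i t) at hv
    have := congrFun e.2 (i, ⟨t, ht⟩)
    simp only [← hu, ← hv, MonoidHom.mulSingle_apply, Pi.mulSingle_eq_same] at this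
    rw [← hu, ← hv, e.1, this]
  haveI : Finite (MulAut (Fin k → T)) := Finite.of_injective _ MulEquiv.toEquiv_injective
  haveI : Finite H := Finite.of_injective _ hφ
  refine (Nat.card_le_card_of_injective _ hinj).trans_eq ?_
  rw [Nat.card_prod, Nat.card_perm, Nat.card_fun, Nat.card_prod, Nat.card_fin, Nat.card_eq_fintype_card (α := s), Fintype.card_coe]

omit hT in
theorem cl_pi : ∀ (k : ℕ), cl (Fin k → T) ≤ k := by
  intro k
  induction k with
  | zero => rw [cl_eq_zero]
  | succ k ih =>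
    let f : (Fin (k + 1) → T) →* T := Pi.evalMonoidHom (fun _ => T) 0
    rw [cl_eq_ker_add_range f]
    have hr : f.range = ⊤ := MonoidHom.range_eq_top.2 fun t => ⟨fun _ => t, rfl⟩
    rw [cl_congr ((MulEquiv.subgroupCongr hr).trans Subgroup.topEquiv)]
    let e : f.ker ≃* (Fin k → T) :=
      { toFun := fun x j => x.1 j.succ
        invFun := fun y => ⟨Fin.cons 1 y, by simp [f, MonoidHom.mem_ker]⟩
        left_inv := fun x => Subtype.ext (funext fun j => by
          refine Fin.cases ?_ (fun j => by simp) j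
          simp only [Fin.cons_zero]
          exact (show x.1 0 = 1 from x.2).symm)
        right_inv := fun y => funext fun j => by simp
        map_mul' := fun _ _ => rfl }
    rw [cl_congr e]
    have := cl_le_one (G := T)
    omega

omit [Group T] [Finite T] [IsSimpleGroup T] hT in
theorem numeric {k n clG g t : ℕ} (hk : 2 ≤ k) (ht : 60 ≤ t) (hg : 2 ^ (g + 1) ≤ t)
    (hn : t ^ k ≤ n ^ 2) (hcl : 2 ^ (clG - k) ≤ k.factorial * t ^ (k * g)) (hclk : k ≤ clG) : 3 * clG ≤ 4 * (n - 1) := by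
  obtain ⟨L, hL1, hL2⟩ : ∃ L, 2 ^ L ≤ t ∧ t < 2 ^ (L + 1) :=
    ⟨Nat.log 2 t, Nat.pow_log_le_self 2 (by omega), Nat.lt_pow_succ_log_self one_lt_two t⟩
  have hL : 5 ≤ L := by
    by_contra h
    have := hL2.trans_le (Nat.pow_le_pow_right two_pos (show L + 1 ≤ 5 by omega))
    norm_num at this
    omega
  have hgL : g + 1 ≤ L := by
    by_contra h
    exact absurd (hg.trans_lt hL2) (not_lt.2 (Nat.pow_le_pow_right two_pos (by omega)))
  have hfac : ∀ k, 2 ≤ k → k.factorial ≤ 2 ^ (k * (k - 1)) := by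
    intro k hk
    induction k, hk using Nat.le_induction with
    | base => norm_num [Nat.factorial]
    | succ k hk ih =>
      rw [Nat.factorial_succ, show (k + 1) * (k + 1 - 1) = k * (k - 1) + (k + k) by
        obtain ⟨m, rfl⟩ := Nat.exists_eq_add_of_le hk; simp; ring, pow_add, mul_comm]
      exact Nat.mul_le_mul ih (Nat.succ_le_of_lt (lt_of_lt_of_le Nat.lt_two_pow_self (Nat.pow_le_pow_right two_pos (by omega))))
  have hexp : clG - k ≤ k * (k - 1) + k * (L - 1) * (L + 1) := by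
    have h1 : 2 ^ (clG - k) ≤ 2 ^ (k * (k - 1) + k * (L - 1) * (L + 1)) := by
      refine hcl.trans ?_
      rw [pow_add, show k * (L - 1) * (L + 1) = (L + 1) * (k * (L - 1)) by ring, pow_mul 2 (L + 1)]
      exact Nat.mul_le_mul (hfac k hk) ((Nat.pow_le_pow_left hL2.le _).trans
        (Nat.pow_le_pow_right (Nat.two_pow_pos _) (Nat.mul_le_mul_left _ (by omega))))
    exact (Nat.pow_le_pow_iff_right one_lt_two).1 h1
  obtain ⟨L, rfl⟩ : ∃ m, L = m + 1 := ⟨L - 1, by omega⟩
  have hbig : (3 * k * (k + L * L + 2 * L) + 4) ^ 2 ≤ 16 * t ^ k := by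
    have step : ∀ {b : ℕ}, 9 ≤ b → (3 * 2 * (2 + L * L + 2 * L) + 4) ^ 2 ≤ 16 * b ^ 2 →
        (3 * k * (k + L * L + 2 * L) + 4) ^ 2 ≤ 16 * b ^ k := by
      intro b hb hbase
      clear hn hcl hclk hexp
      induction k, hk using Nat.le_induction with
      | base => exact hbase
      | succ k hk ih =>
        calc (3 * (k + 1) * (k + 1 + L * L + 2 * L) + 4) ^ 2 ≤ (3 * (3 * k * (k + L * L + 2 * L) + 4)) ^ 2 :=
              Nat.pow_le_pow_left (by nlinarith) 2
          _ = 9 * (3 * k * (k + L * L + 2 * L) + 4) ^ 2 := by ring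
          _ ≤ b * (16 * b ^ k) := Nat.mul_le_mul hb ih
          _ = 16 * b ^ (k + 1) := by ring
    rcases eq_or_lt_of_le hL with h5 | h6
    · obtain rfl : L = 4 := by omega
      exact (step (b := 60) (by norm_num) (by norm_num)).trans (Nat.mul_le_mul_left _ (Nat.pow_le_pow_left ht k))
    · have hh : ∀ m, 5 ≤ m → 3 * 2 * (2 + m * m + 2 * m) + 4 ≤ 4 * 2 ^ (m + 1) := by
        intro m hm
        induction m, hm using Nat.le_induction with
        | base => norm_num
        | succ m hm ih => rw [pow_succ 2 (m + 1)]; nlinarith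
      refine (step (b := 2 ^ (L + 1)) ?_ ?_).trans (Nat.mul_le_mul_left _ (Nat.pow_le_pow_left hL1 k))
      · exact le_trans (by norm_num) (Nat.pow_le_pow_right two_pos (show 4 ≤ L + 1 by omega))
      · refine (Nat.pow_le_pow_left (hh L (by omega)) 2).trans_eq ?_
        ring
  have h4n : 3 * k * (k + L * L + 2 * L) + 4 ≤ 4 * n := by
    refine (Nat.pow_le_pow_iff_left (two_ne_zero)).1 (hbig.trans ?_)
    rw [mul_pow]
    exact Nat.mul_le_mul_left _ hn
  have h5 : clG ≤ k * (k + L * L + 2 * L) := by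
    have e : k * (k + L * L + 2 * L) = k + (k * (k - 1) + k * (L + 1 - 1) * (L + 1 + 1)) := by
      obtain ⟨m, rfl⟩ := Nat.exists_eq_add_of_le hk
      simp only [Nat.add_sub_cancel, show 2 + m - 1 = m + 1 by omega]
      ring
    omega
  rw [mul_assoc] at h4n
  omega

end Cfsg.Lib.PowerSimple
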