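import Mathlib
import Cfsg.Agent.S5914
import Cfsg.Agent.Lib.Solv.MinNormal
import Cfsg.Agent.Lib.Classical.CompLength
import Cfsg.Agent.Lib.Classical.PowerSimple

/-!
# Composition length of permutation groups: `3 c(G) ≤ 4 (n - r)`
-/

set_option autoImplicit false
set_option linter.style.haveILetI false

namespace Cfsg.Lib.CompLenPerm

open Cfsg.Lib.CompLen
open scoped Pointwise

theorem pow_arith {p d : ℕ} (hp : 2 ≤ p) (hd : 2 ≤ d) (hsp : p = 2 → 4 ≤ d) :
    3 * (d + (p - 1) * (d * d)) ≤ 4 * (p ^ d - 1) := by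
  have hbase : ∀ q, 3 ≤ q → 3 * (2 + (q - 1) * (2 * 2)) + 4 ≤ 4 * q ^ 2 := fun q hq => by
    obtain ⟨m, rfl⟩ := Nat.exists_eq_add_of_le hq
    simp only [show 3 + m - 1 = 2 + m by omega]
    nlinarith
  have key : 3 * (d + (p - 1) * (d * d)) + 4 ≤ 4 * p ^ d := by
    rcases eq_or_lt_of_le hp with h2 | h3
    · subst h2
      induction d, hsp rfl using Nat.le_induction with
      | base => norm_num
      | succ m hm ih =>
        have := ih (by omega) fun _ => hm
        rw [pow_succ]
        norm_num at this ⊢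
        nlinarith
    · induction d, hd using Nat.le_induction with
      | base => exact hbase p h3
      | succ m hm ih =>
        have := ih (fun h => by omega)
        obtain ⟨q, rfl⟩ := Nat.exists_eq_add_of_le (show 1 ≤ p by omega)
        simp only [Nat.add_sub_cancel_left] at this ⊢
        have hq : q * ((m + 1) * (m + 1)) ≤ q * (3 * (m * m)) := Nat.mul_le_mul_left q (by nlinarith)
        calc 3 * (m + 1 + q * ((m + 1) * (m + 1))) + 4 ≤ 3 * (3 * (m + q * (m * m)) + 4) := by nlinarith
          _ ≤ (1 + q) * (4 * (1 + q) ^ m) := Nat.mul_le_mul (by omega) this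
          _ = 4 * (1 + q) ^ (m + 1) := by ring
  omega

theorem linear_bound {p : ℕ} [hp' : Fact p.Prime] {V H : Type*} [AddCommGroup V] [Module (ZMod p) V] [Finite V]
    [Group H] [Finite H] (act : H → V →+ V) (hact1 : ∀ x, act 1 x = x) (hact : ∀ a b x, act (a * b) x = act a (act b x))
    (hinj : Function.Injective act) (c : ℕ)
    (hc : ∀ d, Nat.card V = p ^ d → c ≤ d) (hA : 2 ≤ Nat.card V)
    (hH : 3 * cl H ≤ 4 * (Nat.card V - 2)) : 3 * (c + cl H) ≤ 4 * (Nat.card V - 1) := by
  classical
  have hp := hp'.out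
  let rep : H →* Module.End (ZMod p) V :=
    { toFun := fun h => (act h).toZModLinearMap p
      map_one' := LinearMap.ext fun x => hact1 x
      map_mul' := fun a b => LinearMap.ext fun x => hact a b x }
  have hrep : Function.Injective rep := fun a b e => hinj (AddMonoidHom.ext fun x => LinearMap.congr_fun e x)
  set d := Module.finrank (ZMod p) V with hd
  have hcard : Nat.card V = p ^ d := by
    rw [hd, Nat.card_congr (Module.finBasis (ZMod p) V).equivFun.toEquiv, Nat.card_fun, Nat.card_fin, Nat.card_zmod]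
  have hclN := hc d hcard
  let b := Module.finBasis (ZMod p) V
  let mat : H →* GL (Fin d) (ZMod p) :=
    ((LinearMap.toMatrixAlgEquiv b).toAlgHom.toRingHom.toMonoidHom.comp rep).toHomUnits
  have hmat : Function.Injective mat := by
    rw [injective_iff_map_eq_one]
    intro h hh
    have h1 : rep h = 1 := (LinearMap.toMatrixAlgEquiv b).injective (by
      rw [map_one]; exact congrArg Units.val hh)
    exact hrep (by rw [h1, map_one])
  have hdvd : Nat.card H ∣ Nat.card (GL (Fin d) (ZMod p)) := Subgroup.card_dvd_of_injective mat hmat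
  have hd0 : d ≠ 0 := fun h0 => by rw [hcard, h0, pow_zero] at hA; omega
  by_cases hd1 : d = 1
  · omega
  by_cases h4 : p = 2 ∧ d < 4
  · obtain ⟨rfl, hlt⟩ := h4
    have : d = 2 ∨ d = 3 := by omega
    rcases this with h | h
    · have hV : Nat.card V = 4 := by rw [hcard, h]; norm_num
      rw [hV] at hH ⊢
      omega
    · have h168 : Nat.card (GL (Fin d) (ZMod 2)) = 168 := by
        rw [Matrix.card_GL_field, h]; decide
      have : cl H ≤ 5 := by
        refine cl_le_cardFactors.trans (le_trans ?_ (show ArithmeticFunction.cardFactors 168 ≤ 5 by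
          norm_num [ArithmeticFunction.cardFactors_apply, Nat.primeFactorsList]))
        obtain ⟨c, hc⟩ := hdvd
        rw [h168] at hc
        rw [hc, ArithmeticFunction.cardFactors_mul Nat.card_pos.ne' (fun e => by simp [e] at hc)]
        omega
      rw [hcard, h]; norm_num; omega
  · have h1 : 2 ^ cl H ≤ 2 ^ ((p - 1) * (d * d)) := by
      refine two_pow_cl_le.trans ((Nat.card_le_card_of_injective (fun h => ((mat h : GL (Fin d) (ZMod p)) : Matrix (Fin d) (Fin d) (ZMod p)))
        (Function.Injective.comp (g := Units.val) (fun _ _ e => Units.ext e) hmat)).trans ?_)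
      rw [Nat.card_eq_fintype_card]
      rw [← Nat.card_eq_fintype_card]
      show Nat.card (Fin d → Fin d → ZMod p) ≤ _
      rw [Nat.card_fun, Nat.card_fun, Nat.card_zmod, Nat.card_fin]
      rw [← pow_mul, pow_mul 2 (p - 1)]
      exact Nat.pow_le_pow_left (by have := hp.pos; have := Nat.lt_two_pow_self (n := p - 1); omega) _
    have h2 := (Nat.pow_le_pow_iff_right one_lt_two).1 h1
    have h3 := pow_arith hp.two_le (show 2 ≤ d by omega) (fun e => by omega)
    rw [hcard]
    omega

theorem abelian_bound {A H : Type*} [CommGroup A] [Finite A] [Group H] [Finite H] (ρ : H →* MulAut A)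
    (hρ : Function.Injective ρ) {p : ℕ} (hp : p.Prime) (hexp : ∀ x : A, x ^ p = 1) (hA : 2 ≤ Nat.card A)
    (hH : 3 * cl H ≤ 4 * (Nat.card A - 2)) : 3 * (cl A + cl H) ≤ 4 * (Nat.card A - 1) := by
  letI : Module (ZMod p) (Additive A) := AddCommGroup.zmodModule (fun x => by
    show Additive.ofMul (Additive.toMul x ^ p) = 0
    rw [hexp]; rfl)
  haveI := Fact.mk hp
  refine linear_bound (p := p) (V := Additive A) (fun h => (ρ h).toMonoidHom.toAdditive) (fun x => ?_) (fun a b x => ?_) ?_
    (cl A) (fun d hd => ?_) hA hH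
  · show Additive.ofMul (ρ 1 (Additive.toMul x)) = x
    rw [map_one]; rfl
  · show Additive.ofMul (ρ (a * b) (Additive.toMul x)) = Additive.ofMul (ρ a (ρ b (Additive.toMul x)))
    rw [map_mul]; rfl
  · intro a b e
    exact hρ (MulEquiv.ext fun x => congrArg Additive.toMul (DFunLike.congr_fun e (Additive.ofMul x)))
  · refine cl_le_cardFactors.trans ?_
    rw [show Nat.card A = p ^ d from hd, ArithmeticFunction.cardFactors_apply_prime_pow hp]

theorem nonabelian_bound {G : Type*} [Group G] [Finite G] (N : Subgroup G) [N.Normal] (H : Subgroup G) (n : ℕ)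
    (hHmax : IsCoatom H) (hHN : H ⊔ N = ⊤) (hne : N ≠ ⊥) (hna : ¬ IsMulCommutative N)
    (hmin : ∀ K : Subgroup G, K.Normal → K ≤ N → K = ⊥ ∨ K = N)
    (hinj : ∀ h ∈ H, (∀ x ∈ N, h * x * h⁻¹ = x) → h = 1)
    (hn : Nat.card N = n * Nat.card (H.subgroupOf N)) (hn2 : 2 ≤ n) (hH : 3 * cl H ≤ 4 * (n - 2)) :
    3 * (cl N + cl H) ≤ 4 * (n - 1) + 3 * cl (H.subgroupOf N) := by
  classical
  haveI : Nontrivial N := N.nontrivial_iff_ne_bot.2 hne
  obtain ⟨T, iT, hTs, k, hk, ⟨e⟩⟩ := (Cfsg.Agent.S5914.result (G := N)).1 fun K hK => by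
    haveI := hK
    rcases hmin (K.map N.subtype) inferInstance (Subgroup.map_subtype_le K) with h | h
    · exact Or.inl ((Subgroup.map_eq_bot_iff_of_injective _ N.subtype_injective).1 h)
    · refine Or.inr (Subgroup.map_injective N.subtype_injective ?_)
      rw [h, ← MonoidHom.range_eq_map, Subgroup.range_subtype]
  haveI : Finite (Fin k → T) := Finite.of_equiv N e.toEquiv
  haveI : Nonempty (Fin k) := ⟨⟨0, hk⟩⟩
  haveI : Finite T := Finite.of_surjective (fun x : Fin k → T => x ⟨0, hk⟩) fun t => ⟨fun _ => t, rfl⟩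
  have hT : ¬ IsMulCommutative T := fun h => hna ⟨⟨fun a b => e.injective (by
    rw [map_mul, map_mul]; funext i; exact h.is_comm.comm _ _)⟩⟩
  have hclN : cl N ≤ k := by rw [cl_congr e]; exact Cfsg.Lib.PowerSimple.cl_pi k
  let φ : H →* MulAut (Fin k → T) := (MulAut.congr e).toMonoidHom.comp (MulAut.conjNormal.comp H.subtype)
  have hφ : ∀ (h : H) (x : N), φ h (e x) = e (MulAut.conjNormal (h : G) x) := fun h x => by
    simp [φ, MulAut.congr]
  have hφi : Function.Injective φ := by
    rw [injective_iff_map_eq_one]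
    intro h hh
    refine Subtype.ext (hinj h h.2 fun x hx => ?_)
    have := hφ h ⟨x, hx⟩
    rw [hh] at this
    exact congrArg Subtype.val (e.injective this).symm
  set D := (H.subgroupOf N).map e.toMonoidHom with hDdef
  have hclD : cl D = cl (H.subgroupOf N) := (cl_congr ((H.subgroupOf N).equivMapOfInjective e.toMonoidHom e.injective)).symm
  -- translation of invariant subgroups
  let back : Subgroup (Fin k → T) → Subgroup G := fun K => (K.comap e.toMonoidHom).map N.subtype
  have hback : ∀ (K : Subgroup (Fin k → T)) (x : N), (x : G) ∈ back K ↔ e x ∈ K := fun K x => by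
    constructor
    · rintro ⟨y, hy, hyx⟩
      rwa [Subtype.ext (a1 := y) (a2 := x) hyx] at hy
    · exact fun h => ⟨x, h, rfl⟩
  have hbackN : ∀ K, back K ≤ N := fun K => Subgroup.map_subtype_le _
  have hHnorm : ∀ K : Subgroup (Fin k → T), (∀ ψ ∈ Set.range φ, K.map ψ.toMonoidHom ≤ K) →
      H ≤ Subgroup.normalizer (back K : Set G) := by
    intro K hK
    have h1 : ∀ h ∈ H, ∀ x ∈ back K, h * x * h⁻¹ ∈ back K := by
      intro h hh x hx
      have hxN := hbackN K hx
      have h2 := hK _ ⟨⟨h, hh⟩, rfl⟩ ⟨e ⟨x, hxN⟩, (hback K ⟨x, hxN⟩).1 hx, rfl⟩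
      change φ ⟨h, hh⟩ (e ⟨x, hxN⟩) ∈ K at h2
      rw [hφ] at h2
      exact (hback K _).2 h2
    intro h hh
    refine Subgroup.mem_normalizer_iff.2 fun x => ⟨h1 h hh x, fun hx => ?_⟩
    have := h1 h⁻¹ (H.inv_mem hh) _ hx
    rwa [show h⁻¹ * (h * x * h⁻¹) * h⁻¹⁻¹ = x by group] at this
  have htop : ∀ K : Subgroup (Fin k → T), back K = N → K = ⊤ := fun K h => top_le_iff.1 fun y _ => by
    obtain ⟨x, rfl⟩ := e.surjective y
    exact (hback K x).1 (h.ge x.2)
  rcases Cfsg.Lib.PowerSimple.dichotomy hT (Set.range φ) D (by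
      rintro _ ⟨h, rfl⟩
      have hle : D.map (φ h).toMonoidHom ≤ D := by
        rintro _ ⟨_, ⟨x, hx, rfl⟩, rfl⟩
        refine ⟨MulAut.conjNormal (h : G) x, ?_, (hφ h x).symm⟩
        show (h : G) * x * (h : G)⁻¹ ∈ H
        exact H.mul_mem (H.mul_mem h.2 hx) (H.inv_mem h.2)
      exact Subgroup.eq_of_le_of_card_ge hle (Nat.card_congr (D.equivMapOfInjective (φ h).toMonoidHom (φ h).injective).toEquiv).le)
    (fun K hKn hK => by
      have hn' : (back K).Normal := by
        rw [← Subgroup.normalizer_eq_top_iff, eq_top_iff, ← hHN, sup_le_iff]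
        refine ⟨hHnorm K hK, fun g hg => Subgroup.mem_normalizer_iff.2 fun x => ?_⟩
        have key : ∀ u : N, ∀ y ∈ back K, (u : G) * y * (u : G)⁻¹ ∈ back K := fun u y hy => by
          refine (hback K (u * ⟨y, hbackN K hy⟩ * u⁻¹)).2 ?_
          rw [map_mul, map_mul, map_inv]
          exact hKn.conj_mem _ ((hback K ⟨y, hbackN K hy⟩).1 hy) _
        refine ⟨key ⟨g, hg⟩ x, fun hx => ?_⟩
        have := key ⟨g⁻¹, N.inv_mem hg⟩ _ hx
        rwa [show g⁻¹ * (g * x * g⁻¹) * g⁻¹⁻¹ = x by group] at this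
      rcases hmin _ hn' (hbackN K) with h | h
      · left
        refine (Subgroup.eq_bot_iff_forall _).2 fun y hy => ?_
        obtain ⟨x, rfl⟩ := e.surjective y
        have := (hback K x).2 hy
        rw [h, Subgroup.mem_bot] at this
        rw [show x = 1 from Subtype.ext this, map_one]
      · exact Or.inr (htop K h))
    (fun X hDX hX => by
      have hsup := Subgroup.coe_mul_of_right_le_normalizer_left (back X) H (hHnorm X hX)
      rcases (show back X ⊔ H = ⊤ ∨ back X ⊔ H = H from
        (eq_or_lt_of_le (le_sup_right : H ≤ back X ⊔ H)).elim (fun h => Or.inr h.symm) (fun h => Or.inl (hHmax.2 _ h))) with h | h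
      · right
        refine htop X (le_antisymm (hbackN X) fun x hx => ?_)
        have hx' : x ∈ ((back X ⊔ H : Subgroup G) : Set G) := by rw [h]; trivial
        rw [hsup] at hx'
        obtain ⟨y, hy, h', hh', rfl⟩ := hx'
        have hhN : h' ∈ N := by simpa using N.mul_mem (N.inv_mem (hbackN X hy)) hx
        exact (back X).mul_mem hy ((hback X ⟨h', hhN⟩).2 (hDX ⟨⟨h', hhN⟩, hh', rfl⟩))
      · left
        refine le_antisymm (fun y hy => ?_) hDX
        obtain ⟨x, rfl⟩ := e.surjective y
        exact ⟨x, (le_sup_left.trans h.le) ((hback X x).2 hy), rfl⟩) with h | h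
  · omega
  by_cases hk1 : k = 1
  · omega
  obtain ⟨s, hs, hscard⟩ := Cfsg.Lib.PowerSimple.exists_gen hT
  have hcardN : Nat.card N = Nat.card T ^ k := by rw [Nat.card_congr e.toEquiv, Nat.card_fun, Nat.card_fin]
  have hpos : 0 < Nat.card T ^ k := pow_pos Nat.card_pos k
  have hn' : Nat.card T ^ k ≤ n ^ 2 := by
    refine Nat.le_of_mul_le_mul_right ?_ hpos
    calc Nat.card T ^ k * Nat.card T ^ k = n ^ 2 * Nat.card D ^ 2 := by
          rw [hDdef, Subgroup.card_map_of_injective e.injective, ← hcardN, hn]; ring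
      _ ≤ n ^ 2 * Nat.card T ^ k := Nat.mul_le_mul_left _ h
  have := Cfsg.Lib.PowerSimple.numeric (clG := k + cl H) (show 2 ≤ k by omega) (Cfsg.Lib.PowerSimple.sixty_le hT) hscard hn'
    (by rw [Nat.add_sub_cancel_left]; exact two_pow_cl_le.trans (Cfsg.Lib.PowerSimple.card_le hT φ hφi hs)) (Nat.le_add_right _ _)
  omega

/-- The primitive case. -/
theorem primitive_case {G Ω : Type*} [Group G] [Finite G] [Finite Ω] [MulAction G Ω] [FaithfulSMul G Ω]
    (hprim : MulAction.IsPreprimitive G Ω) (a : Ω) (hn : 2 ≤ Nat.card Ω)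
    (hH : 3 * cl (MulAction.stabilizer G a) + 4 ≤ 4 * (Nat.card Ω - 1)) :
    3 * cl G ≤ 4 * (Nat.card Ω - 1) := by
  classical
  haveI : Nontrivial Ω := Finite.one_lt_card_iff_nontrivial.1 hn
  haveI : Nontrivial G := by
    by_contra hG
    rw [not_nontrivial_iff_subsingleton] at hG
    obtain ⟨b, hb⟩ := exists_ne a
    obtain ⟨g, hg⟩ := MulAction.exists_smul_eq G a b
    rw [Subsingleton.elim g 1, one_smul] at hg
    exact hb hg.symm
  obtain ⟨N, hNn, -, hN1, hmin⟩ := Cfsg.Lib.Solv.exists_minimal_normal_le (G := G) (N := ⊤) top_ne_bot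
  haveI := hNn
  have hNt : MulAction.IsPretransitive N Ω := by
    refine MulAction.IsQuasiPreprimitive.isPretransitive_of_normal fun e => hN1 ((Subgroup.eq_bot_iff_forall _).2 fun x hx => eq_of_smul_eq_smul (α := Ω) fun ω => ?_)
    rw [one_smul]
    exact (Set.eq_univ_iff_forall.1 e ω) ⟨x, hx⟩
  set H := MulAction.stabilizer G a with hHdef
  have hHmax : IsCoatom H := (MulAction.isCoatom_stabilizer_iff_preprimitive G a).2 hprim
  have hmove : ∀ g : G, ∃ x ∈ N, x⁻¹ * g ∈ H := fun g => by
    obtain ⟨⟨x, hx⟩, hxa⟩ := MulAction.exists_smul_eq N a (g • a)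
    refine ⟨x, hx, ?_⟩
    change x • a = g • a at hxa
    rw [hHdef, MulAction.mem_stabilizer_iff, mul_smul, inv_smul_eq_iff, hxa]
  have hHN : H ⊔ N = ⊤ := top_le_iff.1 fun g _ => by
    obtain ⟨x, hx, hxg⟩ := hmove g
    have := (H ⊔ N).mul_mem (Subgroup.mem_sup_right hx) (Subgroup.mem_sup_left hxg)
    rwa [mul_inv_cancel_left] at this
  have hinj : ∀ h ∈ H, (∀ x ∈ N, h * x * h⁻¹ = x) → h = 1 := fun h hh hc => eq_of_smul_eq_smul (α := Ω) fun ω => by
    obtain ⟨⟨x, hx⟩, rfl⟩ := MulAction.exists_smul_eq N a ω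
    show h • x • a = (1 : G) • x • a
    rw [one_smul, ← mul_smul, show h * x = x * h by rw [← mul_inv_eq_iff_eq_mul]; exact hc x hx, mul_smul,
      MulAction.mem_stabilizer_iff.1 hh]
  have hcardN : Nat.card N = Nat.card Ω * Nat.card (H.subgroupOf N) := by
    rw [show H.subgroupOf N = MulAction.stabilizer N a from rfl, ← MulAction.index_stabilizer_of_transitive N a,
      mul_comm, Subgroup.card_mul_index]
  -- additivity
  let f : H →* G ⧸ N := (QuotientGroup.mk' N).comp H.subtype
  have hf : f.range = ⊤ := MonoidHom.range_eq_top.2 fun q => by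
    obtain ⟨g, rfl⟩ := QuotientGroup.mk'_surjective N q
    obtain ⟨x, hx, hxg⟩ := hmove g
    refine ⟨⟨_, hxg⟩, ?_⟩
    show QuotientGroup.mk' N (x⁻¹ * g) = QuotientGroup.mk' N g
    rw [map_mul, map_inv, show QuotientGroup.mk' N x = 1 from (QuotientGroup.eq_one_iff x).2 hx, inv_one, one_mul]
  have h1 := cl_eq_ker_add_range f
  rw [cl_congr ((MulEquiv.subgroupCongr hf).trans Subgroup.topEquiv)] at h1
  have hker : cl f.ker = cl (H.subgroupOf N) := by
    have hk : f.ker = N.subgroupOf H := by ext x; simp [f, MonoidHom.mem_ker, Subgroup.mem_subgroupOf]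
    rw [cl_congr (MulEquiv.subgroupCongr hk)]
    let e : N.subgroupOf H ≃* H.subgroupOf N :=
      { toFun := fun x => ⟨⟨x.1.1, x.2⟩, x.1.2⟩
        invFun := fun x => ⟨⟨x.1.1, x.2⟩, x.1.2⟩
        left_inv := fun _ => rfl
        right_inv := fun _ => rfl
        map_mul' := fun _ _ => rfl }
    exact cl_congr e
  have h2 := cl_eq_add_quot N
  suffices h3 : 3 * (cl N + cl H) ≤ 4 * (Nat.card Ω - 1) + 3 * cl (H.subgroupOf N) by omega
  by_cases hab : IsMulCommutative N
  · haveI := hab
    obtain ⟨-, p, hp, -, hexp⟩ := Cfsg.Lib.Solv.minimal_normal_elementary hN1 (Group.isSolvable_of_comm fun x y => mul_comm' x y) hmin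
    have hreg : H.subgroupOf N = ⊥ := (Subgroup.eq_bot_iff_forall _).2 fun x hx => Subtype.ext (hinj x.1 hx fun y hy => by
      rw [show (x : G) * y = y * x from congrArg Subtype.val (mul_comm' x (⟨y, hy⟩ : N)), mul_inv_cancel_right])
    rw [hreg, Subgroup.card_bot, mul_one] at hcardN
    letI : CommGroup N := { (inferInstance : Group N) with mul_comm := fun x y => mul_comm' x y }
    have hinj' : Function.Injective (MulAut.conjNormal.comp H.subtype : H →* MulAut N) := by
      rw [injective_iff_map_eq_one]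
      intro h hh
      refine Subtype.ext (hinj h h.2 fun x hx => ?_)
      exact congrArg Subtype.val (DFunLike.congr_fun hh (⟨x, hx⟩ : N))
    have := abelian_bound _ hinj' hp (fun x => Subtype.ext (hexp _ x.2)) (by rw [hcardN]; omega) (by rw [hcardN]; omega)
    omega
  · exact nonabelian_bound N H _ hHmax hHN hN1 hab hmin hinj hcardN hn (by omega)

universe v

theorem faithful_range {G Ω : Type*} [Group G] [Finite G] [MulAction G Ω] [FaithfulSMul G Ω] [Finite Ω] :
    cl G = cl (MulAction.toPermHom G Ω).range :=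
  cl_congr (MonoidHom.ofInjective MulAction.toPerm_injective)

theorem main_aux : ∀ (n : ℕ) (Ω : Type v) [Finite Ω], Nat.card Ω = n → ∀ (G : Subgroup (Equiv.Perm Ω)) (R : Finset Ω),
    (∀ x ∈ R, ∀ y ∈ R, y ∈ MulAction.orbit G x → x = y) → 3 * cl G + 4 * R.card ≤ 4 * n := by
  intro n
  induction n using Nat.strong_induction_on with
  | _ n ih =>
  intro Ω _ hn G R hR
  classical
  haveI : Fintype Ω := Fintype.ofFinite Ω
  -- the induction hypothesis for an arbitrary faithful action
  have hIH : ∀ {K : Type v} {Ω' : Type v} [Group K] [Finite K] [Finite Ω'] [MulAction K Ω'] [FaithfulSMul K Ω'],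
      Nat.card Ω' < n → ∀ R' : Finset Ω', (∀ x ∈ R', ∀ y ∈ R', y ∈ MulAction.orbit K x → x = y) →
      3 * cl K + 4 * R'.card ≤ 4 * Nat.card Ω' := by
    intro K Ω' _ _ _ _ _ hlt R' hR'
    rw [faithful_range (G := K) (Ω := Ω')]
    refine ih _ hlt Ω' rfl _ R' fun x hx y hy h => hR' x hx y hy ?_
    obtain ⟨⟨_, k, rfl⟩, rfl⟩ := h
    exact ⟨k, rfl⟩
  rcases isEmpty_or_nonempty Ω with hE | hE
  · haveI : Subsingleton G := ⟨fun g h => Subtype.ext (Equiv.ext fun x => hE.elim x)⟩
    have : R = ∅ := Finset.eq_empty_of_isEmpty R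
    simp [this, cl_eq_zero]
  obtain ⟨a, ha⟩ : ∃ a, R.Nonempty → a ∈ R := by
    by_cases h : R.Nonempty
    · exact ⟨h.choose, fun _ => h.choose_spec⟩
    · exact ⟨Classical.arbitrary Ω, fun h' => absurd h' h⟩
  by_cases htr : MulAction.orbit G a = Set.univ
  swap
  · -- intransitive
    let p : SubMulAction G Ω := ⟨MulAction.orbit G a, fun g x hx => by
      rw [← MulAction.orbit_eq_iff.2 hx]; exact MulAction.mem_orbit x g⟩
    let q : SubMulAction G Ω := ⟨(MulAction.orbit G a)ᶜ, fun g x hx h => hx (by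
      have := MulAction.mem_orbit_iff.1 h
      obtain ⟨k, hk⟩ := this
      exact ⟨g⁻¹ * k, by simp only [mul_smul, hk, inv_smul_smul]⟩)⟩
    have hpq : Nat.card p + Nat.card q = n := by
      rw [← hn]
      exact (Set.ncard_add_ncard_compl (MulAction.orbit G a) : _)
    have hppos : 0 < Nat.card p := Nat.card_pos_iff.2 ⟨⟨⟨a, MulAction.mem_orbit_self a⟩⟩, inferInstance⟩
    have hqpos : 0 < Nat.card q := by
      obtain ⟨b, hb⟩ := (Set.ne_univ_iff_exists_notMem _).1 htr
      exact Nat.card_pos_iff.2 ⟨⟨⟨b, hb⟩⟩, inferInstance⟩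
    let f : G →* Equiv.Perm p := MulAction.toPermHom G p
    rw [cl_eq_ker_add_range f]
    haveI : FaithfulSMul f.ker q := ⟨fun {g h} e => Subtype.ext (Subtype.ext (Equiv.ext fun x => by
      by_cases hx : x ∈ MulAction.orbit G a
      · have hg : (f g.1) ⟨x, hx⟩ = (f h.1) ⟨x, hx⟩ := by rw [g.2, h.2]
        exact congrArg Subtype.val hg
      · exact congrArg Subtype.val (e ⟨x, hx⟩)))⟩
    have h1 : 3 * cl f.range + 4 ≤ 4 * Nat.card p := by
      have := hIH (K := f.range) (Ω' := p) (by omega) {⟨a, MulAction.mem_orbit_self a⟩} (fun x hx y hy _ => by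
        rw [Finset.mem_singleton] at hx hy; rw [hx, hy])
      simpa using this
    let R' : Finset q := R.subtype (fun x => x ∈ q)
    have h2 : 3 * cl f.ker + 4 * R'.card ≤ 4 * Nat.card q := hIH (K := f.ker) (Ω' := q) (by omega) R' fun x hx y hy h => by
      refine Subtype.ext (hR x.1 (Finset.mem_subtype.1 hx) y.1 (Finset.mem_subtype.1 hy) ?_)
      obtain ⟨k, rfl⟩ := h
      exact ⟨k.1, rfl⟩
    have h3 : R.card ≤ R'.card + 1 := by
      rw [Finset.card_subtype, ← Finset.card_filter_add_card_filter_not (fun x => x ∈ q)]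
      refine Nat.add_le_add_left (Finset.card_le_one.2 fun x hx y hy => ?_) _
      simp only [Finset.mem_filter] at hx hy
      have hx' : x ∈ MulAction.orbit G a := not_not.1 hx.2
      have hy' : y ∈ MulAction.orbit G a := not_not.1 hy.2
      exact hR x hx.1 y hy.1 (by rw [MulAction.orbit_eq_iff.2 hx']; exact hy')
    omega
  -- transitive
  have hall : ∀ x : Ω, x ∈ MulAction.orbit G a := fun x => htr ▸ Set.mem_univ x
  have hRcard : R.card ≤ 1 := Finset.card_le_one.2 fun x hx y hy => hR x hx y hy (by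
    rw [MulAction.orbit_eq_iff.2 (hall x)]; exact hall y)
  haveI hpre : MulAction.IsPretransitive G Ω := MulAction.IsPretransitive.of_orbit hall
  have hn1 : 1 ≤ n := hn ▸ Nat.card_pos
  suffices h : 3 * cl G ≤ 4 * (n - 1) by omega
  rcases eq_or_lt_of_le hn1 with h1 | h2
  · haveI : Subsingleton Ω := (Nat.card_eq_one_iff_unique.1 (hn.trans h1.symm)).1
    haveI : Subsingleton G := ⟨fun g h => Subtype.ext (Equiv.ext fun x => Subsingleton.elim _ _)⟩
    simp [cl_eq_zero]
  by_cases hprim : MulAction.IsPreprimitive G Ω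
  · subst hn
    refine primitive_case hprim a h2 ?_
    let q : SubMulAction (MulAction.stabilizer G a) Ω := ⟨{a}ᶜ, fun g x hx h => hx (by
      rw [Set.mem_singleton_iff] at h ⊢
      calc x = g⁻¹ • g • x := (inv_smul_smul g x).symm
        _ = g⁻¹ • a := by rw [h]
        _ = a := (g⁻¹).2)⟩
    haveI : FaithfulSMul (MulAction.stabilizer G a) q := ⟨fun {g h} e => Subtype.ext (Subtype.ext (Equiv.ext fun x => by
      by_cases hx : x = a
      · subst hx; exact g.2.trans h.2.symm
      · exact congrArg Subtype.val (e ⟨x, hx⟩)))⟩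
    have hq : Nat.card q = Nat.card Ω - 1 := by
      have := Set.ncard_add_ncard_compl ({a} : Set Ω)
      rw [Set.ncard_singleton] at this
      show ({a}ᶜ : Set Ω).ncard = _
      omega
    haveI : Nontrivial Ω := Finite.one_lt_card_iff_nontrivial.1 h2
    obtain ⟨b, hb⟩ := exists_ne a
    have := hIH (K := MulAction.stabilizer G a) (Ω' := q) (by omega) {⟨b, hb⟩} (fun x hx y hy _ => by
      rw [Finset.mem_singleton] at hx hy; rw [hx, hy])
    rw [Finset.card_singleton, hq] at this
    omega
  -- imprimitive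
  obtain ⟨B, hB, hBn⟩ : ∃ B : Set Ω, MulAction.IsBlock G B ∧ ¬ MulAction.IsTrivialBlock B := by
    by_contra! hcon
    exact hprim ⟨fun {B} hB => hcon B hB⟩
  simp only [MulAction.IsTrivialBlock, not_or, Set.not_subsingleton_iff] at hBn
  obtain ⟨⟨u, hu, w, hw, huw⟩, hBu⟩ := hBn
  let O := MulAction.orbit G B
  have hcov : ∀ C : O, ∃ x, x ∈ (C : Set Ω) := by
    rintro ⟨_, g, rfl⟩
    exact ⟨g • u, Set.smul_mem_smul_set hu⟩
  choose pt hpt using hcov
  have hdisj : ∀ (C C' : O) (x : Ω), x ∈ (C : Set Ω) → x ∈ (C' : Set Ω) → C = C' := by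
    rintro ⟨_, g, rfl⟩ ⟨_, g', rfl⟩ x hx hx'
    exact Subtype.ext (hB.smul_eq_smul_of_nonempty ⟨x, hx, hx'⟩)
  have hptinj : Function.Injective pt := fun C C' e => hdisj C C' _ (hpt C) (e ▸ hpt C')
  let C0 : O := ⟨B, MulAction.mem_orbit_self B⟩
  have hblt : Nat.card O < n := by
    rw [← hn]
    refine lt_of_le_of_ne (Nat.card_le_card_of_injective pt hptinj) fun e => ?_
    have hs : Function.Surjective pt :=
      ((Nat.bijective_iff_injective_and_card pt).2 ⟨hptinj, e⟩).2
    obtain ⟨C, hC⟩ := hs u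
    obtain ⟨C', hC'⟩ := hs w
    exact huw (by rw [← hC, ← hC', hdisj C C0 u (hC ▸ hpt C) hu, hdisj C' C0 w (hC' ▸ hpt C') hw])
  let f : G →* Equiv.Perm O := MulAction.toPermHom G O
  rw [cl_eq_ker_add_range f]
  have h1 : 3 * cl f.range + 4 ≤ 4 * Nat.card O := by
    have := hIH (K := f.range) (Ω' := O) hblt {C0} (fun x hx y hy _ => by
      rw [Finset.mem_singleton] at hx hy; rw [hx, hy])
    simpa using this
  haveI : Fintype O := Fintype.ofFinite O
  have h2' : 3 * cl f.ker + 4 * (Finset.univ.image pt).card ≤ 4 * n := by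
    -- the kernel preserves every block
    have hfix : ∀ (k : f.ker) (C : O), (k : G) • C = C := fun k C => by
      have := congrArg (fun σ : Equiv.Perm O => σ C) k.2
      exact this
    have hmem : ∀ (k : f.ker) (C : O) (x : Ω), x ∈ (C : Set Ω) → (k : G) • x ∈ (C : Set Ω) := fun k C x hx => by
      have h : (k : G) • (C : Set Ω) = C := congrArg Subtype.val (hfix k C)
      rw [← h]; exact Set.smul_mem_smul_set hx
    rcases eq_or_ne (MulAction.orbit f.ker a) Set.univ with hu' | hu'
    · -- impossible unless there is one block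
      exfalso
      refine hBu (Set.eq_univ_iff_forall.2 fun x => ?_)
      obtain ⟨g, hg⟩ := MulAction.exists_smul_eq G u a
      let Ca : O := ⟨g • B, g, rfl⟩
      have haC : ∀ y, y ∈ (Ca : Set Ω) := fun y => by
        obtain ⟨k, hk⟩ : y ∈ MulAction.orbit f.ker a := hu' ▸ Set.mem_univ y
        rw [← hk]; exact hmem k Ca a (hg ▸ Set.smul_mem_smul_set hu)
      exact (congrArg Subtype.val (hdisj Ca C0 u (haC u) hu)).le (haC x)
    · -- the kernel is intransitive, so the argument for intransitive groups applies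
      let p : SubMulAction f.ker Ω := ⟨MulAction.orbit f.ker a, fun g x hx => by
        rw [← MulAction.orbit_eq_iff.2 hx]; exact MulAction.mem_orbit x g⟩
      let q : SubMulAction f.ker Ω := ⟨(MulAction.orbit f.ker a)ᶜ, fun g x hx h => hx (by
        obtain ⟨k, hk⟩ := h
        exact ⟨g⁻¹ * k, by simp only [mul_smul, hk, inv_smul_smul]⟩)⟩
      have hpq : Nat.card p + Nat.card q = n := by
        rw [← hn]
        exact (Set.ncard_add_ncard_compl (MulAction.orbit f.ker a) : _)
      have hppos : 0 < Nat.card p := Nat.card_pos_iff.2 ⟨⟨⟨a, MulAction.mem_orbit_self a⟩⟩, inferInstance⟩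
      have hqpos : 0 < Nat.card q := by
        obtain ⟨b, hb⟩ := (Set.ne_univ_iff_exists_notMem _).1 hu'
        exact Nat.card_pos_iff.2 ⟨⟨⟨b, hb⟩⟩, inferInstance⟩
      let g' : f.ker →* Equiv.Perm p := MulAction.toPermHom f.ker p
      rw [cl_eq_ker_add_range g']
      haveI : FaithfulSMul g'.ker q := ⟨fun {g h} e => Subtype.ext (Subtype.ext (Subtype.ext (Equiv.ext fun x => by
        by_cases hx : x ∈ MulAction.orbit f.ker a
        · have hg : (g' g.1) ⟨x, hx⟩ = (g' h.1) ⟨x, hx⟩ := by rw [g.2, h.2]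
          exact congrArg Subtype.val hg
        · exact congrArg Subtype.val (e ⟨x, hx⟩))))⟩
      have k1 : 3 * cl g'.range + 4 ≤ 4 * Nat.card p := by
        have := hIH (K := g'.range) (Ω' := p) (by omega) {⟨a, MulAction.mem_orbit_self a⟩} (fun x hx y hy _ => by
          rw [Finset.mem_singleton] at hx hy; rw [hx, hy])
        simpa using this
      have hunrel : ∀ x ∈ Finset.univ.image pt, ∀ y ∈ Finset.univ.image pt, y ∈ MulAction.orbit f.ker x → x = y := by
        intro x hx y hy h
        obtain ⟨C, -, rfl⟩ := Finset.mem_image.1 hx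
        obtain ⟨C', -, rfl⟩ := Finset.mem_image.1 hy
        obtain ⟨k, hk⟩ := h
        rw [hdisj C' C _ (hpt C') (hk ▸ hmem k C _ (hpt C))]
      let R' : Finset q := (Finset.univ.image pt).subtype (fun x => x ∈ q)
      have k2 : 3 * cl g'.ker + 4 * R'.card ≤ 4 * Nat.card q := hIH (K := g'.ker) (Ω' := q) (by omega) R' fun x hx y hy h => by
        refine Subtype.ext (hunrel x.1 (Finset.mem_subtype.1 hx) y.1 (Finset.mem_subtype.1 hy) ?_)
        obtain ⟨k, rfl⟩ := h
        exact ⟨k.1, rfl⟩
      have k3 : (Finset.univ.image pt).card ≤ R'.card + 1 := by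
        rw [Finset.card_subtype, ← Finset.card_filter_add_card_filter_not (fun x => x ∈ q)]
        refine Nat.add_le_add_left (Finset.card_le_one.2 fun x hx y hy => ?_) _
        simp only [Finset.mem_filter] at hx hy
        have hx' : x ∈ MulAction.orbit f.ker a := not_not.1 hx.2
        have hy' : y ∈ MulAction.orbit f.ker a := not_not.1 hy.2
        exact hunrel x hx.1 y hy.1 (by rw [MulAction.orbit_eq_iff.2 hx']; exact hy')
      omega
  rw [Finset.card_image_of_injective _ hptinj, Finset.card_univ, ← Nat.card_eq_fintype_card] at h2'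
  omega

end Cfsg.Lib.CompLenPerm
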