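import Mathlib
import Cfsg.Agent.Lib.PStable.DicksonMain

/-! The orbit of the first axis under a subgroup of `SL(2, K)` containing transvections. -/

set_option autoImplicit false
set_option linter.style.haveILetI false

namespace Cfsg.Lib.PStable

open Matrix

variable {K : Type*} [Field K] {M : Subgroup (Matrix.SpecialLinearGroup (Fin 2) K)}

/-- The orbit has one point more than the transvection group, up to one exception. -/
theorem index_eq [Finite K] {p : ℕ} [Fact p.Prime] [CharP K p] (hp : p ≠ 2)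
    (hneg : (-1 : Matrix.SpecialLinearGroup (Fin 2) K) ∈ M) {a0 : K} (ha0 : a0 ≠ 0)
    (hU : a0 ∈ aGrp M) {g0 : M} (hγ : ent g0 1 0 ≠ 0) :
    (borel M).index = Nat.card (aGrp M) + 1 ∨ (Nat.card (aGrp M) = 3 ∧ Nat.card M = 120 ∧ ∀ z ∈ ssSet M, z ^ 4 = 1 ∨ z ^ 10 = 1) := by
  haveI : Finite M := Finite.of_injective _ Subtype.val_injective
  have h2 : (2 : K) ≠ 0 := Ring.two_ne_zero (by rw [ringChar.eq K p]; exact hp)
  set P := Nat.card (aGrp M) with hPdef
  obtain ⟨r, hr⟩ := (isPGroup_qGrp (M := M) (p := p)).exists_card_eq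
  rw [card_qGrp, ← hPdef] at hr
  have hP1 : 1 < P := by
    haveI : Nontrivial (aGrp M) := ⟨⟨a0, hU⟩, 0, fun h => ha0 (congrArg Subtype.val h)⟩
    exact Finite.one_lt_card
  have hPodd : ¬ 2 ∣ P := by
    rw [hr, ← even_iff_two_dvd, Nat.not_even_iff_odd]
    exact ((Fact.out : p.Prime).odd_of_ne_two hp).pow
  have hP3 : 3 ≤ P := by omega
  obtain ⟨k, hk⟩ := index_mod_card (qGrp M) (borel M) qGrp_le qGrp_free
  rw [card_qGrp, ← hPdef] at hk
  set n := (borel M).index with hndef
  have hn2 : 2 ≤ n := by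
    by_contra h
    have h0 : n ≠ 0 := Subgroup.index_ne_zero_of_finite
    exact hγ (show g0 ∈ borel M from (Subgroup.index_eq_one.mp (show n = 1 by omega)) ▸ Subgroup.mem_top _)
  have hk1 : 1 ≤ k := by
    rcases Nat.eq_zero_or_pos k with rfl | h
    · omega
    · exact h
  set d := torSize M with hddef
  have hd1 : 1 ≤ d := Nat.one_le_iff_ne_zero.mpr Nat.card_pos.ne'
  have hdP : d ≤ P - 1 := torSize_le ha0 hU
  have hBc : Nat.card (borel M) = 2 * P * d := card_borel hneg h2
  have hM : Nat.card M = 2 * (P * d * n) := by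
    rw [← Subgroup.card_mul_index (borel M), hBc]; ring
  have hSU : Nat.card (sUni M) = 2 * n * (P - 1) := by
    have h := card_sUni hneg h2 (M := M)
    rw [hM, hBc, ← hPdef] at h
    refine Nat.eq_of_mul_eq_mul_right (show 0 < 2 * P * d by positivity) ?_
    rw [h]; ring
  have htot := card_eq_total (p := p) hneg h2 ha0 hU
  rw [hM, hSU] at htot
  have hmpos : 0 < P * d * n := by positivity
  rcases Nat.lt_or_ge d 2 with hd | hd
  · -- no torus
    have hd' : d = 1 := by omega
    rw [hd', mul_one] at htot hM hmpos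
    obtain ⟨hP', hn'⟩ := arith_one hP3 hPodd hn2 htot (fun h0 => by
      have := class_bound (p := p) hneg h2 ha0 hU hM hmpos (ssSet M) subset_rfl
        (fun z hz => fun w hw => (sCls_eq (p := p) hneg ha0 hU hz hw).1) h0
      refine ⟨this.1, fun hlt => ?_⟩
      obtain ⟨⟨z, hz⟩⟩ := (Nat.card_pos_iff.mp (Nat.pos_of_ne_zero h0)).1
      obtain ⟨c, hc, -, he⟩ := this.2 hlt z hz
      exact ⟨c, hc, he⟩)
    left; omega
  · -- a torus
    obtain ⟨zd, hzdB, hzd⟩ : ∃ z : M, z ∈ borel M ∧ ent z 0 0 ^ 2 ≠ 1 := by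
      by_contra hall
      push_neg at hall
      have : ((powMonoidHom 2).comp (chi M).range.subtype).range = ⊥ := by
        rw [eq_bot_iff]
        rintro _ ⟨⟨t, b, rfl⟩, rfl⟩
        exact Subgroup.mem_bot.mpr (Units.ext (hall b b.2))
      rw [hddef, torSize, this, Subgroup.card_bot] at hd
      omega
    have hzd11 := borel_prod zd hzdB
    have hzdSS : zd ∈ ssSet M := by
      have hne : ent zd 0 0 ≠ ent zd 1 1 := fun h => hzd (by rw [sq]; nth_rewrite 2 [h]; exact hzd11)
      refine ⟨fun h => hne h.2.2, fun h => hne (sub_eq_zero.mp ((pow_eq_zero_iff two_ne_zero).mp ?_))⟩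
      simp only [trc] at h
      simp only [ent] at hzd11 ⊢
      linear_combination h - 4 * hzd11
    obtain ⟨c, s, hc, hs, hC, hDeq, hinvh⟩ := card_sCls (p := p) hneg h2 ha0 hU hzdSS
    have hcd : c = d := by
      have := (card_cen_torus hneg h2 hzdB hzd).2
      rw [← hddef, hC] at this
      omega
    subst hcd
    have hD : Nat.card (sCls zd) * s = 2 * P * n * (d - 1) :=
      Nat.eq_of_mul_eq_mul_right (show 0 < d by omega) (by rw [hDeq, hM]; ring)
    set X : Set M := ssSet M \ sCls zd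
    have hDsub : sCls zd ⊆ ssSet M := fun w hw => (sCls_eq (p := p) hneg ha0 hU hzdSS hw).1
    have hSSeq : Nat.card (ssSet M) = Nat.card (sCls zd) + Nat.card X := by
      simp only [Nat.card_coe_set_eq, X]
      rw [add_comm, Set.ncard_diff_add_ncard_of_subset hDsub]
    have hXS : ∀ z ∈ X, sCls z ⊆ X := fun z hz w hw =>
      ⟨(sCls_eq (p := p) hneg ha0 hU hz.1 hw).1, fun hwd => hz.2 (by
        rw [← (sCls_eq (p := p) hneg ha0 hU hzdSS hwd).2, (sCls_eq (p := p) hneg ha0 hU hz.1 hw).2]
        exact self_mem_sCls hz.1)⟩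
    have hXf := class_bound (p := p) hneg h2 ha0 hU hM hmpos X Set.diff_subset hXS
    rcases arith_two hP3 hd hdP hk hk1 hs hD (by rw [htot, hSSeq]; ring)
      (fun h0 => ⟨(hXf h0).1, fun hlt => by
        obtain ⟨⟨z, hz⟩⟩ := (Nat.card_pos_iff.mp (Nat.pos_of_ne_zero h0)).1
        obtain ⟨c, hc, -, he⟩ := (hXf h0).2 hlt z hz
        exact ⟨c, hc, he⟩⟩) with hn | ⟨hP', hd', hn', hs', hc5⟩
    · left; omega
    · refine Or.inr ⟨hP', by rw [hM, hP', hd', hn'], fun z hz => ?_⟩
      have hzc : z ∈ cen z := mem_cen.mpr rfl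
      by_cases hzn : z ∈ sCls zd
      · left
        obtain ⟨h, w, hw, rfl⟩ := hzn
        have hw4 : w ^ 4 = 1 := by
          have := congrArg Subtype.val (pow_card_eq_one' (x := (⟨w, hw.1⟩ : cen zd)))
          rw [SubmonoidClass.coe_pow, hC, hd'] at this
          simpa using this
        rw [conj_pow, hw4, mul_one, mul_inv_cancel]
      · right
        have hX0 : Nat.card X ≠ 0 := by
          haveI : Nonempty X := ⟨⟨z, hz, hzn⟩⟩
          exact Nat.card_pos.ne'
        have hXlt : Nat.card X < P * d * n := by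
          rw [hP', hd', hn'] at htot ⊢
          rw [hP', hd', hn', hs'] at hD
          omega
        obtain ⟨c', hc', hC5, he⟩ := (hXf hX0).2 hXlt z ⟨hz, hzn⟩
        have := congrArg Subtype.val (pow_card_eq_one' (x := (⟨z, hzc⟩ : cen z)))
        rw [SubmonoidClass.coe_pow, hC5, hc5 c' he hc'] at this
        simpa using this

end Cfsg.Lib.PStable
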