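import Mathlib
import Cfsg.Agent.Lib.RootSub.SL2RankOne

/-! The monomial subgroup of `SL(2, q)` is maximal for `q` even or `q ≥ 13`. -/

set_option autoImplicit false
set_option linter.unusedSectionVars false
set_option linter.unusedSimpArgs false

namespace Cfsg.Lib.Classical.SplitDih

open Matrix Cfsg.Agent.SL2RankOne

variable {F : Type*} [Field F]

local notation "SL2" => Matrix.SpecialLinearGroup (Fin 2) F

/-- The monomial subgroup. -/
def mono (F : Type*) [Field F] : Subgroup (Matrix.SpecialLinearGroup (Fin 2) F) where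
  carrier := {g | (g 0 1 = 0 ∧ g 1 0 = 0) ∨ (g 0 0 = 0 ∧ g 1 1 = 0)}
  one_mem' := by simp
  mul_mem' := by
    rintro a b (⟨h, h'⟩ | ⟨h, h'⟩) (⟨i, i'⟩ | ⟨i, i'⟩) <;>
      simp [SpecialLinearGroup.coe_mul, Matrix.mul_apply, Fin.sum_univ_two, h, h', i, i']
  inv_mem' := by
    rintro a (⟨h, h'⟩ | ⟨h, h'⟩) <;> simp [SpecialLinearGroup.coe_inv, adjugate_fin_two, h, h']

lemma mem_mono {g : SL2} : g ∈ mono F ↔ (g 0 1 = 0 ∧ g 1 0 = 0) ∨ (g 0 0 = 0 ∧ g 1 1 = 0) := Iff.rfl

/-- Diagonal matrices. -/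
def dg : Fˣ →* Matrix.SpecialLinearGroup (Fin 2) F where
  toFun u := ⟨!![(u : F), 0; 0, ((u⁻¹ : Fˣ) : F)], by simp [det_fin_two]⟩
  map_one' := Subtype.ext (by simp [one_fin_two])
  map_mul' u v := Matrix.SpecialLinearGroup.ext _ _ fun i j => by
    show _ = (!![(u : F), 0; 0, ((u⁻¹ : Fˣ) : F)] * !![(v : F), 0; 0, ((v⁻¹ : Fˣ) : F)]) i j
    fin_cases i <;> fin_cases j <;> simp [Matrix.mul_apply, Fin.sum_univ_two, mul_comm]

/-- The Weyl element. -/
def wy : SL2 := ⟨!![0, 1; -1, 0], by simp [det_fin_two]⟩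

lemma dg_coe (u : Fˣ) : (dg u : Matrix (Fin 2) (Fin 2) F) = !![(u : F), 0; 0, ((u⁻¹ : Fˣ) : F)] := rfl

lemma wy_coe : ((wy : SL2) : Matrix (Fin 2) (Fin 2) F) = !![0, 1; -1, 0] := rfl

lemma dg_mem (u : Fˣ) : dg u ∈ mono F := Or.inl ⟨rfl, rfl⟩

lemma wy_mem : (wy : SL2) ∈ mono F := Or.inr ⟨rfl, rfl⟩

lemma det_two (g : SL2) : g 0 0 * g 1 1 - g 0 1 * g 1 0 = 1 := by
  rw [← det_fin_two]; exact g.2

lemma mul_ap (g h : SL2) (i j : Fin 2) : (g * h) i j = g i 0 * h 0 j + g i 1 * h 1 j := by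
  simp [SpecialLinearGroup.coe_mul, Matrix.mul_apply, Fin.sum_univ_two]

lemma inv_ap (g : SL2) : (g⁻¹ : SL2) 0 0 = g 1 1 ∧ (g⁻¹ : SL2) 0 1 = -g 0 1 ∧ (g⁻¹ : SL2) 1 0 = -g 1 0 ∧ (g⁻¹ : SL2) 1 1 = g 0 0 := by
  simp [SpecialLinearGroup.coe_inv, adjugate_fin_two]

variable [Fintype F]

lemma eq_top_of_up {K : Subgroup SL2} (hK : mono F ≤ K) {a : F} (ha : a ≠ 0) (h : up a ∈ K) : K = ⊤ := by
  classical
  let A : AddSubgroup F :=
    { carrier := {x | up x ∈ K}
      zero_mem' := by simp [up_zero, K.one_mem]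
      add_mem' := fun {x y} hx hy => by
        show up (x + y) ∈ K
        rw [← up_mul]; exact K.mul_mem hx hy
      neg_mem' := fun {x} hx => by
        show up (-x) ∈ K
        rw [← up_inv]; exact K.inv_mem hx }
  have hsq : ∀ u : Fˣ, (u : F) * u * a ∈ A := fun u => by
    have := K.mul_mem (K.mul_mem (hK (dg_mem u)) h) (K.inv_mem (hK (dg_mem u)))
    have e : dg u * up a * (dg u)⁻¹ = up ((u : F) * u * a) := by
      rw [mul_inv_eq_iff_eq_mul]
      refine Matrix.SpecialLinearGroup.ext _ _ fun i j => ?_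
      fin_cases i <;> fin_cases j <;> simp [mul_ap, dg_coe, up_coe] <;> field_simp
    rwa [e] at this
  let S : Finset F := Finset.univ.image fun u : Fˣ => (u : F) * u * a
  have hS : Fintype.card Fˣ ≤ 2 * S.card := by
    refine Finset.card_le_mul_card_image _ 2 fun b hb => ?_
    obtain ⟨v, -, rfl⟩ := Finset.mem_image.1 hb
    refine (Finset.card_le_card (show _ ⊆ ({v, -v} : Finset Fˣ) from fun u hu => ?_)).trans Finset.card_le_two
    have := mul_right_cancel₀ ha (Finset.mem_filter.1 hu).2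
    rcases mul_self_eq_mul_self_iff.1 this with e | e
    · simp [Units.ext e]
    · simp [show u = -v from Units.ext (by simpa using e)]
  have hA : S.card + 1 ≤ Nat.card A := by
    rw [Nat.card_eq_fintype_card, Fintype.card_subtype]
    refine Finset.card_lt_card ((Finset.ssubset_iff_of_subset fun x hx => ?_).2 ⟨0, by simp, fun h0 => ?_⟩)
    · obtain ⟨u, -, rfl⟩ := Finset.mem_image.1 hx
      simpa using hsq u
    · obtain ⟨u, -, hu⟩ := Finset.mem_image.1 h0
      simp [ha] at hu
  have hAtop : A = ⊤ := by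
    refine AddSubgroup.index_eq_one.1 ?_
    have h1 := A.card_mul_index
    rw [Nat.card_eq_fintype_card (α := F)] at h1
    rw [Fintype.card_units] at hS
    have hq := Fintype.one_lt_card (α := F)
    by_contra hne
    have : 2 ≤ A.index := by
      have := A.index_ne_zero_of_finite
      omega
    have := Nat.mul_le_mul_left (Nat.card A) this
    omega
  have hu : ∀ x, up x ∈ K := fun x => show x ∈ A by rw [hAtop]; trivial
  rw [eq_top_iff, ← sup_eq_top (k := F), sup_le_iff]
  refine ⟨fun g hg => ?_, fun g hg => ?_⟩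
  · obtain ⟨x, rfl⟩ := mem_lower.1 hg
    have e : wy * up (-x) * (wy : SL2)⁻¹ = lo x := by
      rw [mul_inv_eq_iff_eq_mul]
      refine Matrix.SpecialLinearGroup.ext _ _ fun i j => ?_
      fin_cases i <;> fin_cases j <;> simp [mul_ap, wy_coe, up_coe, lo_coe]
    rw [← e]
    exact K.mul_mem (K.mul_mem (hK wy_mem) (hu _)) (K.inv_mem (hK wy_mem))
  · obtain ⟨x, rfl⟩ := mem_upper.1 hg
    exact hu x

/-- The column ratio invariant. -/
def lam (g : SL2) : F := g 0 1 * g 1 0 / (g 0 0 * g 1 1)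

lemma card_roots_two (A B C : F) (hA : A ≠ 0) [DecidableEq F] :
    (Finset.univ.filter fun s : F => A * s ^ 2 + B * s + C = 0).card ≤ 2 := by
  rcases (Finset.univ.filter fun s : F => A * s ^ 2 + B * s + C = 0).eq_empty_or_nonempty with h | ⟨s₀, h⟩
  · simp [h]
  refine (Finset.card_le_card (show _ ⊆ ({s₀, -(B / A) - s₀} : Finset F) from fun s hs => ?_)).trans Finset.card_le_two
  simp only [Finset.mem_filter, Finset.mem_univ, true_and] at h hs
  rw [Finset.mem_insert, Finset.mem_singleton]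
  by_cases e : s = s₀
  · exact Or.inl e
  · right
    have : A * (s + s₀) + B = 0 := mul_left_cancel₀ (sub_ne_zero.2 e) (by linear_combination hs - h)
    field_simp
    linear_combination this

theorem mono_max (hq : Even (Fintype.card F) ∨ 13 ≤ Fintype.card F) {K : Subgroup SL2} (hK : mono F ≤ K) :
    K = mono F ∨ K = ⊤ := by
  classical
  by_contra hcon
  obtain ⟨hne, htop⟩ := not_or.1 hcon
  have hB : ∀ g ∈ K, g 1 0 = 0 → g ∈ mono F := fun g hg h0 => by
    have hd := det_two g
    rw [h0, mul_zero, sub_zero] at hd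
    let u : Fˣ := Units.mkOfMulEqOne _ _ hd
    have h1 : (dg u)⁻¹ * g = up (g 1 1 * g 0 1) := by
      rw [inv_mul_eq_iff_eq_mul]
      refine Matrix.SpecialLinearGroup.ext _ _ fun i j => ?_
      fin_cases i <;> fin_cases j <;> simp [mul_ap, dg_coe, up_coe, u, h0]
      · linear_combination (-(g 0 1)) * hd
      · exact eq_inv_of_mul_eq_one_right hd
    by_contra hm
    refine htop (eq_top_of_up hK (a := g 1 1 * g 0 1) (mul_ne_zero (right_ne_zero_of_mul_eq_one hd) fun h => hm (Or.inl ⟨h, h0⟩)) ?_)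
    rw [← h1]; exact K.mul_mem (K.inv_mem (hK (dg_mem u))) hg
  have hz : ∀ g ∈ K, g ∉ mono F → g 0 0 ≠ 0 ∧ g 0 1 ≠ 0 ∧ g 1 0 ≠ 0 ∧ g 1 1 ≠ 0 := fun g hg hm => by
    refine ⟨fun h => hm ?_, fun h => hm ?_, fun h => hm (hB g hg h), fun h => hm ?_⟩
    · have := hB _ (K.mul_mem (hK wy_mem) hg) (by simp [mul_ap, wy_coe, h])
      simpa using (mono F).mul_mem ((mono F).inv_mem wy_mem) this
    · have := hB _ (K.mul_mem (K.mul_mem (hK wy_mem) hg) (K.inv_mem (hK wy_mem))) (by simp [mul_ap, inv_ap, wy_coe, h])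
      have := (mono F).mul_mem ((mono F).mul_mem ((mono F).inv_mem wy_mem) this) wy_mem
      simpa [mul_assoc] using this
    · have := hB _ (K.mul_mem hg (hK wy_mem)) (by simp [mul_ap, wy_coe, h])
      simpa using (mono F).mul_mem this ((mono F).inv_mem wy_mem)
  -- the column relation
  have hR : ∀ k ∈ K, ∀ k' ∈ K, k 0 0 * k' 1 0 = k' 0 0 * k 1 0 → k 0 1 * k' 1 1 = k' 0 1 * k 1 1 := fun k hk k' hk' h => by
    have h0 : (k⁻¹ * k') 1 0 = 0 := by
      rw [mul_ap, (inv_ap k).2.2.1, (inv_ap k).2.2.2]; linear_combination h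
    have hm := hB _ (K.mul_mem (K.inv_mem hk) hk') h0
    rcases hm with ⟨h1, -⟩ | ⟨h1, -⟩
    · rw [mul_ap, (inv_ap k).1, (inv_ap k).2.1] at h1
      linear_combination (-1 : F) * h1
    · have := det_two (k⁻¹ * k')
      rw [h0, h1] at this
      simp at this
  let x : SL2 → F := fun g => g 0 0 / g 1 0
  let y : SL2 → F := fun g => g 0 1 / g 1 1
  have hP : ∀ k ∈ K, k ∉ mono F → ∀ k' ∈ K, k' ∉ mono F → ∀ u : F, u ≠ 0 →
      (x k' = u * u * x k → y k' = u * u * y k) ∧ (x k' = u * u * y k → y k' = u * u * x k) := by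
    intro k hk hkm k' hk' hkm' u hu
    obtain ⟨a0, a1, a2, a3⟩ := hz k hk hkm
    obtain ⟨b0, b1, b2, b3⟩ := hz k' hk' hkm'
    have hd := hK (dg_mem (Units.mk0 u hu))
    refine ⟨fun h => ?_, fun h => ?_⟩
    · have := hR _ (K.mul_mem hd hk) k' hk'
      simp only [mul_ap, dg_coe, Matrix.of_apply, Matrix.cons_val', Matrix.cons_val_zero, Matrix.cons_val_one, Matrix.empty_val',
        Matrix.cons_val_fin_one, zero_mul, add_zero, zero_add, Units.val_inv_eq_inv_val, Units.val_mk0] at this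
      simp only [x, y] at h ⊢
      field_simp at h this ⊢
      linear_combination (-1 : F) * this (by linear_combination -h)
    · have := hR _ (K.mul_mem (K.mul_mem hd hk) (hK wy_mem)) k' hk'
      simp only [mul_ap, dg_coe, wy_coe, Matrix.of_apply, Matrix.cons_val', Matrix.cons_val_zero, Matrix.cons_val_one, Matrix.empty_val',
        Matrix.cons_val_fin_one, zero_mul, add_zero, zero_add, mul_zero, mul_one, mul_neg, Units.val_inv_eq_inv_val, Units.val_mk0] at this
      simp only [x, y] at h ⊢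
      field_simp at h this ⊢
      linear_combination (-1 : F) * this (by linear_combination h)
  have hx0 : ∀ k ∈ K, k ∉ mono F → x k ≠ 0 ∧ y k ≠ 0 ∧ y k = lam k * x k ∧ lam k ≠ 1 := fun k hk hkm => by
    obtain ⟨a0, a1, a2, a3⟩ := hz k hk hkm
    refine ⟨div_ne_zero a0 a2, div_ne_zero a1 a3, ?_, fun h => ?_⟩
    · simp only [x, y, lam]; field_simp
    · rw [lam, div_eq_one_iff_eq (mul_ne_zero a0 a3)] at h
      have := det_two k
      rw [h, sub_self] at this
      exact zero_ne_one this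
  have hneg : ∀ k ∈ K, k ∉ mono F → IsSquare (lam k) → lam k = -1 := fun k hk hkm hs => by
    obtain ⟨u, hu⟩ := hs
    obtain ⟨h0, h1, h2, h3⟩ := hx0 k hk hkm
    have hu0 : u ≠ 0 := fun h => h1 (by rw [h2, hu, h]; simp)
    have h4 := (hP k hk hkm k hk hkm u⁻¹ (inv_ne_zero hu0)).2 (by rw [h2, hu]; field_simp)
    rw [h2, hu] at h4
    have h5 : u * u = u⁻¹ * u⁻¹ := mul_right_cancel₀ h0 h4
    have : (lam k) ^ 2 = 1 := by
      rw [hu, pow_two]; nth_rewrite 2 [h5]; field_simp
    exact (sq_eq_one_iff.1 this).resolve_left h3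
  have hns : ∀ {s t : F}, ¬ IsSquare s → ¬ IsSquare t → IsSquare (s / t) := fun {s t} hs ht => by
    have hs0 : s ≠ 0 := fun h => hs (h ▸ IsSquare.zero)
    have ht0 : t ≠ 0 := fun h => ht (h ▸ IsSquare.zero)
    rw [← quadraticChar_one_iff_isSquare (div_ne_zero hs0 ht0), div_eq_mul_inv, map_mul, quadraticChar_neg_one_iff_not_isSquare.2 hs,
      quadraticChar_neg_one_iff_not_isSquare.2 (fun h => ht (by simpa using h.inv))]
    rfl
  obtain ⟨g, hg, hgm⟩ := SetLike.exists_of_lt (lt_of_le_of_ne hK (Ne.symm hne))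
  obtain ⟨g0, g1, g2, g3⟩ := hz g hg hgm
  set l := lam g with hl
  have hlam : ∀ k ∈ K, k ∉ mono F → lam k = l ∨ lam k * l = 1 := fun k hk hkm => by
    obtain ⟨hx, hy, hxy, -⟩ := hx0 g hg hgm
    obtain ⟨hx', hy', hxy', -⟩ := hx0 k hk hkm
    by_cases c1 : IsSquare (x k / x g)
    · obtain ⟨u, hu⟩ := c1
      have hu0 : u ≠ 0 := fun h => div_ne_zero hx' hx (by rw [hu, h]; simp)
      rw [div_eq_iff hx] at hu
      have := (hP g hg hgm k hk hkm u hu0).1 hu
      rw [hxy', hxy, hu] at this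
      left; exact mul_right_cancel₀ (mul_ne_zero (mul_ne_zero hu0 hu0) hx) (by linear_combination this)
    by_cases c2 : IsSquare (x k / y g)
    · obtain ⟨u, hu⟩ := c2
      have hu0 : u ≠ 0 := fun h => div_ne_zero hx' hy (by rw [hu, h]; simp)
      rw [div_eq_iff hy] at hu
      have := (hP g hg hgm k hk hkm u hu0).2 hu
      rw [hxy', hu, hxy] at this
      right; exact mul_right_cancel₀ (mul_ne_zero (mul_ne_zero hu0 hu0) hx) (by linear_combination this)
    by_cases c3 : IsSquare (y k / x g)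
    · obtain ⟨u, hu⟩ := c3
      have hu0 : u ≠ 0 := fun h => div_ne_zero hy' hx (by rw [hu, h]; simp)
      rw [div_eq_iff hx] at hu
      have := (hP k hk hkm g hg hgm u⁻¹ (inv_ne_zero hu0)).2 (by rw [hu]; field_simp)
      rw [hxy] at this
      rw [hxy'] at hu
      have h' : lam g * x g * (u * u) = x k := by rw [this]; field_simp
      right; exact mul_right_cancel₀ (mul_ne_zero (mul_ne_zero hu0 hu0) hx) (by linear_combination (lam k) * h' + hu)
    have s1 : IsSquare l := by
      have := hns c1 c2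
      rw [hxy] at this
      convert this using 1
      field_simp
      exact hl
    have s2 : IsSquare (lam k) := by
      have := hns c3 c1
      rw [hxy'] at this
      convert this using 1
      field_simp
    left; exact (hneg k hk hkm s2).trans (hneg g hg hgm s1).symm
  rcases hq with hev | hq
  · have h2 : ringChar F = 2 := FiniteField.even_card_iff_char_two.2 (Nat.even_iff.1 hev)
    have hs : IsSquare l := FiniteField.isSquare_of_char_two h2 l
    haveI : CharP F 2 := h2 ▸ ringChar.charP F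
    exact (hx0 g hg hgm).2.2.2 ((hneg g hg hgm hs).trans (CharTwo.neg_eq 1))
  have hl0 : l ≠ 0 := div_ne_zero (mul_ne_zero g1 g2) (mul_ne_zero g0 g3)
  have hl1 : l ≠ 1 := (hx0 g hg hgm).2.2.2
  let P₁ := Finset.univ.filter fun s : F => 1 * s ^ 2 + (-(l + 1)) * s + 1 = 0
  let P₂ := Finset.univ.filter fun s : F => l * s ^ 2 + (-(1 + l)) * s + l = 0
  have key : ∀ u : Fˣ, (u : F) * u = 1 ∨ (u : F) * u = l ∨ (u : F) * u ∈ P₁ ∨ (u : F) * u ∈ P₂ := fun u => by
    set h := g * dg u * g⁻¹ with hh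
    have hu := u.ne_zero
    have e00 : h 0 0 = g 0 0 * u * g 1 1 - g 0 1 * (u : F)⁻¹ * g 1 0 := by
      simp [hh, mul_ap, inv_ap, dg_coe]; ring
    have e01 : h 0 1 = g 0 0 * g 0 1 * ((u : F)⁻¹ - u) := by
      simp [hh, mul_ap, inv_ap, dg_coe]; ring
    have e10 : h 1 0 = g 1 0 * g 1 1 * ((u : F) - (u : F)⁻¹) := by
      simp [hh, mul_ap, inv_ap, dg_coe]; ring
    have e11 : h 1 1 = g 0 0 * (u : F)⁻¹ * g 1 1 - g 0 1 * u * g 1 0 := by
      simp [hh, mul_ap, inv_ap, dg_coe]; ring
    have hbc : g 0 1 * g 1 0 = l * (g 0 0 * g 1 1) := by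
      rw [hl, lam, div_mul_cancel₀ _ (mul_ne_zero g0 g3)]
    by_cases hm : h ∈ mono F
    · rcases hm with ⟨m, -⟩ | ⟨m, -⟩
      · rw [e01, mul_eq_zero, or_iff_right (mul_ne_zero g0 g1), sub_eq_zero] at m
        left
        nth_rewrite 1 [← m]
        exact inv_mul_cancel₀ hu
      · rw [e00, sub_eq_zero] at m
        right; left
        field_simp at m
        exact mul_right_cancel₀ (mul_ne_zero g0 g3) (by linear_combination m + hbc)
    · have hk : h ∈ K := K.mul_mem (K.mul_mem hg (hK (dg_mem u))) (K.inv_mem hg)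
      obtain ⟨k0, -, -, k3⟩ := hz h hk hm
      have hmain : lam h * (((u : F) * u - l) * (1 - l * ((u : F) * u))) = -l * ((u : F) * u - 1) ^ 2 := by
        have hd : lam h * (h 0 0 * h 1 1) = h 0 1 * h 1 0 := by rw [lam, div_mul_cancel₀ _ (mul_ne_zero k0 k3)]
        rw [e00, e01, e10, e11] at hd
        field_simp at hd
        have h5 : lam h * ((g 0 0 * g 1 1 * ((u : F) * u) - g 0 1 * g 1 0) * (g 0 0 * g 1 1 - g 0 1 * g 1 0 * ((u : F) * u))) =
            -(g 0 0 * g 1 1 * (g 0 1 * g 1 0)) * ((u : F) * u - 1) ^ 2 := by linear_combination hd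
        rw [hbc] at h5
        refine mul_left_cancel₀ (pow_ne_zero 2 (mul_ne_zero g0 g3)) ?_
        linear_combination h5
      rcases hlam h hk hm with e | e
      · right; right; left
        rw [e] at hmain
        simp only [P₁, Finset.mem_filter, Finset.mem_univ, true_and]
        exact mul_left_cancel₀ (mul_ne_zero hl0 (sub_ne_zero.2 hl1.symm)) (by linear_combination hmain)
      · right; right; right
        simp only [P₂, Finset.mem_filter, Finset.mem_univ, true_and]
        exact mul_left_cancel₀ (sub_ne_zero.2 hl1.symm) (by linear_combination -(l * hmain) + (((u : F) * u - l) * (1 - l * ((u : F) * u))) * e)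
  let S : Finset F := Finset.univ.image fun u : Fˣ => (u : F) * u
  have hS : Fintype.card Fˣ ≤ 2 * S.card := by
    refine Finset.card_le_mul_card_image _ 2 fun b hb => ?_
    obtain ⟨v, -, rfl⟩ := Finset.mem_image.1 hb
    refine (Finset.card_le_card (show _ ⊆ ({v, -v} : Finset Fˣ) from fun u hu => ?_)).trans Finset.card_le_two
    rcases mul_self_eq_mul_self_iff.1 (Finset.mem_filter.1 hu).2 with e | e
    · simp [Units.ext e]
    · simp [show u = -v from Units.ext (by simpa using e)]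
  rw [Fintype.card_units] at hS
  have c1 : P₁.card ≤ 2 := card_roots_two _ _ _ one_ne_zero
  have c2 : P₂.card ≤ 2 := card_roots_two _ _ _ hl0
  have hcard : S.card ≤ 5 := by
    by_cases hs : IsSquare l
    · have hl' : l = -1 := hneg g hg hgm hs
      refine (Finset.card_le_card (show S ⊆ insert 1 (insert l P₁) from fun s hs => ?_)).trans
        ((Finset.card_insert_le _ _).trans (Nat.succ_le_succ ((Finset.card_insert_le _ _).trans (by omega))))
      obtain ⟨u, -, rfl⟩ := Finset.mem_image.1 hs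
      simp only [Finset.mem_insert]
      rcases key u with e | e | e | e
      · exact Or.inl e
      · exact Or.inr (Or.inl e)
      · exact Or.inr (Or.inr e)
      · refine Or.inr (Or.inr ?_)
        simp only [P₁, P₂, Finset.mem_filter, Finset.mem_univ, true_and, hl'] at e ⊢
        linear_combination -e
    · refine (Finset.card_le_card (show S ⊆ insert 1 (P₁ ∪ P₂) from fun s hs' => ?_)).trans
        ((Finset.card_insert_le _ _).trans (Nat.succ_le_succ ((Finset.card_union_le _ _).trans (by omega))))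
      obtain ⟨u, -, rfl⟩ := Finset.mem_image.1 hs'
      simp only [Finset.mem_insert, Finset.mem_union]
      rcases key u with e | e | e | e
      · exact Or.inl e
      · exact absurd ⟨(u : F), e.symm⟩ hs
      · exact Or.inr (Or.inl e)
      · exact Or.inr (Or.inr e)
  omega

end Cfsg.Lib.Classical.SplitDih
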