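import Mathlib
import Cfsg.Agent.Lib.RootSub.SL2RankOne
import Cfsg.Agent.Lib.Classical.SplitDihedralMax

/-! The normalizer of a non-split torus is maximal in `SL(2, q)` for `q ∉ {7, 9}`. -/

set_option autoImplicit false
set_option linter.unusedSectionVars false
set_option linter.unusedSimpArgs false

namespace Cfsg.Lib.Classical.NsDih

open Matrix Cfsg.Agent.SL2RankOne Cfsg.Lib.Classical.SplitDih

variable {F : Type*} [Field F] {ν : F}

local notation "SL2" => Matrix.SpecialLinearGroup (Fin 2) F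

/-- `x² - x - ν` has no root. -/
def Irr (ν : F) : Prop := ∀ x : F, x ^ 2 - x - ν ≠ 0

lemma exists_irr [Fintype F] : ∃ ν : F, Irr ν := by
  have h : ¬ Function.Surjective fun x : F => x ^ 2 - x := fun hs => by
    have hi := Finite.injective_iff_surjective.2 hs
    exact zero_ne_one (hi (show (0 : F) ^ 2 - 0 = 1 ^ 2 - 1 by ring))
  simp only [Function.Surjective, not_forall, not_exists] at h
  obtain ⟨ν, hν⟩ := h
  exact ⟨ν, fun x hx => hν x (sub_eq_zero.1 hx)⟩

lemma Irr.form (h : Irr ν) {a b : F} (he : a * a + a * b - ν * (b * b) = 0) : a = 0 ∧ b = 0 := by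
  by_cases hb : b = 0
  · subst hb; exact ⟨mul_self_eq_zero.1 (by linear_combination he), rfl⟩
  · refine absurd ?_ (h (-a / b))
    field_simp
    linear_combination he

lemma Irr.disc (h : Irr ν) : 1 + 4 * ν ≠ 0 := fun e => by
  by_cases h2 : (2 : F) = 0
  · exact one_ne_zero (α := F) (by linear_combination e - 2 * ν * h2)
  · refine h (1 / 2) ?_
    field_simp
    linear_combination -e

/-- The torus. -/
def tor (ν : F) : Subgroup (Matrix.SpecialLinearGroup (Fin 2) F) where
  carrier := {g | g 0 1 = ν * g 1 0 ∧ g 1 1 = g 0 0 + g 1 0}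
  one_mem' := by simp
  mul_mem' := fun {a b} ha hb => by
    constructor <;> simp only [mul_ap, ha.1, ha.2, hb.1, hb.2] <;> ring
  inv_mem' := fun {a} ha => by
    obtain ⟨e1, e2, e3, e4⟩ := inv_ap a
    show (a⁻¹ : SL2) 0 1 = _ ∧ (a⁻¹ : SL2) 1 1 = _
    rw [e1, e2, e3, e4, ha.1, ha.2]
    constructor <;> ring

lemma mem_tor {g : SL2} : g ∈ tor ν ↔ g 0 1 = ν * g 1 0 ∧ g 1 1 = g 0 0 + g 1 0 := Iff.rfl

lemma tor_det {g : SL2} (hg : g ∈ tor ν) : g 0 0 * g 0 0 + g 0 0 * g 1 0 - ν * (g 1 0 * g 1 0) = 1 := by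
  have := det_two g
  rw [hg.1, hg.2] at this
  linear_combination this

/-- The reversing coset. -/
def IsW (ν : F) (g : Matrix.SpecialLinearGroup (Fin 2) F) : Prop := g 0 1 = g 0 0 - ν * g 1 0 ∧ g 1 1 = -g 0 0

lemma IsW.sq {g : SL2} (h : IsW ν g) : g * g = -1 := by
  have hd := det_two g
  rw [h.2] at hd
  refine Matrix.SpecialLinearGroup.ext _ _ fun i j => ?_
  fin_cases i <;> fin_cases j <;> simp [mul_ap, h.2] <;> first | linear_combination -hd | ring

lemma IsW.mul {g x : SL2} (h : IsW ν g) (hx : x ∈ tor ν) : IsW ν (g * x) := by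
  constructor <;> simp only [mul_ap, h.1, h.2, hx.1, hx.2] <;> ring

lemma IsW.mul_mul {g x : SL2} (h : IsW ν g) (hx : IsW ν x) : g * x ∈ tor ν := by
  constructor <;> simp only [mul_ap, h.1, h.2, hx.1, hx.2] <;> ring

lemma IsW.tor_mul {g x : SL2} (hx : x ∈ tor ν) (h : IsW ν g) : IsW ν (x * g) := by
  constructor <;> simp only [mul_ap, h.1, h.2, hx.1, hx.2] <;> ring

lemma IsW.inv {g : SL2} (h : IsW ν g) : IsW ν g⁻¹ := by
  obtain ⟨e1, e2, e3, e4⟩ := inv_ap g
  show (g⁻¹ : SL2) 0 1 = _ ∧ (g⁻¹ : SL2) 1 1 = _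
  rw [e1, e2, e3, e4, h.1, h.2]
  constructor <;> ring

/-- The normalizer. -/
def nor (ν : F) : Subgroup (Matrix.SpecialLinearGroup (Fin 2) F) where
  carrier := {g | g ∈ tor ν ∨ IsW ν g}
  one_mem' := Or.inl (one_mem _)
  mul_mem' := by
    rintro a b (ha | ha) (hb | hb)
    exacts [Or.inl (mul_mem ha hb), Or.inr (IsW.tor_mul ha hb), Or.inr (ha.mul hb), Or.inl (ha.mul_mul hb)]
  inv_mem' := by rintro a (ha | ha); exacts [Or.inl (inv_mem ha), Or.inr ha.inv]

lemma tor_le : tor ν ≤ nor ν := fun _ h => Or.inl h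

lemma tor_comm {x y : SL2} (hx : x ∈ tor ν) (hy : y ∈ tor ν) : x * y = y * x := by
  refine Matrix.SpecialLinearGroup.ext _ _ fun i j => ?_
  fin_cases i <;> fin_cases j <;> simp [mul_ap, hx.1, hx.2, hy.1, hy.2] <;> ring

lemma tor_scalar (h : Irr ν) {g : SL2} (hg : g ∈ tor ν) (h0 : g 1 0 = 0) : g ∈ Subgroup.center SL2 := by
  rw [Matrix.SpecialLinearGroup.mem_center_iff]
  have hd := tor_det hg
  rw [h0] at hd
  refine ⟨g 0 0, by rw [Fintype.card_fin]; linear_combination hd, ?_⟩
  ext i j; fin_cases i <;> fin_cases j <;> simp [hg.1, hg.2, h0]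

lemma center_le : Subgroup.center SL2 ≤ tor ν := fun z hz => by
  obtain ⟨r, -, hr⟩ := Matrix.SpecialLinearGroup.mem_center_iff.1 hz
  constructor <;> simp [← hr]

/-- Only the normalizer maps a non-central torus element into the torus. -/
lemma mem_nor_of_conj (h : Irr ν) {g X : SL2} (hX : X ∈ tor ν) (hX0 : X 1 0 ≠ 0) (hY : g * X * g⁻¹ ∈ tor ν) : g ∈ nor ν := by
  set Y := g * X * g⁻¹ with hYd
  have e : Y * g = g * X := by rw [hYd, inv_mul_cancel_right]
  have htr : Y 0 0 + Y 1 1 = X 0 0 + X 1 1 := by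
    rw [← trace_fin_two, ← trace_fin_two, hYd]
    show ((g : Matrix (Fin 2) (Fin 2) F) * (X : Matrix (Fin 2) (Fin 2) F) * ((g⁻¹ : SL2) : Matrix (Fin 2) (Fin 2) F)).trace = _
    rw [Matrix.trace_mul_comm]
    exact congrArg (fun z : SL2 => (z : Matrix (Fin 2) (Fin 2) F).trace) (inv_mul_cancel_left g X)
  rw [hY.2, hX.2] at htr
  have dY := tor_det hY
  have dX := tor_det hX
  have e00 := congrArg (fun z : SL2 => z 0 0) e
  have e10 := congrArg (fun z : SL2 => z 1 0) e
  simp only [mul_ap, hY.1, hY.2, hX.1, hX.2] at e00 e10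
  have hcases : Y 0 0 = X 0 0 ∨ Y 0 0 = X 0 0 + X 1 0 := by
    have h' : (Y 0 0 - X 0 0) * (X 1 0 - (Y 0 0 - X 0 0)) * (1 + 4 * ν) = 0 := by
      have hb : Y 1 0 = X 1 0 - 2 * (Y 0 0 - X 0 0) := by linear_combination htr
      rw [hb] at dY
      linear_combination dY - dX
    rcases mul_eq_zero.1 h' with h' | h'
    · rcases mul_eq_zero.1 h' with h' | h'
      · left; linear_combination h'
      · right; linear_combination -h'
    · exact absurd h' h.disc
  rcases hcases with hc | hc
  · have hb : Y 1 0 = X 1 0 := by linear_combination htr - 2 * hc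
    rw [hc, hb] at e00 e10
    exact Or.inl ⟨mul_left_cancel₀ hX0 (by linear_combination -e00), mul_left_cancel₀ hX0 (by linear_combination -e10)⟩
  · have hb : Y 1 0 = -X 1 0 := by linear_combination htr - 2 * hc
    rw [hc, hb] at e00 e10
    exact Or.inr ⟨mul_left_cancel₀ hX0 (by linear_combination -e00), mul_left_cancel₀ hX0 (by linear_combination -e10)⟩

variable [Fintype F]

lemma isCyclic_tor (h : Irr ν) : IsCyclic (tor ν) := by
  have hnz : ∀ z : QuadraticAlgebra F ν 1, z ≠ 0 → QuadraticAlgebra.norm z ≠ 0 := by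
    intro z hz he
    rw [QuadraticAlgebra.norm_def] at he
    obtain ⟨h1, h2⟩ := h.form (a := z.re) (b := z.im) (by linear_combination he)
    exact hz (QuadraticAlgebra.ext h1 h2)
  have : NoZeroDivisors (QuadraticAlgebra F ν 1) := ⟨fun {a b} hab => by
    by_contra hc
    simp only [not_or] at hc
    exact mul_ne_zero (hnz a hc.1) (hnz b hc.2) (by rw [← map_mul, hab, QuadraticAlgebra.norm_zero])⟩
  have : IsDomain (QuadraticAlgebra F ν 1) := NoZeroDivisors.to_isDomain _
  let f : tor ν →* QuadraticAlgebra F ν 1 :=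
    { toFun := fun g => ⟨g.1 0 0, g.1 1 0⟩
      map_one' := by ext <;> simp [QuadraticAlgebra.re_one, QuadraticAlgebra.im_one]
      map_mul' := fun a b => by
        ext <;> simp [mul_ap, a.2.1, a.2.2, b.2.1, b.2.2] <;> ring }
  refine isCyclic_of_injective_ringHom f fun a b hab => ?_
  have h0 : a.1 0 0 = b.1 0 0 := congrArg QuadraticAlgebra.re hab
  have h1 : a.1 1 0 = b.1 1 0 := congrArg QuadraticAlgebra.im hab
  refine Subtype.ext (Matrix.SpecialLinearGroup.ext _ _ fun i j => ?_)
  fin_cases i <;> fin_cases j <;> simp [h0, h1, a.2.1, a.2.2, b.2.1, b.2.2]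

lemma card_tor (h : Irr ν) : Nat.card (tor ν) = Fintype.card F + 1 := by
  have hD : ∀ t : F, t * t + t - ν ≠ 0 := fun t e => h (-t) (by linear_combination e)
  let g : Option F → tor ν := fun o => o.elim 1 fun t =>
    ⟨⟨!![(t * t + ν) / (t * t + t - ν), ν * ((2 * t + 1) / (t * t + t - ν)); (2 * t + 1) / (t * t + t - ν),
        (t * t + ν) / (t * t + t - ν) + (2 * t + 1) / (t * t + t - ν)], by
      have := hD t
      obtain ⟨D, hDd⟩ : ∃ D, D = t * t + t - ν := ⟨_, rfl⟩
      rw [← hDd] at this ⊢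
      simp [det_fin_two]
      field_simp
      rw [hDd]; ring⟩, ⟨rfl, rfl⟩⟩
  have gnone : g none = 1 := rfl
  have g00 : ∀ t, (g (some t)).1 0 0 = (t * t + ν) / (t * t + t - ν) := fun _ => rfl
  have g10 : ∀ t, (g (some t)).1 1 0 = (2 * t + 1) / (t * t + t - ν) := fun _ => rfl
  have hinj : Function.Injective g := by
    have k1 : ∀ t, g (some t) ≠ 1 := fun t e => by
      have a := congrArg (fun z : tor ν => z.1 0 0) e
      have b := congrArg (fun z : tor ν => z.1 1 0) e
      simp only [g00, g10] at a b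
      have hd := hD t
      simp only [OneMemClass.coe_one, Matrix.SpecialLinearGroup.coe_one, Matrix.one_apply_eq,
        Matrix.one_apply_ne (show (1 : Fin 2) ≠ 0 by decide), div_eq_iff hd, one_mul, zero_mul] at a b
      exact h.disc (by linear_combination b + 2 * a)
    rintro (_ | s) (_ | t) e
    · rfl
    · exact absurd e.symm (k1 t)
    · exact absurd e (k1 s)
    · have a := congrArg (fun z : tor ν => z.1 0 0) e
      have b := congrArg (fun z : tor ν => z.1 1 0) e
      simp only [g00, g10] at a b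
      have h1 := hD s
      have h2 := hD t
      rw [div_eq_div_iff h1 h2] at a b
      by_contra hst
      have hst' : s - t ≠ 0 := sub_ne_zero.2 fun e' => hst (congrArg some e')
      have Ea : s * t - 2 * ν * (s + t) - ν = 0 := mul_left_cancel₀ hst' (by linear_combination a)
      have Eb : -(2 * s * t) - (s + t) - 1 - 2 * ν = 0 := mul_left_cancel₀ hst' (by linear_combination b)
      have h3 : s + t = -1 := mul_left_cancel₀ h.disc (by linear_combination -2 * Ea - Eb)
      exact hD s (by linear_combination s * h3 - Ea - 2 * ν * h3)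
  have hsurj : Function.Surjective g := fun z => by
    have hd := tor_det z.2
    have hext : ∀ w : tor ν, w.1 0 0 = z.1 0 0 → w.1 1 0 = z.1 1 0 → w = z := fun w a b => by
      refine Subtype.ext (Matrix.SpecialLinearGroup.ext _ _ fun i j => ?_)
      fin_cases i <;> fin_cases j <;> simp [a, b, w.2.1, w.2.2, z.2.1, z.2.2]
    by_cases hb : z.1 1 0 = 0
    · rw [hb, mul_zero, add_zero, mul_zero, mul_zero, sub_zero] at hd
      rcases mul_self_eq_one_iff.1 hd with e | e
      · exact ⟨none, hext _ (by simp [gnone, e]) (by simp [gnone, hb])⟩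
      · by_cases h2 : (2 : F) = 0
        · exact ⟨none, hext _ (by simp [gnone, e]; linear_combination h2) (by simp [gnone, hb])⟩
        · have hd' := hD (-1 / 2)
          have h4 := h.disc
          refine ⟨some (-1 / 2), hext _ ?_ ?_⟩
          · rw [g00, e, div_eq_iff hd']; field_simp; ring
          · rw [g10, hb, div_eq_iff hd']; field_simp; ring
    · set a := z.1 0 0
      set b := z.1 1 0
      have hd' := hD ((1 + a) / b)
      refine ⟨some ((1 + a) / b), hext _ ?_ ?_⟩
      · rw [g00, div_eq_iff hd']; field_simp; linear_combination -(1 + a) * hd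
      · rw [g10, div_eq_iff hd']; field_simp; linear_combination -hd
  rw [← Nat.card_eq_of_bijective g ⟨hinj, hsurj⟩, Finite.card_option, Nat.card_eq_fintype_card]

lemma exists_isW (h : Irr ν) : ∃ w : SL2, IsW ν w := by
  suffices ∃ a c : F, a * a + a * c - ν * (c * c) = -1 by
    obtain ⟨a, c, hac⟩ := this
    exact ⟨⟨!![a, a - ν * c; c, -a], by simp [det_fin_two]; linear_combination -hac⟩, rfl, rfl⟩
  by_cases h2 : (2 : F) = 0
  · exact ⟨1, 0, by linear_combination h2⟩
  · have hc : ringChar F ≠ 2 := fun hr => h2 (by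
      have := ringChar.Nat.cast_ringChar (R := F); rw [hr] at this; exact_mod_cast this)
    obtain ⟨x, y, hxy⟩ := FiniteField.exists_root_sum_quadratic (f := Polynomial.X ^ 2 + Polynomial.C (1 : F))
      (g := Polynomial.C (-(1 + 4 * ν)) * Polynomial.X ^ 2) (by rw [Polynomial.degree_X_pow_add_C (by norm_num)]; rfl)
      (by rw [Polynomial.degree_C_mul_X_pow _ (neg_ne_zero.2 h.disc)]; rfl) (FiniteField.odd_card_of_char_ne_two hc)
    simp only [Polynomial.eval_add, Polynomial.eval_pow, Polynomial.eval_X, Polynomial.eval_C, Polynomial.eval_mul] at hxy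
    exact ⟨x - y, 2 * y, by linear_combination hxy⟩

lemma card_nor (h : Irr ν) : Nat.card (nor ν) = 2 * (Fintype.card F + 1) := by
  obtain ⟨w, hw⟩ := exists_isW h
  have hwT : ∀ {g : SL2}, IsW ν g → g ∉ tor ν := fun {g} hg ht => by
    have hd := det_two g
    rw [ht.1, ht.2] at hd
    have a := hg.1; have b := hg.2
    rw [ht.1] at a; rw [ht.2] at b
    have hz : g 0 0 * (1 + 4 * ν) = 0 := by linear_combination (2 * ν) * b - a
    have h0 := (mul_eq_zero.1 hz).resolve_right h.disc
    rw [h0] at hd a b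
    exact zero_ne_one (α := F) (by linear_combination hd + ν * g 1 0 * b)
  let f : tor ν ⊕ tor ν → nor ν := Sum.elim (fun t => ⟨t.1, Or.inl t.2⟩) fun t => ⟨w * t.1, Or.inr (hw.mul t.2)⟩
  have hf : Function.Bijective f := by
    constructor
    · rintro (s | s) (t | t) e <;> have e := congrArg Subtype.val e <;> simp only [f, Sum.elim_inl, Sum.elim_inr] at e
      · rw [Subtype.ext e]
      · exact absurd (e ▸ s.2) (hwT (hw.mul t.2))
      · exact absurd (e ▸ t.2) (hwT (hw.mul s.2))
      · rw [Subtype.ext (mul_left_cancel e)]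
    · rintro ⟨g, hg | hg⟩
      · exact ⟨.inl ⟨g, hg⟩, rfl⟩
      · exact ⟨.inr ⟨w⁻¹ * g, hw.inv.mul_mul hg⟩, Subtype.ext (mul_inv_cancel_left w g)⟩
  rw [← Nat.card_eq_of_bijective f hf, Nat.card_sum, card_tor h, two_mul]

/-- Orbit counting. -/
lemma card_dvd {T X : Type*} [Group T] [Finite T] [MulAction T X] [Finite X] {e : ℕ}
    (h : ∀ x : X, Nat.card (MulAction.stabilizer T x) ∣ e) : Nat.card T ∣ e * Nat.card X := by
  classical
  haveI : Fintype X := Fintype.ofFinite X
  haveI : Fintype (Quotient (MulAction.orbitRel T X)) := Fintype.ofFinite _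
  rw [Nat.card_congr (MulAction.selfEquivSigmaOrbits T X), Nat.card_sigma, Finset.mul_sum]
  refine Finset.dvd_sum fun o _ => ?_
  obtain ⟨c, hc⟩ := h o.out
  haveI : Fintype T := Fintype.ofFinite T
  refine ⟨c, ?_⟩
  rw [hc, ← MulAction.card_orbit_mul_card_stabilizer_eq_card_group T o.out |>.trans Nat.card_eq_fintype_card.symm]
  simp only [Nat.card_eq_fintype_card]
  ring

/-- The arithmetic at the end. -/
lemma arith {q p k m α δ ρ O : ℕ} [Fact p.Prime] (hq2 : 2 ≤ q) (hqk : q = p ^ k) (hq7 : q ≠ 7) (hq9 : q ≠ 9) (hm : 2 ≤ m)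
    (hcnt : m * (2 * (q + 1)) = O * (α * δ)) (hO : O ≤ q + 1)
    (hα : α ∣ q) (hδ : δ ∣ q - 1) (h1 : α = 1 ∨ (ρ ≤ α ∧ α * ρ ≤ q ∧ δ ≤ Nat.gcd 2 (q - 1) * (ρ - 1)))
    (hd1 : q + 1 ∣ Nat.gcd 2 (q - 1) * O) (hd2 : q + 1 ∣ Nat.gcd 4 (q + 1) * (m - 1)) : False := by
  have hδq : δ ≤ q - 1 := Nat.le_of_dvd (by omega) hδ
  have hP : α * δ + α ≤ Nat.gcd 2 (q - 1) * q ∧ α * δ < Nat.gcd 2 (q - 1) * q := by
    have hg : 1 ≤ Nat.gcd 2 (q - 1) := Nat.gcd_pos_of_pos_left _ two_pos
    suffices α * δ + α ≤ Nat.gcd 2 (q - 1) * q from ⟨this, by have := Nat.pos_of_dvd_of_pos hα (show 0 < q by omega); omega⟩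
    have hgq : q ≤ Nat.gcd 2 (q - 1) * q := Nat.le_mul_of_pos_left _ hg
    rcases h1 with rfl | ⟨-, h, h'⟩
    · omega
    · rcases Nat.eq_zero_or_pos ρ with rfl | hρ'
      · simp at h'; subst h'
        have := Nat.le_of_dvd (show 0 < q by omega) hα
        omega
      · obtain ⟨r, rfl⟩ : ∃ r, ρ = r + 1 := ⟨ρ - 1, by omega⟩
        rw [Nat.add_sub_cancel] at h'
        generalize Nat.gcd 2 (q - 1) = g at *
        calc α * δ + α ≤ α * (g * r) + α * g := Nat.add_le_add (Nat.mul_le_mul_left _ h') (Nat.le_mul_of_pos_right _ hg)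
          _ = g * (α * (r + 1)) := by ring
          _ ≤ g * q := Nat.mul_le_mul_left _ h
  obtain ⟨c, hc⟩ := hd1
  obtain ⟨j, hj⟩ := hd2
  rcases Nat.even_or_odd q with hev | hodd
  · rw [Nat.even_iff] at hev
    have g1 : Nat.gcd 2 (q - 1) = 1 := Nat.Coprime.gcd_eq_one (Nat.coprime_two_left.2 (Nat.odd_iff.2 (by omega)))
    have g2 : Nat.gcd 4 (q + 1) = 1 := by
      have : Nat.Coprime (2 ^ 2) (q + 1) := Nat.Coprime.pow_left 2 (Nat.coprime_two_left.2 (Nat.odd_iff.2 (by omega)))
      simpa using this.gcd_eq_one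
    rw [g1] at hc hP
    rw [g2] at hj
    have hO' : O = q + 1 := by
      rcases c with _ | _ | c
      · simp at hc; subst hc; simp at hcnt; omega
      · omega
      · have := Nat.mul_le_mul_left (q + 1) (show 2 ≤ c + 1 + 1 by omega)
        omega
    rw [hO'] at hcnt
    have : 2 * m = α * δ := Nat.eq_of_mul_eq_mul_left (show 0 < q + 1 by omega) (by rw [← hcnt]; ring)
    rcases j with _ | j
    · omega
    · have := Nat.le_mul_of_pos_right (q + 1) (show 0 < j + 1 by omega)
      omega
  rw [Nat.odd_iff] at hodd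
  have g1 : Nat.gcd 2 (q - 1) = 2 := Nat.gcd_eq_left (by omega)
  rw [g1] at hc hP h1
  have hcc : c = 1 ∨ c = 2 := by
    rcases c with _ | _ | _ | c
    · simp at hc; subst hc; simp at hcnt; omega
    · exact Or.inl rfl
    · exact Or.inr rfl
    · have := Nat.mul_le_mul_left (q + 1) (show 3 ≤ c + 1 + 1 + 1 by omega)
      omega
  have hm' : α * δ = 4 * m ∨ α * δ = 2 * m := by
    rcases hcc with rfl | rfl
    · left; exact (Nat.eq_of_mul_eq_mul_left (show 0 < q + 1 by omega) (by nlinarith)).symm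
    · right; exact (Nat.eq_of_mul_eq_mul_left (show 0 < q + 1 by omega) (by nlinarith)).symm
  have hαp : ∀ a, a.Prime → α = a → ∃ k, q = a ^ k := fun a ha e => ⟨k, by
    rw [hqk] at hα ⊢
    rw [e] at hα
    rw [(Nat.prime_dvd_prime_iff_eq ha Fact.out).1 (ha.dvd_of_dvd_pow hα)]⟩
  rcases Nat.lt_or_ge 1 (q % 4) with h4 | h4
  · have g2 : Nat.gcd 4 (q + 1) = 4 := Nat.gcd_eq_left (by omega)
    rw [g2] at hj
    have hj3 : 1 ≤ j ∧ j ≤ 3 := by
      constructor
      · rcases j with _ | j <;> omega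
      · by_contra hj4
        have : (q + 1) * 4 ≤ (q + 1) * j := Nat.mul_le_mul_left _ (by omega)
        omega
    have hj' : 4 * m = j * q + j + 4 := by
      have : (q + 1) * j = j * q + j := by ring
      omega
    have hαj : α ∣ j + 4 := by
      obtain ⟨α', hα'⟩ := hα
      have hco : Nat.Coprime α 2 := Nat.coprime_two_right.2 (Nat.Odd.of_mul_left (n := α') (hα' ▸ Nat.odd_iff.2 hodd))
      refine hco.dvd_of_dvd_mul_left ?_
      rcases hm' with e | e
      · refine Dvd.dvd.mul_left ?_ 2
        exact (Nat.dvd_add_right (Dvd.intro (j * α') (by rw [hα']; ring : α * (j * α') = j * q))).1 ⟨δ, by omega⟩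
      · exact (Nat.dvd_add_right (Dvd.intro (2 * j * α') (by rw [hα']; ring : α * (2 * j * α') = 2 * (j * q)))).1 ⟨4 * δ, by
          have : α * (4 * δ) = 4 * (α * δ) := by ring
          omega⟩
    have hα7 : α ≤ 7 := (Nat.le_of_dvd (by omega) hαj).trans (by omega)
    obtain ⟨hj1, hj3⟩ := hj3
    rcases h1 with rfl | ⟨hρα, hρq, hδρ⟩
    · obtain ⟨e, he⟩ := hδ
      rcases e with _ | _ | e
      · omega
      · interval_cases j <;> omega
      · have : δ * 2 ≤ q - 1 := by rw [he]; exact Nat.mul_le_mul_left _ (by omega)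
        interval_cases j <;> omega
    · have hα2 : α % 2 = 1 := Nat.odd_iff.1 (Odd.of_dvd_nat (Nat.odd_iff.2 hodd) hα)
      have hα1 : α = 1 ∨ 1 < α := by omega
      rcases hα1 with rfl | hα1
      · omega
      interval_cases j
      · obtain rfl : α = 5 := ((Nat.dvd_prime (by norm_num)).1 hαj).resolve_left (by omega)
        obtain ⟨e, he⟩ := hαp 5 (by norm_num) rfl
        rw [he, Nat.pow_mod] at h4
        simp at h4
      · have h6 : α ≤ 6 := Nat.le_of_dvd (by norm_num) hαj
        obtain rfl : α = 3 := by interval_cases α <;> omega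
        have := Nat.mul_le_mul_left 3 hδρ
        omega
      · obtain rfl : α = 7 := ((Nat.dvd_prime (by norm_num)).1 hαj).resolve_left (by omega)
        obtain ⟨e, he⟩ := hαp 7 (by norm_num) rfl
        have := Nat.mul_le_mul_left 7 hδρ
        have he3 : e < 3 := by
          by_contra h5
          have := (Nat.pow_le_pow_right (show 0 < 7 by norm_num) (show 3 ≤ e by omega)).trans_eq he.symm
          norm_num at this
          omega
        interval_cases e <;> norm_num at he <;> subst he <;> omega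
  · have g2 : Nat.gcd 4 (q + 1) = 2 := by
      have hm2 : (q + 1) % 4 = 2 := by omega
      rw [Nat.gcd_rec, hm2]; rfl
    rw [g2] at hj
    have hj1 : j = 1 := by
      rcases j with _ | _ | j
      · omega
      · rfl
      · have := Nat.mul_le_mul_left (q + 1) (show 2 ≤ j + 1 + 1 by omega)
        omega
    subst hj1
    have e : α * δ = q + 3 := by omega
    have hαj : α ∣ 3 := (Nat.dvd_add_right hα).1 (e ▸ Dvd.intro δ rfl)
    rcases (Nat.dvd_prime (by norm_num)).1 hαj with rfl | rfl
    · omega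
    · rcases h1 with h | ⟨hρα, -, hδρ⟩
      · omega
      · have := Nat.mul_le_mul_left 3 hδρ
        omega

theorem nor_max (h : Irr ν) (hq : Fintype.card F ≠ 7 ∧ Fintype.card F ≠ 9) {K : Subgroup SL2} (hK : nor ν ≤ K) :
    K = nor ν ∨ K = ⊤ := by
  classical
  by_contra hcon
  obtain ⟨hne, htop⟩ := not_or.1 hcon
  set q := Fintype.card F with hqd
  obtain ⟨p, hp⟩ := CharP.exists F
  obtain ⟨k, hpp, hqk⟩ := FiniteField.card F p
  haveI := Fact.mk hpp
  have hT : tor ν ≤ K := tor_le.trans hK
  have hTc := isCyclic_tor h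
  -- the upper triangular part
  let B : Subgroup SL2 :=
    { carrier := {g | g 1 0 = 0}
      one_mem' := by simp
      mul_mem' := fun {a b} ha hb => by
        show (a * b) 1 0 = 0
        rw [mul_ap, show a 1 0 = 0 from ha, show b 1 0 = 0 from hb]; ring
      inv_mem' := fun {a} ha => by
        show (a⁻¹ : SL2) 1 0 = 0
        rw [(inv_ap a).2.2.1, show a 1 0 = 0 from ha, neg_zero] }
  let A : AddSubgroup F :=
    { carrier := {x | up x ∈ K}
      zero_mem' := by simp [up_zero, K.one_mem]
      add_mem' := fun {x y} hx hy => by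
        show up (x + y) ∈ K
        rw [← up_mul]; exact K.mul_mem hx hy
      neg_mem' := fun {x} hx => by
        show up (-x) ∈ K
        rw [← up_inv]; exact K.inv_mem hx }
  have hBd : ∀ g : ↥(K ⊓ B), g.1 0 0 * g.1 1 1 = 1 := fun g => by
    have := det_two g.1
    rw [show g.1 1 0 = 0 from (Subgroup.mem_inf.1 g.2).2] at this
    linear_combination this
  let χ : ↥(K ⊓ B) →* Fˣ :=
    { toFun := fun g => Units.mkOfMulEqOne _ _ (hBd g)
      map_one' := Units.ext (by simp)
      map_mul' := fun a b => Units.ext (by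
        show (a.1 * b.1) 0 0 = a.1 0 0 * b.1 0 0
        rw [mul_ap, show b.1 1 0 = 0 from (Subgroup.mem_inf.1 b.2).2]; ring) }
  have hker : Nat.card χ.ker = Nat.card A := by
    refine Nat.card_congr
      { toFun := fun g => ⟨g.1.1 0 1, ?_⟩
        invFun := fun x => ⟨⟨up x.1, x.2, by simp [B, up_coe]⟩, Units.ext (by simp [χ, up_coe])⟩
        left_inv := fun g => ?_
        right_inv := fun x => Subtype.ext (by simp [up_coe]) }
    all_goals
      have h00 : g.1.1 0 0 = 1 := congrArg Units.val g.2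
      have h10 : g.1.1 1 0 = 0 := (Subgroup.mem_inf.1 g.1.2).2
      have h11 : g.1.1 1 1 = 1 := by have := hBd g.1; rwa [h00, one_mul] at this
      have e : up (g.1.1 0 1) = g.1.1 := Matrix.SpecialLinearGroup.ext _ _ fun i j => by
        fin_cases i <;> fin_cases j <;> simp [up_coe, h00, h10, h11]
    · show up _ ∈ K
      rw [e]; exact (Subgroup.mem_inf.1 g.1.2).1
    · exact Subtype.ext (Subtype.ext e)
  have hKB : Nat.card ↥(K ⊓ B) = Nat.card A * Nat.card χ.range := by
    rw [← χ.ker.card_mul_index, Subgroup.index_ker, hker]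
  have hAtop : A ≠ ⊤ := fun hA => by
    have hu : ∀ x, up x ∈ K := fun x => show x ∈ A by rw [hA]; trivial
    obtain ⟨t, ht⟩ : ∃ t : tor ν, t.1 1 0 ≠ 0 := by
      by_contra hc
      push Not at hc
      have h1 := card_tor h
      have h2 : Nat.card (tor ν) ≤ Nat.card (rootsOfUnity 2 F) := by
        refine Nat.card_le_card_of_injective (fun t => ⟨Units.mkOfMulEqOne (t.1 0 0) (t.1 0 0) (by
          have := tor_det t.2; rw [hc t] at this; linear_combination this), by
          rw [mem_rootsOfUnity]; refine Units.ext ?_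
          have := tor_det t.2; rw [hc t] at this
          simp [pow_two]; linear_combination this⟩) fun s t e => ?_
        have e' : s.1 0 0 = t.1 0 0 := congrArg (fun z => ((z : rootsOfUnity 2 F) : Fˣ).val) e
        refine Subtype.ext (Matrix.SpecialLinearGroup.ext _ _ fun i j => ?_)
        fin_cases i <;> fin_cases j <;> simp [e', s.2.1, s.2.2, t.2.1, t.2.2, hc s, hc t]
      have h3 : Nat.card (rootsOfUnity 2 F) ≤ 2 := by
        exact card_rootsOfUnity F 2
      have := Fintype.one_lt_card (α := F)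
      omega
    set k₀ := up (-(t.1 0 0) / t.1 1 0) * t.1 with hk₀
    have hk00 : k₀ 0 0 = 0 := by simp [hk₀, mul_ap, up_coe]; field_simp; ring
    have hk₀K : k₀ ∈ K := K.mul_mem (hu _) (hT t.2)
    refine htop (eq_top_iff.2 ?_)
    rw [← sup_eq_top (k := F), sup_le_iff]
    refine ⟨fun g hg => ?_, fun g hg => ?_⟩
    · obtain ⟨x, rfl⟩ := mem_lower.1 hg
      have hd := det_two k₀
      rw [hk00, zero_mul, zero_sub] at hd
      have h10 : k₀ 1 0 ≠ 0 := fun e => by rw [e] at hd; simp at hd
      have e : k₀ * up (-x / (k₀ 1 0 * k₀ 1 0)) * k₀⁻¹ = lo x := by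
        rw [mul_inv_eq_iff_eq_mul]
        refine Matrix.SpecialLinearGroup.ext _ _ fun i j => ?_
        fin_cases i <;> fin_cases j <;> simp [mul_ap, up_coe, lo_coe, hk00]
        field_simp
        linear_combination x * hd
      rw [← e]; exact K.mul_mem (K.mul_mem hk₀K (hu _)) (K.inv_mem hk₀K)
    · obtain ⟨x, rfl⟩ := mem_upper.1 hg
      exact hu x
  -- the stabilizing subring
  let R : Subring F :=
    { carrier := {x | ∀ a ∈ A, x * a ∈ A}
      one_mem' := fun a ha => by simpa using ha
      mul_mem' := fun {x y} hx hy a ha => by rw [mul_assoc]; exact hx _ (hy a ha)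
      zero_mem' := fun a _ => by simpa using A.zero_mem
      add_mem' := fun {x y} hx hy a ha => by rw [add_mul]; exact A.add_mem (hx a ha) (hy a ha)
      neg_mem' := fun {x} hx a ha => by rw [neg_mul]; exact A.neg_mem (hx a ha) }
  have hRinv : ∀ x ∈ R, x⁻¹ ∈ R := fun x hx => by
    by_cases hx0 : x = 0
    · simpa [hx0] using R.zero_mem
    have h1 : x * x ^ (q - 2) = 1 := by
      rw [← pow_succ', show q - 2 + 1 = q - 1 by have := Fintype.one_lt_card (α := F); omega]
      exact FiniteField.pow_card_sub_one_eq_one x hx0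
    rw [← eq_inv_of_mul_eq_one_right h1]
    exact R.pow_mem hx _
  have hRd : ∀ g : ↥(K ⊓ B), g.1 0 0 * g.1 0 0 ∈ R := fun g a ha => by
    have hg := Subgroup.mem_inf.1 g.2
    have hd := hBd g
    have e : g.1 * up a * g.1⁻¹ = up (g.1 0 0 * g.1 0 0 * a) := by
      rw [mul_inv_eq_iff_eq_mul]
      refine Matrix.SpecialLinearGroup.ext _ _ fun i j => ?_
      fin_cases i <;> fin_cases j <;> simp [mul_ap, up_coe, show g.1 1 0 = 0 from hg.2]
      linear_combination -(g.1 0 0 * a) * hd
    show up _ ∈ K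
    rw [← e]; exact K.mul_mem (K.mul_mem hg.1 ha) (K.inv_mem hg.1)
  have hA1 : Nat.card A = 1 ∨ (Nat.card R ≤ Nat.card A ∧ Nat.card A * Nat.card R ≤ q ∧
      Nat.card χ.range ≤ Nat.gcd 2 (q - 1) * (Nat.card R - 1)) := by
    rcases eq_or_ne A ⊥ with hb | hb
    · left; rw [hb]; simp
    right
    obtain ⟨a₀, ha₀, ha₀0⟩ : ∃ a₀ ∈ A, a₀ ≠ 0 := by
      by_contra hc
      push Not at hc
      exact hb ((AddSubgroup.eq_bot_iff_forall _).2 hc)
    obtain ⟨b, -, hbA⟩ := SetLike.exists_of_lt (lt_top_iff_ne_top.2 hAtop)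
    refine ⟨Nat.card_le_card_of_injective (fun r : R => (⟨r.1 * a₀, r.2 a₀ ha₀⟩ : A)) fun r s e =>
      Subtype.ext (mul_right_cancel₀ ha₀0 (congrArg Subtype.val e)), ?_, ?_⟩
    · rw [← Nat.card_prod, hqd, ← Nat.card_eq_fintype_card]
      refine Nat.card_le_card_of_injective (fun x : A × R => x.1.1 + x.2.1 * b) fun x y e => ?_
      simp only at e
      have hxy : x.2.1 = y.2.1 := by
        by_contra hne'
        refine hbA ?_
        have h1 : (x.2.1 - y.2.1) * b ∈ A := by
          rw [show (x.2.1 - y.2.1) * b = y.1.1 - x.1.1 by linear_combination e]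
          exact A.sub_mem y.1.2 x.1.2
        have := hRinv _ (R.sub_mem x.2.2 y.2.2) _ h1
        rwa [inv_mul_cancel_left₀ (sub_ne_zero.2 hne')] at this
      exact Prod.ext (Subtype.ext (by rw [hxy] at e; exact add_right_cancel e)) (Subtype.ext hxy)
    · let sq : χ.range →* Fˣ := (powMonoidHom 2).comp χ.range.subtype
      have h1 := sq.ker.card_mul_index
      rw [Subgroup.index_ker] at h1
      have h2 : Nat.card sq.ker ≤ Nat.gcd 2 (q - 1) := by
        have h2' := IsCyclic.card_powMonoidHom_ker (G := Fˣ) 2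
        rw [Nat.card_units, Nat.card_eq_fintype_card (α := F), Nat.gcd_comm] at h2'
        rw [← h2']
        exact Nat.card_le_card_of_injective (fun x : sq.ker => (⟨x.1.1, x.2⟩ : (powMonoidHom 2 : Fˣ →* Fˣ).ker))
          fun x y e => Subtype.ext (Subtype.ext (congrArg (fun z => z.1) e))
      have h3 : Nat.card sq.range ≤ Nat.card R - 1 := by
        have : Nat.card (Option sq.range) ≤ Nat.card R := by
          refine Nat.card_le_card_of_injective (fun o => o.elim (0 : R) fun z => ⟨(z.1 : F), ?_⟩) ?_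
          · obtain ⟨⟨_, g, rfl⟩, hg⟩ := z.2
            rw [← hg]
            simpa [sq, χ, pow_two] using hRd g
          · rintro (_ | x) (_ | y) e
            · rfl
            · exact absurd (congrArg Subtype.val e).symm y.1.ne_zero
            · exact absurd (congrArg Subtype.val e) x.1.ne_zero
            · exact congrArg some (Subtype.ext (Units.ext (congrArg Subtype.val e)))
        rw [Finite.card_option] at this
        omega
      rw [← h1]
      exact Nat.mul_le_mul h2 h3
  have hαq : Nat.card A ∣ q := by rw [hqd, ← Nat.card_eq_fintype_card]; exact A.card_addSubgroup_dvd_card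
  have hδq : Nat.card χ.range ∣ q - 1 := by
    have := χ.range.card_subgroup_dvd_card
    rwa [Nat.card_units, Nat.card_eq_fintype_card (α := F)] at this
  -- the two indices
  have hm := (Subgroup.subgroupOfEquivOfLe hK).toEquiv
  have hN : Nat.card ((nor ν).subgroupOf K) = 2 * (q + 1) := (Nat.card_congr hm).trans (card_nor h)
  have e1 := ((nor ν).subgroupOf K).card_mul_index
  have e2 := (B.subgroupOf K).card_mul_index
  rw [hN] at e1
  rw [show Nat.card (B.subgroupOf K) = Nat.card ↥(K ⊓ B) from Nat.card_congr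
    { toFun := fun g => ⟨g.1.1, g.1.2, g.2⟩
      invFun := fun g => ⟨⟨g.1, (Subgroup.mem_inf.1 g.2).1⟩, (Subgroup.mem_inf.1 g.2).2⟩
      left_inv := fun _ => rfl
      right_inv := fun _ => rfl }, hKB] at e2
  have hcz : Nat.card ((Subgroup.center SL2).subgroupOf (tor ν)) ∣ Nat.gcd 2 (q - 1) := by
    rw [Nat.card_congr (Subgroup.subgroupOfEquivOfLe center_le).toEquiv,
      Nat.card_congr (Matrix.SpecialLinearGroup.center_equiv_rootsOfUnity (n := Fin 2) (R := F)).toEquiv]
    have hroot : rootsOfUnity (max (Fintype.card (Fin 2)) 1) F = (powMonoidHom 2 : Fˣ →* Fˣ).ker := by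
      ext u; simp [mem_rootsOfUnity]
    rw [hroot, IsCyclic.card_powMonoidHom_ker, Nat.card_units, Nat.card_eq_fintype_card (α := F), Nat.gcd_comm]
  let act : MulAction (tor ν) (K ⧸ B.subgroupOf K) := MulAction.compHom _ (Subgroup.inclusion hT)
  have hd1 : q + 1 ∣ Nat.gcd 2 (q - 1) * (B.subgroupOf K).index := by
    rw [show q + 1 = Nat.card (tor ν) from (card_tor h).symm]
    refine @card_dvd (tor ν) (K ⧸ B.subgroupOf K) _ _ act _ _ fun x => ?_
    refine (Subgroup.card_dvd_of_le (show _ ≤ (Subgroup.center SL2).subgroupOf (tor ν) from fun t ht => ?_)).trans hcz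
    induction x using QuotientGroup.induction_on with
    | _ k' =>
      have ht' : ((Subgroup.inclusion hT t * k' : K) : K ⧸ B.subgroupOf K) = (k' : K ⧸ B.subgroupOf K) := ht
      rw [eq_comm, QuotientGroup.eq, Subgroup.mem_subgroupOf] at ht'
      have h0 : (k'.1⁻¹ * (t.1 * k'.1)) 1 0 = 0 := ht'
      simp only [mul_ap, inv_ap, t.2.1, t.2.2] at h0
      refine tor_scalar h t.2 ?_
      by_contra hb
      obtain ⟨z0, z1⟩ := h.form (a := k'.1 0 0) (b := k'.1 1 0) ((mul_eq_zero.1 (show t.1 1 0 * _ = 0 by linear_combination h0)).resolve_left hb)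
      have := det_two k'.1
      rw [z0, z1] at this
      simp at this
  have hO : (B.subgroupOf K).index ≤ q + 1 := by
    rw [Subgroup.index, hqd, ← Nat.card_eq_fintype_card, ← Finite.card_option]
    let φ : SL2 → Option F := fun k => if k 1 0 = 0 then none else some (k 0 0 / k 1 0)
    refine Nat.card_le_card_of_injective (fun x => φ (Quotient.out x).1) fun x y e => ?_
    rw [← QuotientGroup.out_eq' x, ← QuotientGroup.out_eq' y, QuotientGroup.eq, Subgroup.mem_subgroupOf]
    set a := (Quotient.out x).1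
    set b := (Quotient.out y).1
    show (a⁻¹ * b) 1 0 = 0
    rw [mul_ap, (inv_ap a).2.2.1, (inv_ap a).2.2.2]
    simp only [φ] at e
    split_ifs at e with ha hb hb
    · rw [ha, hb]; ring
    · rw [Option.some.injEq, div_eq_div_iff ha hb] at e
      linear_combination e
  let act2 : MulAction (tor ν) (K ⧸ (nor ν).subgroupOf K) := MulAction.compHom _ (Subgroup.inclusion hT)
  let P : Subtype fun x : K ⧸ (nor ν).subgroupOf K => True := ⟨((1 : K) : K ⧸ (nor ν).subgroupOf K), trivial⟩
  have hfix : ∀ (t : tor ν) (x : K ⧸ (nor ν).subgroupOf K), x ≠ ((1 : K) : K ⧸ (nor ν).subgroupOf K) →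
      act2.smul t x ≠ ((1 : K) : K ⧸ (nor ν).subgroupOf K) := fun t x hx e => by
    induction x using QuotientGroup.induction_on with
    | _ k' =>
      have e' : ((Subgroup.inclusion hT t * k' : K) : K ⧸ (nor ν).subgroupOf K) = ((1 : K) : K ⧸ (nor ν).subgroupOf K) := e
      rw [eq_comm, QuotientGroup.eq, Subgroup.mem_subgroupOf] at e'
      refine hx ?_
      rw [eq_comm, QuotientGroup.eq, Subgroup.mem_subgroupOf]
      have := (nor ν).mul_mem ((nor ν).inv_mem (tor_le t.2)) e'
      simpa using this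
  let X := {x : K ⧸ (nor ν).subgroupOf K // x ≠ ((1 : K) : K ⧸ (nor ν).subgroupOf K)}
  let act3 : MulAction (tor ν) X :=
    { smul := fun t x => ⟨act2.smul t x.1, hfix t x.1 x.2⟩
      one_smul := fun x => Subtype.ext (act2.one_smul x.1)
      mul_smul := fun s t x => Subtype.ext (act2.mul_smul s t x.1) }
  have hd2 : q + 1 ∣ Nat.gcd 4 (q + 1) * (((nor ν).subgroupOf K).index - 1) := by
    letI : CommGroup (tor ν) := { (inferInstance : Group (tor ν)) with mul_comm := fun a b => Subtype.ext (tor_comm a.2 b.2) }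
    have h4 : Nat.card (powMonoidHom 4 : tor ν →* tor ν).ker = Nat.gcd 4 (q + 1) := by
      rw [IsCyclic.card_powMonoidHom_ker, card_tor h, Nat.gcd_comm]
    have hX : Nat.card X = ((nor ν).subgroupOf K).index - 1 := by
      haveI : Fintype (K ⧸ (nor ν).subgroupOf K) := Fintype.ofFinite _
      show Nat.card {x : K ⧸ (nor ν).subgroupOf K // x ≠ _} = _
      rw [Subgroup.index, Nat.card_eq_fintype_card, Fintype.card_subtype_compl, Fintype.card_subtype_eq, Nat.card_eq_fintype_card]
    rw [← hX, show q + 1 = Nat.card (tor ν) from (card_tor h).symm]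
    refine @card_dvd (tor ν) X _ _ act3 _ _ fun x => ?_
    rw [card_tor h, ← h4]
    refine Subgroup.card_dvd_of_le fun t ht => ?_
    rw [MonoidHom.mem_ker, powMonoidHom_apply]
    obtain ⟨x, hx⟩ := x
    induction x using QuotientGroup.induction_on with
    | _ k' =>
      have ht' : ((Subgroup.inclusion hT t * k' : K) : K ⧸ (nor ν).subgroupOf K) = (k' : K ⧸ (nor ν).subgroupOf K) :=
        congrArg Subtype.val ht
      rw [eq_comm, QuotientGroup.eq, Subgroup.mem_subgroupOf] at ht'
      have hn : k'.1⁻¹ * t.1 * k'.1 ∈ nor ν := by simpa [mul_assoc] using ht'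
      refine Subtype.ext ?_
      rw [SubmonoidClass.coe_pow, OneMemClass.coe_one]
      rcases hn with hn | hn
      · by_cases ht0 : t.1 1 0 = 0
        · have hd := tor_det t.2
          rw [ht0] at hd
          have hsq : t.1 * t.1 = 1 := Matrix.SpecialLinearGroup.ext _ _ fun i j => by
            fin_cases i <;> fin_cases j <;> simp [mul_ap, t.2.1, t.2.2, ht0] <;> linear_combination hd
          rw [show (4 : ℕ) = 2 * 2 from rfl, pow_mul, pow_two t.1, hsq, one_pow]
        · refine absurd ?_ hx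
          rw [eq_comm, QuotientGroup.eq, Subgroup.mem_subgroupOf]
          have := (nor ν).inv_mem (mem_nor_of_conj h t.2 ht0 (g := k'.1⁻¹) (by simpa using hn))
          simpa using this
      · have := hn.sq
        have e : t.1 * t.1 = k'.1 * (-1) * k'.1⁻¹ := by rw [← this]; group
        rw [show (4 : ℕ) = 2 * 2 from rfl, pow_mul, pow_two t.1, e]
        simp [pow_two]
  refine arith (p := p) (k := k) Fintype.one_lt_card hqk hq.1 hq.2 (m := ((nor ν).subgroupOf K).index) ?_ ?_ hO hαq hδq hA1 hd1 hd2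
  · by_contra hc
    have h0 := ((nor ν).subgroupOf K).index_ne_zero_of_finite
    have h1 : ((nor ν).subgroupOf K).index = 1 := by omega
    rw [Subgroup.index_eq_one, Subgroup.subgroupOf_eq_top] at h1
    exact hne (le_antisymm h1 hK)
  · rw [Nat.mul_comm _ (2 * (q + 1)), e1, ← e2, Nat.mul_comm]

end Cfsg.Lib.Classical.NsDih
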