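import Mathlib
import Cfsg.Agent.Lib.PStable.DicksonSetup

/-!
Subgroups of `SL(2, K)` of order prime to the characteristic (no non-scalar element of trace `±2`):
either all squares lie in an abelian subgroup, or the order is 24, 48 or 120.
-/

set_option autoImplicit false
set_option linter.style.haveILetI false
set_option linter.unusedSectionVars false

namespace Cfsg.Lib.Classical.PrimeToChar

open Matrix Cfsg.Lib.PStable

variable {K : Type*} [Field K] {M : Subgroup (Matrix.SpecialLinearGroup (Fin 2) K)}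

variable (M) in
/-- The semisimple non-scalar elements. -/
def ssSet : Set M := {z | z ∉ scSet M ∧ trc (z : Matrix.SpecialLinearGroup (Fin 2) K) ^ 2 ≠ 4}

/-- The centralizer in `M`. -/
def cen (z : M) : Subgroup M := Subgroup.centralizer {z}

theorem mem_cen {z w : M} : w ∈ cen z ↔ w * z = z * w := Subgroup.mem_centralizer_singleton_iff

/-- The non-scalar part of the centralizer. -/
def wCls (z : M) : Set M := {w | w ∈ cen z ∧ w ∉ scSet M}

/-- The elements conjugate into the non-scalar part of the centralizer. -/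
def sCls (z : M) : Set M := {s | ∃ h : M, ∃ w ∈ wCls z, h * w * h⁻¹ = s}

theorem cen_eq_of_mem (hss : ∀ z : M, z ∉ scSet M → trc (z : Matrix.SpecialLinearGroup (Fin 2) K) ^ 2 ≠ 4)
    {z : M} (hz : z ∈ ssSet M) {w : M} (hw : w ∈ wCls z) : w ∈ ssSet M ∧ cen w = cen z := by
  have hwz := mem_cen.mp hw.1
  refine ⟨⟨hw.2, hss w hw.2⟩, ?_⟩
  ext x
  rw [mem_cen, mem_cen]
  constructor
  · exact fun hx => Subtype.ext (commute_trans (z := (w : Matrix.SpecialLinearGroup (Fin 2) K)) hw.2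
      (congrArg Subtype.val hx) (congrArg Subtype.val hwz.symm))
  · exact fun hx => Subtype.ext (commute_trans (z := (z : Matrix.SpecialLinearGroup (Fin 2) K)) hz.1
      (congrArg Subtype.val hx) (congrArg Subtype.val hwz))

theorem mem_cen_conj (h z x : M) : x ∈ cen (h * z * h⁻¹) ↔ h⁻¹ * x * h ∈ cen z := by
  rw [mem_cen, mem_cen]
  constructor
  · intro e
    calc h⁻¹ * x * h * z = h⁻¹ * (x * (h * z * h⁻¹)) * h := by group
      _ = h⁻¹ * ((h * z * h⁻¹) * x) * h := by rw [e]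
      _ = z * (h⁻¹ * x * h) := by group
  · intro e
    calc x * (h * z * h⁻¹) = h * (h⁻¹ * x * h * z) * h⁻¹ := by group
      _ = h * (z * (h⁻¹ * x * h)) * h⁻¹ := by rw [e]
      _ = h * z * h⁻¹ * x := by group

variable [Finite K]
  (hneg : (-1 : Matrix.SpecialLinearGroup (Fin 2) K) ∈ M) (h2 : (2 : K) ≠ 0)
  (hss : ∀ z : M, z ∉ scSet M → trc (z : Matrix.SpecialLinearGroup (Fin 2) K) ^ 2 ≠ 4)

include hneg h2 hss in
/-- The count of the conjugates of a centralizer. -/
theorem card_sCls {z : M} (hz : z ∈ ssSet M) : ∃ c s : ℕ, 2 ≤ c ∧ (s = 1 ∨ s = 2) ∧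
    Nat.card (cen z) = 2 * c ∧ Nat.card (sCls z) * s * c = Nat.card M * (c - 1) ∧
    s * Nat.card (cen z) ≤ Nat.card M ∧
    (s = 2 → ∃ h : M, h * z * h⁻¹ = z⁻¹) := by
  classical
  haveI : Finite M := Finite.of_injective _ Subtype.val_injective
  let nM : M := ⟨-1, hneg⟩
  have hSsub : scSet M ⊆ (cen z : Set M) := fun x hx => mem_cen.mpr (sc_comm hx z).symm
  have hzc : z ∈ cen z := mem_cen.mpr rfl
  have hWcard : Nat.card (wCls z) + 2 = Nat.card (cen z) := by
    have h := Set.ncard_diff_add_ncard_of_subset hSsub (Set.toFinite _)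
    have e0 := card_scSet hneg h2
    have e1 : Nat.card (cen z) = ((cen z : Subgroup M) : Set M).ncard := Nat.card_coe_set_eq _
    have e2 : Nat.card (wCls z) = (((cen z : Subgroup M) : Set M) \ scSet M).ncard := Nat.card_coe_set_eq _
    rw [Nat.card_coe_set_eq] at e0
    omega
  have heven : 2 ∣ Nat.card (cen z) := by
    have hmem : nM ∈ cen z := hSsub ((isScalar2_iff _).mpr (Or.inr rfl))
    have ho : orderOf (⟨nM, hmem⟩ : cen z) = 2 := by
      refine orderOf_eq_prime (Subtype.ext (Subtype.ext ?_)) fun h => one_ne_neg_one h2 ?_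
      · simp [nM, sq]
      · have := congrArg (fun x : cen z => ent (x : M) 0 0) h
        simp [nM, ent] at this
        exact this.symm
    exact (dvd_of_eq ho.symm).trans (orderOf_dvd_natCard _)
  obtain ⟨c, hc⟩ := heven
  have hc2 : 2 ≤ c := by
    have : 1 ≤ Nat.card (wCls z) := by
      haveI : Nonempty (wCls z) := ⟨⟨z, hzc, hz.1⟩⟩
      exact Nat.card_pos
    omega
  set N := Subgroup.normalizer (cen z : Set M)
  have hCN : cen z ≤ N := Subgroup.le_normalizer
  have hconjz : ∀ h ∈ N, h * z * h⁻¹ = z ∨ h * z * h⁻¹ = z⁻¹ := by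
    intro h hh
    have hm := mem_cen.mp ((Subgroup.mem_normalizer_iff.mp hh z).mp hzc)
    rcases eq_or_eq_inv h2 hz.1 hz.2 (congrArg Subtype.val hm) (trc_conj' z h) with e | e
    · exact Or.inl (Subtype.ext e)
    · exact Or.inr (Subtype.ext e)
  have hinv : z⁻¹ ≠ z := fun e => hz.1 (scalar_of_sq_eq_one h2 (by
    have e1 : z * z = 1 := by nth_rewrite 2 [← e]; rw [mul_inv_cancel]
    exact congrArg Subtype.val e1))
  have hN : ∀ n' ∈ N, ∀ w ∈ wCls z, n'⁻¹ * w * n' ∈ wCls z := by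
    intro n' hn' w hw
    refine ⟨?_, fun hs => hw.2 ((sc_conj w n'⁻¹).mp (by simpa using hs))⟩
    have := (Subgroup.mem_normalizer_iff.mp (N.inv_mem hn') w).mp hw.1
    simpa using this
  have hW : ∀ (h : M), ∀ w ∈ wCls z, ∀ v ∈ wCls z, h * w * h⁻¹ = v → h ∈ N := by
    intro h w hw v hv e
    refine Subgroup.mem_normalizer_iff.mpr fun x => ?_
    have e1 := mem_cen_conj h w (h * x * h⁻¹)
    rw [e, (cen_eq_of_mem hss hz hv).2, (cen_eq_of_mem hss hz hw).2,
      show h⁻¹ * (h * x * h⁻¹) * h = x by group] at e1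
    exact e1.symm
  have hcount := card_conj_image N (wCls z) hN hW
  have hiff : ∀ x : M, x ∈ cen z ↔ x * z * x⁻¹ = z := fun x => by
    rw [mem_cen, mul_inv_eq_iff_eq_mul]
  have hidx : ∃ s, (s = 1 ∨ s = 2) ∧ Nat.card N = s * Nat.card (cen z) ∧
      (s = 2 → ∃ h : M, h * z * h⁻¹ = z⁻¹) := by
    by_cases hex : ∃ h ∈ N, h * z * h⁻¹ = z⁻¹
    · obtain ⟨h1, h1N, hh1⟩ := hex
      refine ⟨2, Or.inr rfl, ?_, fun _ => ⟨h1, hh1⟩⟩
      have hi : ((cen z).subgroupOf N).index = 2 := by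
        rw [Subgroup.index_eq_two_iff_exists_notMem_and]
        refine ⟨⟨h1, h1N⟩, fun h => hinv (hh1.symm.trans ((hiff h1).mp h)), fun b => ?_⟩
        simp only [Subgroup.mem_subgroupOf, Subgroup.coe_mul, hiff]
        rcases hconjz b b.2 with e | e
        · exact Or.inr e
        · left
          calc (b : M) * h1 * z * ((b : M) * h1)⁻¹ = (b : M) * (h1 * z * h1⁻¹) * (b : M)⁻¹ := by group
            _ = ((b : M) * z * (b : M)⁻¹)⁻¹ := by rw [hh1]; group
            _ = z := by rw [e, inv_inv]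
      rw [← Subgroup.card_mul_index ((cen z).subgroupOf N), hi,
        Nat.card_congr (Subgroup.subgroupOfEquivOfLe hCN).toEquiv, mul_comm]
    · refine ⟨1, Or.inl rfl, ?_, fun h => absurd h (by norm_num)⟩
      have : N = cen z := le_antisymm (fun h hh => (hiff h).mpr (by
        rcases hconjz h hh with e | e
        · exact e
        · exact absurd ⟨h, hh, e⟩ hex)) hCN
      rw [this, one_mul]
  obtain ⟨s, hs, hNs, hs2⟩ := hidx
  refine ⟨c, s, hc2, hs, hc, ?_, hNs ▸ Subgroup.card_le_card_group N, hs2⟩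
  rw [hNs, hc, show Nat.card (wCls z) = 2 * (c - 1) by omega] at hcount
  refine Nat.eq_of_mul_eq_mul_right (show 0 < 2 by norm_num) ?_
  calc Nat.card (sCls z) * s * c * 2 = Nat.card (sCls z) * (s * (2 * c)) := by ring
    _ = Nat.card M * (2 * (c - 1)) := hcount
    _ = Nat.card M * (c - 1) * 2 := by ring

omit [Finite K] in
theorem self_mem_sCls {z : M} (hz : z ∈ ssSet M) : z ∈ sCls z :=
  ⟨1, z, ⟨mem_cen.mpr rfl, hz.1⟩, by group⟩

include hss in
theorem sCls_eq {z : M} (hz : z ∈ ssSet M) {w : M} (hw : w ∈ sCls z) :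
    w ∈ ssSet M ∧ sCls w = sCls z := by
  obtain ⟨h, w, hw, rfl⟩ := hw
  obtain ⟨hwSS, hCw⟩ := cen_eq_of_mem hss hz hw
  refine ⟨⟨fun hs => hw.2 ((sc_conj w h).mp hs), by rw [trc_conj']; exact hwSS.2⟩, ?_⟩
  have hWeq : ∀ x : M, x ∈ wCls (h * w * h⁻¹) ↔ h⁻¹ * x * h ∈ wCls z := by
    intro x
    simp only [wCls, Set.mem_setOf_eq, mem_cen_conj, hCw]
    refine and_congr_right fun _ => not_congr ?_
    simpa using (sc_conj x h⁻¹).symm
  ext y
  constructor
  · rintro ⟨g, x, hx, rfl⟩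
    exact ⟨g * h, h⁻¹ * x * h, (hWeq x).mp hx, by group⟩
  · rintro ⟨g, x, hx, rfl⟩
    exact ⟨g * h⁻¹, h * x * h⁻¹, (hWeq _).mpr (by simpa [mul_assoc] using hx), by group⟩


/-- Three classes. -/
theorem three_aux {m k1 k2 k3 c2 c3 : ℕ} (h1 : k1 * 2 = m) (h2 : k2 * c2 = m) (h3 : k3 * c3 = m)
    (hs : k1 + k2 + k3 = m + 2) (hc2 : 2 ≤ c2) (hc3 : 2 ≤ c3) :
    2 * c2 = m ∨ 2 * c3 = m ∨ m = 12 ∨ m = 24 ∨ m = 60 := by
  by_cases a : c2 = 2
  · subst a; right; left
    have : k3 = 2 := by omega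
    subst this; omega
  by_cases b : c3 = 2
  · subst b; left
    have : k2 = 2 := by omega
    subst this; omega
  have key : ∀ {k k' c c' : ℕ}, c = 3 → k * c = m → k' * c' = m → k1 + k + k' = m + 2 → 3 ≤ c' →
      m = 12 ∨ m = 24 ∨ m = 60 := by
    intro k k' c c' hc e e' hsum hc'
    subst hc
    have : c' < 6 := by
      by_contra h
      have := Nat.mul_le_mul_left k' (show 6 ≤ c' by omega)
      omega
    interval_cases c' <;> omega
  by_cases a3 : c2 = 3
  · rcases key a3 h2 h3 hs (by omega) with h | h | h <;> simp [h]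
  by_cases b3 : c3 = 3
  · rcases key b3 h3 h2 (by omega) (by omega) with h | h | h <;> simp [h]
  have := Nat.mul_le_mul_left k2 (show 4 ≤ c2 by omega)
  have := Nat.mul_le_mul_left k3 (show 4 ≤ c3 by omega)
  omega

theorem two_aux {m k1 k2 c1 c2 : ℕ} (h1 : k1 * c1 = 2 * m) (h2 : k2 * c2 = m) (hs : k1 + k2 = m + 2)
    (hc1 : 2 ≤ c1) (hc2 : 2 ≤ c2) : 2 * c2 = m ∨ m = 12 := by
  have b2 := Nat.mul_le_mul_left k2 hc2
  by_cases a : c1 = 2
  · subst a
    have : k2 = 2 := by omega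
    subst this; left; omega
  by_cases a3 : c1 = 3
  · subst a3
    by_cases b : c2 = 2
    · subst b; right; omega
    have := Nat.mul_le_mul_left k2 (show 3 ≤ c2 by omega)
    omega
  have := Nat.mul_le_mul_left k1 (show 4 ≤ c1 by omega)
  omega

/-- The solutions of the class equation. -/
theorem class_arith {m : ℕ} (D c s : Fin 3 → ℕ) (n : ℕ) (hm : 2 ≤ m)
    (hc : ∀ i, 2 ≤ c i) (hs : ∀ i, s i = 1 ∨ s i = 2) (he : ∀ i, D i * s i * c i = 2 * m * (c i - 1))
    (hle : ∀ i, s i * c i ≤ m)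
    (hn : (n = 1 ∧ D 0 + 2 = 2 * m) ∨ (n = 2 ∧ D 0 + D 1 + 2 = 2 * m) ∨ (n = 3 ∧ D 0 + D 1 + D 2 + 2 = 2 * m)) :
    (∃ i, c i = m ∨ 2 * c i = m) ∨ m = 12 ∨ m = 24 ∨ m = 60 := by
  have hk : ∀ i, ∃ k, k ≤ m ∧ (s i = 1 → D i + k = 2 * m ∧ k * c i = 2 * m) ∧
      (s i = 2 → D i + k = m ∧ k * c i = m ∧ 2 ≤ k ∧ 2 * k ≤ m) := by
    intro i
    obtain ⟨b, hb⟩ : ∃ b, c i = b + 2 := ⟨c i - 2, by have := hc i; omega⟩
    have e := he i
    have l := hle i
    rcases hs i with h | h <;> rw [h, hb] at e <;> rw [h, hb] at l <;> rw [show b + 2 - 1 = b + 1 from rfl] at e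
    · have hD : D i < 2 * m := by
        by_contra hc'
        have := Nat.mul_le_mul_right (b + 2) (Nat.not_lt.1 hc')
        nlinarith
      obtain ⟨k, hk⟩ : ∃ k, 2 * m = D i + k := ⟨2 * m - D i, by omega⟩
      have hk2 : k * (b + 2) = 2 * m := by nlinarith
      refine ⟨k, ?_, fun _ => ⟨hk.symm, hb ▸ hk2⟩, fun h' => absurd (h.symm.trans h') (by norm_num)⟩
      have := Nat.mul_le_mul_left k (show 2 ≤ b + 2 by omega)
      omega
    · have hD : D i < m := by
        by_contra hc'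
        have := Nat.mul_le_mul_right (2 * (b + 2)) (Nat.not_lt.1 hc')
        nlinarith
      obtain ⟨k, hk⟩ : ∃ k, m = D i + k := ⟨m - D i, by omega⟩
      have hkb : k * (b + 2) = m := by nlinarith
      have h2k := Nat.mul_le_mul_left k (show 2 ≤ b + 2 by omega)
      refine ⟨k, by omega, fun h' => absurd (h.symm.trans h') (by norm_num), fun _ => ⟨hk.symm, hb ▸ hkb, ?_, by omega⟩⟩
      by_contra hlt
      have := Nat.mul_le_mul_right (b + 2) (show k ≤ 1 by omega)
      omega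
  choose k hkm hk1 hk2 using hk
  rcases hn with ⟨-, hn⟩ | ⟨-, hn⟩ | ⟨-, hn⟩
  · left; refine ⟨0, Or.inl ?_⟩
    rcases hs 0 with h | h
    · obtain ⟨e1, e2⟩ := hk1 0 h
      have : k 0 = 2 := by omega
      rw [this] at e2; omega
    · obtain ⟨e1, -, e3, e4⟩ := hk2 0 h
      omega
  · have := hkm 0
    have := hkm 1
    rcases hs 0 with h | h <;> rcases hs 1 with h' | h'
    · obtain ⟨e1, -⟩ := hk1 0 h; obtain ⟨f1, -⟩ := hk1 1 h'; omega
    · obtain ⟨e1, e2⟩ := hk1 0 h; obtain ⟨f1, f2, -, -⟩ := hk2 1 h'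
      exact (two_aux e2 f2 (by omega) (hc 0) (hc 1)).elim (fun h => Or.inl ⟨1, Or.inr h⟩) (fun h => Or.inr (Or.inl h))
    · obtain ⟨e1, e2, -, -⟩ := hk2 0 h; obtain ⟨f1, f2⟩ := hk1 1 h'
      exact (two_aux f2 e2 (by omega) (hc 1) (hc 0)).elim (fun h => Or.inl ⟨0, Or.inr h⟩) (fun h => Or.inr (Or.inl h))
    · obtain ⟨e1, -, e3, e4⟩ := hk2 0 h; obtain ⟨f1, -, f3, f4⟩ := hk2 1 h'
      omega
  · have hge : ∀ i, m ≤ 2 * D i ∧ (s i = 1 → m ≤ D i) := fun i => by
      have := hkm i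
      rcases hs i with h | h
      · obtain ⟨e1, -⟩ := hk1 i h
        exact ⟨by omega, fun _ => by omega⟩
      · obtain ⟨e1, -, -, e4⟩ := hk2 i h
        exact ⟨by omega, fun h' => absurd (h'.symm.trans h) (by norm_num)⟩
    have hall : ∀ i, D i + k i = m ∧ k i * c i = m ∧ 2 ≤ k i ∧ 2 * k i ≤ m := fun i => hk2 i ((hs i).resolve_left fun h => by
      have := (hge i).2 h
      have := (hge 0).1; have := (hge 1).1; have := (hge 2).1
      fin_cases i <;> simp at * <;> omega)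
    obtain ⟨a1, a2, a3, a4⟩ := hall 0
    obtain ⟨b1, b2, b3, b4⟩ := hall 1
    obtain ⟨d1, d2, d3, d4⟩ := hall 2
    have conc : ∀ {a b : Fin 3}, (2 * c a = m ∨ 2 * c b = m ∨ m = 12 ∨ m = 24 ∨ m = 60) →
        (∃ i, c i = m ∨ 2 * c i = m) ∨ m = 12 ∨ m = 24 ∨ m = 60 := by
      intro a b h
      rcases h with h | h | h
      exacts [Or.inl ⟨a, Or.inr h⟩, Or.inl ⟨b, Or.inr h⟩, Or.inr h]
    by_cases q0 : c 0 = 2
    · exact conc (three_aux (q0 ▸ a2) b2 d2 (by omega) (hc 1) (hc 2))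
    by_cases q1 : c 1 = 2
    · exact conc (three_aux (q1 ▸ b2) a2 d2 (by omega) (hc 0) (hc 2))
    by_cases q2 : c 2 = 2
    · exact conc (three_aux (q2 ▸ d2) a2 b2 (by omega) (hc 0) (hc 1))
    have := Nat.mul_le_mul_left (k 0) (show 3 ≤ c 0 by have := hc 0; omega)
    have := Nat.mul_le_mul_left (k 1) (show 3 ≤ c 1 by have := hc 1; omega)
    have := Nat.mul_le_mul_left (k 2) (show 3 ≤ c 2 by have := hc 2; omega)
    omega

include h2 hss in
theorem card_cen_le {z : M} (hz : z ∈ ssSet M) : Nat.card (cen z) ≤ 2 * Nat.card K := by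
  classical
  haveI : Finite M := Finite.of_injective _ Subtype.val_injective
  haveI : Fintype (cen z) := Fintype.ofFinite _
  haveI : Fintype K := Fintype.ofFinite _
  rw [Nat.card_eq_fintype_card, Nat.card_eq_fintype_card, ← Finset.card_univ, ← Finset.card_univ]
  let f : cen z → K := fun w => trc ((w : M) : Matrix.SpecialLinearGroup (Fin 2) K)
  refine (Finset.card_le_mul_card_image (f := f) Finset.univ 2 fun b hb => ?_).trans
    (Nat.mul_le_mul_left 2 (Finset.card_le_univ _))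
  obtain ⟨w, -, rfl⟩ := Finset.mem_image.1 hb
  refine (Finset.card_le_card (show _ ⊆ ({w, w⁻¹} : Finset (cen z)) from fun v hv => ?_)).trans Finset.card_le_two
  have hvw : f v = f w := (Finset.mem_filter.1 hv).2
  rw [Finset.mem_insert, Finset.mem_singleton]
  by_cases hw : (w : M) ∈ scSet M
  · left
    have hv' : (v : M) ∈ scSet M := by
      by_contra hv'
      refine hss _ hv' ?_
      show f v ^ 2 = 4
      rw [hvw]
      rcases (isScalar2_iff _).mp hw with e | e <;> simp [f, trc, e] <;> ring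
    refine Subtype.ext (Subtype.ext (Matrix.SpecialLinearGroup.ext _ _ fun i j => ?_))
    have e1 := hv'.2.2
    have e2 := hw.2.2
    have e : ((v : M) : Matrix.SpecialLinearGroup (Fin 2) K) 0 0 = ((w : M) : Matrix.SpecialLinearGroup (Fin 2) K) 0 0 := by
      refine mul_left_cancel₀ h2 ?_
      have := hvw
      simp only [f, trc] at this
      linear_combination this + e1 - e2
    fin_cases i <;> fin_cases j <;> simp [hv'.1, hv'.2.1, hw.1, hw.2.1, e, ← e1, ← e2]
  · rcases eq_or_eq_inv h2 hw (hss _ hw) (congrArg (fun u : M => (u : Matrix.SpecialLinearGroup (Fin 2) K))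
      (show (v : M) * (w : M) = (w : M) * (v : M) from Subtype.ext (commute_trans hz.1
        (congrArg Subtype.val (mem_cen.mp v.2)) (congrArg Subtype.val (mem_cen.mp w.2))))) hvw with e | e
    · exact Or.inl (Subtype.ext (Subtype.ext e))
    · exact Or.inr (Subtype.ext (Subtype.ext e))

include hneg h2 hss in
/-- The subgroups of order prime to the characteristic. -/
theorem small_types : (∃ C : Subgroup M, (∀ x ∈ C, ∀ y ∈ C, x * y = y * x) ∧ (∀ g : M, g * g ∈ C) ∧
      Nat.card M ≤ 2 * Nat.card C ∧ Nat.card C ≤ 2 * Nat.card K) ∨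
    Nat.card M = 24 ∨ Nat.card M = 48 ∨ Nat.card M = 120 := by
  classical
  haveI : Finite M := Finite.of_injective _ Subtype.val_injective
  have hS : Nat.card (ssSet M) + 2 = Nat.card M := by
    have hc := card_scSet hneg h2
    have hcomp : ssSet M = (scSet M)ᶜ := Set.ext fun z => ⟨fun h => h.1, fun h => ⟨h, hss z h⟩⟩
    rw [hcomp, Nat.card_coe_set_eq]
    have := Set.ncard_add_ncard_compl (scSet M)
    rw [Nat.card_coe_set_eq] at hc
    omega
  have hn : 2 ∣ Nat.card M := by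
    have hc := card_scSet hneg h2
    let nM : M := ⟨-1, hneg⟩
    have ho : orderOf nM = 2 := by
      refine orderOf_eq_prime (Subtype.ext (by simp [nM, sq])) fun h => one_ne_neg_one h2 ?_
      have := congrArg (fun x : M => ent x 0 0) h
      simp [nM, ent] at this
      exact this.symm
    exact (dvd_of_eq ho.symm).trans (orderOf_dvd_natCard _)
  obtain ⟨m, hm⟩ := hn
  have hM1 : 0 < Nat.card M := Nat.card_pos
  rcases Nat.lt_or_ge m 2 with h1 | h1
  · left
    refine ⟨⊤, fun x _ y _ => ?_, fun g => trivial, by rw [Subgroup.card_top]; omega, ?_⟩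
    swap
    · rw [Subgroup.card_top]
      have h2K : 2 ≤ Nat.card K := Finite.one_lt_card
      omega
    have hx : ∀ g : M, g ∈ scSet M := fun g => by
      by_contra hg
      haveI : Nonempty (ssSet M) := ⟨⟨g, hg, hss g hg⟩⟩
      have := Nat.card_pos (α := ssSet M)
      omega
    exact (sc_comm (hx y) x)
  -- the classes
  have hcls := fun z (hz : z ∈ ssSet M) => card_sCls hneg h2 hss hz
  have hdisj : ∀ {z w}, z ∈ ssSet M → w ∈ ssSet M → w ∉ sCls z → Disjoint (sCls z) (sCls w) := fun {z w} hz hw hwn =>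
    Set.disjoint_left.mpr fun x hx hx' => hwn (by
      rw [← (sCls_eq hss hz hx).2, (sCls_eq hss hw hx').2]
      exact self_mem_sCls hw)
  have hsub : ∀ {z}, z ∈ ssSet M → sCls z ⊆ ssSet M := fun hz w hw => (sCls_eq hss hz hw).1
  have hbig : ∀ {z}, z ∈ ssSet M → m ≤ 2 * (sCls z).ncard := by
    intro z hz
    obtain ⟨c, s, hc, hs, -, he, -, -⟩ := hcls z hz
    obtain ⟨b, rfl⟩ : ∃ b, c = b + 2 := ⟨c - 2, by omega⟩
    rw [hm, show b + 2 - 1 = b + 1 from rfl, Nat.card_coe_set_eq] at he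
    rcases hs with rfl | rfl <;> nlinarith
  have fin : ∀ (n : ℕ) (z : Fin 3 → M), (∀ i, z i ∈ ssSet M) →
      ((n = 1 ∧ (sCls (z 0)).ncard + 2 = 2 * m) ∨ (n = 2 ∧ (sCls (z 0)).ncard + (sCls (z 1)).ncard + 2 = 2 * m) ∨
        (n = 3 ∧ (sCls (z 0)).ncard + (sCls (z 1)).ncard + (sCls (z 2)).ncard + 2 = 2 * m)) →
      (∃ C : Subgroup M, (∀ x ∈ C, ∀ y ∈ C, x * y = y * x) ∧ (∀ g : M, g * g ∈ C) ∧
        Nat.card M ≤ 2 * Nat.card C ∧ Nat.card C ≤ 2 * Nat.card K) ∨
        Nat.card M = 24 ∨ Nat.card M = 48 ∨ Nat.card M = 120 := by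
    intro n z hz hsum
    choose c s hc hs hC he hle hinv using fun i => hcls (z i) (hz i)
    rcases class_arith (fun i => (sCls (z i)).ncard) c s n h1 hc hs (fun i => by rw [← Nat.card_coe_set_eq, he i, hm])
      (fun i => by have := hle i; rw [hC i, hm] at this; nlinarith) hsum with ⟨i, hi⟩ | h | h | h
    · left
      refine ⟨cen (z i), fun x hx y hy => Subtype.ext (commute_trans (hz i).1
        (congrArg Subtype.val (mem_cen.mp hx)) (congrArg Subtype.val (mem_cen.mp hy))), fun g => ?_,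
        by rw [hm, hC i]; omega, card_cen_le h2 hss (hz i)⟩
      rcases hi with hi | hi
      · have : cen (z i) = ⊤ := Subgroup.eq_top_of_card_eq _ (by rw [hC i, hi, hm])
        rw [this]; trivial
      · refine Subgroup.mul_self_mem_of_index_two ?_ g
        have e := (cen (z i)).card_mul_index
        rw [hC i, hm] at e
        have : 2 * c i * (cen (z i)).index = 2 * c i * 2 := by rw [e]; omega
        exact Nat.eq_of_mul_eq_mul_left (by have := hc i; omega) this
    all_goals right; omega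
  have hSn : (ssSet M).ncard + 2 = 2 * m := by rw [← Nat.card_coe_set_eq]; omega
  obtain ⟨z0, hz0⟩ : (ssSet M).Nonempty := Set.nonempty_of_ncard_ne_zero (by omega)
  by_cases h01 : ssSet M ⊆ sCls z0
  · refine fin 1 ![z0, z0, z0] (fun i => by fin_cases i <;> simpa) (Or.inl ⟨rfl, ?_⟩)
    rw [show sCls (![z0, z0, z0] 0) = ssSet M from Set.Subset.antisymm (hsub hz0) h01]
    exact hSn
  obtain ⟨z1, hz1, hz1n⟩ := Set.not_subset.mp h01
  have d01 := hdisj hz0 hz1 hz1n
  by_cases h012 : ssSet M ⊆ sCls z0 ∪ sCls z1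
  · refine fin 2 ![z0, z1, z0] (fun i => by fin_cases i <;> simpa) (Or.inr (Or.inl ⟨rfl, ?_⟩))
    show (sCls z0).ncard + (sCls z1).ncard + 2 = 2 * m
    rw [← Set.ncard_union_eq d01, show sCls z0 ∪ sCls z1 = ssSet M from Set.Subset.antisymm (Set.union_subset (hsub hz0) (hsub hz1)) h012]
    exact hSn
  obtain ⟨z2, hz2, hz2n⟩ := Set.not_subset.mp h012
  rw [Set.mem_union, not_or] at hz2n
  have d2 : Disjoint (sCls z0 ∪ sCls z1) (sCls z2) :=
    Set.disjoint_union_left.mpr ⟨hdisj hz0 hz2 hz2n.1, hdisj hz1 hz2 hz2n.2⟩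
  by_cases h0123 : ssSet M ⊆ sCls z0 ∪ sCls z1 ∪ sCls z2
  · refine fin 3 ![z0, z1, z2] (fun i => by fin_cases i <;> simpa) (Or.inr (Or.inr ⟨rfl, ?_⟩))
    show (sCls z0).ncard + (sCls z1).ncard + (sCls z2).ncard + 2 = 2 * m
    rw [← Set.ncard_union_eq d01, ← Set.ncard_union_eq d2,
      show sCls z0 ∪ sCls z1 ∪ sCls z2 = ssSet M from
        Set.Subset.antisymm (Set.union_subset (Set.union_subset (hsub hz0) (hsub hz1)) (hsub hz2)) h0123]
    exact hSn
  obtain ⟨z3, hz3, hz3n⟩ := Set.not_subset.mp h0123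
  rw [Set.mem_union, Set.mem_union, not_or, not_or] at hz3n
  have d3 : Disjoint (sCls z0 ∪ sCls z1 ∪ sCls z2) (sCls z3) :=
    Set.disjoint_union_left.mpr ⟨Set.disjoint_union_left.mpr ⟨hdisj hz0 hz3 hz3n.1.1, hdisj hz1 hz3 hz3n.1.2⟩,
      hdisj hz2 hz3 hz3n.2⟩
  have hle := Set.ncard_le_ncard (t := ssSet M) (Set.union_subset (Set.union_subset (Set.union_subset (hsub hz0) (hsub hz1)) (hsub hz2)) (hsub hz3))
  rw [Set.ncard_union_eq d3, Set.ncard_union_eq d2, Set.ncard_union_eq d01] at hle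
  have := hbig hz0; have := hbig hz1; have := hbig hz2; have := hbig hz3
  omega

end Cfsg.Lib.Classical.PrimeToChar
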