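import Mathlib
import Cfsg.Agent.Lib.Classical.PrimeToCharSL2
import Cfsg.Agent.Lib.Classical.DicksonIndex
import Cfsg.Agent.Lib.Classical.NonsplitDihedralMax

/-! Proper subgroups of `SL(2, q)` have index at least `q + 1` (`q ∉ {2, 3, 5, 7, 9, 11}`). -/

set_option autoImplicit false
set_option linter.unusedSectionVars false
set_option linter.unusedSimpArgs false

namespace Cfsg.Lib.Classical.MinIndex

open Matrix Cfsg.Lib.PStable

variable {F : Type*} [Field F] [Fintype F]

local notation "SL2" => Matrix.SpecialLinearGroup (Fin 2) F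

lemma card_borel_eq (M : Subgroup SL2) : Nat.card (borel M) = Nat.card (aGrp M) * Nat.card (chi M).range := by
  rw [← Subgroup.card_mul_index (chi M).ker, Subgroup.index_ker, ← card_qGrp,
    qGrp, Nat.card_congr ((chi M).ker.equivMapOfInjective (borel M).subtype
      (borel M).subtype_injective).toEquiv]

lemma index_borel_le (M : Subgroup SL2) : (borel M).index ≤ Fintype.card F + 1 := by
  classical
  rw [Subgroup.index, ← Nat.card_eq_fintype_card, ← Finite.card_option]
  let φ : SL2 → Option F := fun k => if k 1 0 = 0 then none else some (k 0 0 / k 1 0)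
  refine Nat.card_le_card_of_injective (fun x => φ (Quotient.out x).1) fun x y e => ?_
  rw [← QuotientGroup.out_eq' x, ← QuotientGroup.out_eq' y, QuotientGroup.eq]
  set a := (Quotient.out x).1
  set b := (Quotient.out y).1
  show ((Quotient.out x)⁻¹ * Quotient.out y).1 1 0 = 0
  rw [Subgroup.coe_mul, Subgroup.coe_inv]
  show (a⁻¹ * b) 1 0 = 0
  rw [mul_entry, (inv_entries a).2.2.1, (inv_entries a).2.2.2]
  simp only [φ] at e
  split_ifs at e with ha hb hb
  · rw [ha, hb]; ring
  · rw [Option.some.injEq, div_eq_div_iff ha hb] at e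
    linear_combination e

lemma upperU_entries (a : F) : upperU a 0 0 = 1 ∧ upperU a 0 1 = a ∧ upperU a 1 0 = 0 ∧ upperU a 1 1 = 1 := by
  simp [upperU]

lemma upper_eq_top {M : Subgroup SL2} (h : ∀ a : F, upperU a ∈ M) {g : SL2} (hg : g ∈ M) (h10 : g 1 0 ≠ 0) : M = ⊤ := by
  set k₀ := upperU (-(g 0 0) / g 1 0) * g with hk₀
  have hk00 : k₀ 0 0 = 0 := by rw [hk₀, mul_entry, (upperU_entries _).1, (upperU_entries _).2.1]; field_simp; ring
  have hk₀M : k₀ ∈ M := M.mul_mem (h _) hg
  have hd := det_eq (g := k₀)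
  rw [hk00, zero_mul, zero_sub] at hd
  have hk10 : k₀ 1 0 ≠ 0 := fun e => by rw [e] at hd; simp at hd
  rw [eq_top_iff, ← Cfsg.Agent.SL2RankOne.sup_eq_top (k := F), sup_le_iff]
  refine ⟨fun z hz => ?_, fun z hz => ?_⟩
  · obtain ⟨x, rfl⟩ := Cfsg.Agent.SL2RankOne.mem_lower.1 hz
    have e : k₀ * upperU (-x / (k₀ 1 0 * k₀ 1 0)) * k₀⁻¹ = Cfsg.Agent.SL2RankOne.lo x := by
      rw [mul_inv_eq_iff_eq_mul]
      refine Matrix.SpecialLinearGroup.ext _ _ fun i j => ?_
      fin_cases i <;> fin_cases j <;> simp [mul_entry, upperU_entries, Cfsg.Agent.SL2RankOne.lo_coe, hk00]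
      field_simp
      linear_combination x * hd
    rw [← e]; exact M.mul_mem (M.mul_mem hk₀M (h _)) (M.inv_mem hk₀M)
  · obtain ⟨x, rfl⟩ := Cfsg.Agent.SL2RankOne.mem_upper.1 hz
    exact h x

/-- A proper subgroup containing an upper transvection. -/
theorem card_lt_of_upper {p : ℕ} [Fact p.Prime] [CharP F p] (hq : 4 ≤ Fintype.card F) (hq' : Fintype.card F % 2 = 1 → 13 ≤ Fintype.card F)
    (M : Subgroup SL2) (hneg : (-1 : SL2) ∈ M) (htop : M ≠ ⊤) {a0 : F} (ha0 : a0 ≠ 0) (hU : a0 ∈ aGrp M) :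
    Nat.card M < Fintype.card F ^ 2 - 1 := by
  classical
  set q := Fintype.card F with hqd
  have hsq : q * q = q ^ 2 := (pow_two q).symm
  by_cases hB : ∀ g ∈ M, g 1 0 = 0
  · have hle : Nat.card M ≤ q * (q - 1) := by
      have hd : ∀ g : M, g.1 0 0 * g.1 1 1 = 1 := fun g => by
        have := det_eq (g := g.1); rw [hB g g.2] at this; linear_combination this
      rw [hqd, ← Nat.card_eq_fintype_card, ← Nat.card_units, ← Nat.card_prod]
      refine Nat.card_le_card_of_injective (fun g => (g.1 0 1, Units.mkOfMulEqOne _ _ (hd g))) fun a b e => ?_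
      simp only [Prod.mk.injEq, Units.ext_iff, Units.val_mkOfMulEqOne] at e
      have h11 : a.1 1 1 = b.1 1 1 := by
        have h1 := hd a; have h2 := hd b
        rw [e.2] at h1
        exact mul_left_cancel₀ (left_ne_zero_of_mul_eq_one h2) (h1.trans h2.symm)
      refine Subtype.ext (Matrix.SpecialLinearGroup.ext _ _ fun i j => ?_)
      fin_cases i <;> fin_cases j <;> simp [e.1, e.2, h11, hB a a.2, hB b b.2]
    rw [Nat.mul_sub_one, hsq] at hle
    have h4q : 4 * q ≤ q ^ 2 := hsq ▸ Nat.mul_le_mul_right q hq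
    show Nat.card M < q ^ 2 - 1
    generalize q ^ 2 = Q at hle h4q ⊢
    generalize Nat.card M = N at hle ⊢
    omega
  push Not at hB
  obtain ⟨g, hg, h10⟩ := hB
  have hA : aGrp M ≠ ⊤ := fun h => htop (upper_eq_top (fun a => show a ∈ aGrp M by rw [h]; trivial) hg h10)
  obtain ⟨b, -, hbA⟩ := SetLike.exists_of_lt (lt_top_iff_ne_top.2 hA)
  let R : Subring F :=
    { carrier := {x | ∀ a ∈ aGrp M, x * a ∈ aGrp M}
      one_mem' := fun a ha => by simpa using ha
      mul_mem' := fun {x y} hx hy a ha => by rw [mul_assoc]; exact hx _ (hy a ha)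
      zero_mem' := fun a _ => by simpa using (aGrp M).zero_mem
      add_mem' := fun {x y} hx hy a ha => by rw [add_mul]; exact (aGrp M).add_mem (hx a ha) (hy a ha)
      neg_mem' := fun {x} hx a ha => by rw [neg_mul]; exact (aGrp M).neg_mem (hx a ha) }
  have hRinv : ∀ x ∈ R, x⁻¹ ∈ R := fun x hx => by
    by_cases hx0 : x = 0
    · simpa [hx0] using R.zero_mem
    have h1 : x * x ^ (q - 2) = 1 := by
      rw [← pow_succ', show q - 2 + 1 = q - 1 by omega]
      exact FiniteField.pow_card_sub_one_eq_one x hx0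
    rw [← eq_inv_of_mul_eq_one_right h1]
    exact R.pow_mem hx _
  set α := Nat.card (aGrp M)
  set ρ := Nat.card R
  have hρα : ρ ≤ α := Nat.card_le_card_of_injective (fun r : R => (⟨r.1 * a0, r.2 a0 hU⟩ : aGrp M)) fun r s e =>
    Subtype.ext (mul_right_cancel₀ ha0 (congrArg Subtype.val e))
  have hαρ : α * ρ ≤ q := by
    rw [← Nat.card_prod, hqd, ← Nat.card_eq_fintype_card]
    refine Nat.card_le_card_of_injective (fun x : aGrp M × R => x.1.1 + x.2.1 * b) fun x y e => ?_
    simp only at e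
    have hxy : x.2.1 = y.2.1 := by
      by_contra hne'
      refine hbA ?_
      have h1 : (x.2.1 - y.2.1) * b ∈ aGrp M := by
        rw [show (x.2.1 - y.2.1) * b = y.1.1 - x.1.1 by linear_combination e]
        exact (aGrp M).sub_mem y.1.2 x.1.2
      have := hRinv _ (R.sub_mem x.2.2 y.2.2) _ h1
      rwa [inv_mul_cancel_left₀ (sub_ne_zero.2 hne')] at this
    exact Prod.ext (Subtype.ext (by rw [hxy] at e; exact add_right_cancel e)) (Subtype.ext hxy)
  have hρ2 : 2 ≤ ρ := Finite.one_lt_card_iff_nontrivial.2 ⟨0, 1, fun e => zero_ne_one (α := F) (congrArg Subtype.val e)⟩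
  have hδ : Nat.card (chi M).range ≤ Nat.gcd 2 (q - 1) * (ρ - 1) := by
    let sq : (chi M).range →* Fˣ := (powMonoidHom 2).comp (chi M).range.subtype
    have h1 := sq.ker.card_mul_index
    rw [Subgroup.index_ker] at h1
    have h2 : Nat.card sq.ker ≤ Nat.gcd 2 (q - 1) := by
      have h2' := IsCyclic.card_powMonoidHom_ker (G := Fˣ) 2
      rw [Nat.card_units, Nat.card_eq_fintype_card (α := F), Nat.gcd_comm] at h2'
      rw [← h2']
      exact Nat.card_le_card_of_injective (fun x : sq.ker => (⟨x.1.1, x.2⟩ : (powMonoidHom 2 : Fˣ →* Fˣ).ker))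
        fun x y e => Subtype.ext (Subtype.ext (congrArg (fun z => z.1) e))
    have h3 : Nat.card sq.range ≤ ρ - 1 := by
      have : Nat.card (Option sq.range) ≤ ρ := by
        refine Nat.card_le_card_of_injective (fun o => o.elim (0 : R) fun z => ⟨(z.1 : F), ?_⟩) ?_
        · obtain ⟨⟨_, g', rfl⟩, hg'⟩ := z.2
          rw [← hg']
          intro a ha
          exact sq_mul_mem_aGrp g'.2 ha
        · rintro (_ | x) (_ | y) e
          · rfl
          · exact absurd (congrArg Subtype.val e).symm y.1.ne_zero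
          · exact absurd (congrArg Subtype.val e) x.1.ne_zero
          · exact congrArg some (Subtype.ext (Units.ext (congrArg Subtype.val e)))
      rw [Finite.card_option] at this
      omega
    rw [← h1]
    exact Nat.mul_le_mul h2 h3
  have hM : Nat.card M = α * Nat.card (chi M).range * (borel M).index := by
    rw [← card_borel_eq, Subgroup.card_mul_index]
  have hO := index_borel_le M
  have hαq : α ∣ q := by rw [hqd, ← Nat.card_eq_fintype_card]; exact (aGrp M).card_addSubgroup_dvd_card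
  have hρq : ρ ∣ q := by rw [hqd, ← Nat.card_eq_fintype_card]; exact R.toAddSubgroup.card_addSubgroup_dvd_card
  have key : Nat.card M + α * Nat.gcd 2 (q - 1) * (borel M).index ≤ Nat.gcd 2 (q - 1) * q * (borel M).index := by
    rw [hM, ← Nat.add_mul]
    refine Nat.mul_le_mul_right _ ?_
    calc α * Nat.card (chi M).range + α * Nat.gcd 2 (q - 1) ≤ α * (Nat.gcd 2 (q - 1) * (ρ - 1)) + α * Nat.gcd 2 (q - 1) :=
          Nat.add_le_add_right (Nat.mul_le_mul_left _ hδ) _
      _ = Nat.gcd 2 (q - 1) * (α * (ρ - 1 + 1)) := by ring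
      _ ≤ Nat.gcd 2 (q - 1) * q := Nat.mul_le_mul_left _ (by rw [Nat.sub_add_cancel (show 1 ≤ ρ by omega)]; exact hαρ)
  rcases Nat.mod_two_eq_zero_or_one q with hev | hodd
  · have g1 : Nat.gcd 2 (q - 1) = 1 := Nat.Coprime.gcd_eq_one (Nat.coprime_two_left.2 (Nat.odd_iff.2 (by omega)))
    rw [g1] at key
    have hα2 : 2 ≤ α := hρ2.trans hρα
    obtain ⟨O, hO'⟩ : ∃ O, (borel M).index = O := ⟨_, rfl⟩
    rw [hO'] at key hO
    have hMO : Nat.card M + 2 * O ≤ q * O := by nlinarith
    have h4q : 4 * q ≤ q ^ 2 := hsq ▸ Nat.mul_le_mul_right q hq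
    rw [← hsq] at h4q ⊢
    rcases Nat.lt_or_ge O (q + 1) with h | h
    · have := Nat.mul_le_mul_left q (show O ≤ q by omega)
      have : 0 < O := Nat.pos_of_ne_zero (hO' ▸ Subgroup.index_ne_zero_of_finite)
      omega
    · obtain rfl : O = q + 1 := by omega
      have h' : Nat.card M + 2 ≤ q * q := by nlinarith
      omega
  have g1 : Nat.gcd 2 (q - 1) = 2 := Nat.gcd_eq_left (by omega)
  have hp2 : p ≠ 2 := by
    rintro rfl
    obtain ⟨k, hk⟩ := FiniteField.card F 2
    rw [← hqd] at hk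
    have : (2 : ℕ) ∣ q := hk.2 ▸ dvd_pow_self 2 k.pos.ne'
    omega
  have hρ3 : 3 ≤ ρ := by
    have : ¬ 2 ∣ ρ := fun h => by have := h.trans hρq; omega
    omega
  rw [g1] at key hδ
  have hq13 := hq' hodd
  rcases index_eq hp2 hneg ha0 hU (g0 := ⟨g, hg⟩) h10 with hi | ⟨hi, -⟩
  · rw [hi, show Nat.card (aGrp M) = α from rfl] at key
    have h3 : 3 * α ≤ q := (Nat.mul_comm 3 α ▸ Nat.mul_le_mul_left α hρ3).trans hαρ
    have h4 : 3 * (2 * q * (α + 1)) ≤ 2 * q * (q + 3) := by nlinarith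
    have : 2 * q * (q + 3) + 3 < 3 * (q * q) := by nlinarith
    omega
  · rw [show Nat.card (aGrp M) = α from rfl] at hi
    have : Nat.card M ≤ 12 * (q + 1) := by
      rw [hM, hi]
      exact Nat.mul_le_mul (Nat.mul_le_mul_left 3 (hδ.trans (Nat.mul_le_mul_left 2 (show ρ - 1 ≤ 2 by omega)))) hO
    have h15 : 15 ≤ q := by
      have : 3 ∣ q := hi ▸ hαq
      omega
    have := Nat.mul_le_mul_right q h15
    omega

/-- A proper subgroup of order prime to the characteristic, characteristic two. -/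
theorem card_lt_of_even [CharP F 2] (hq : 4 ≤ Fintype.card F) (M : Subgroup SL2) (h2 : ¬ 2 ∣ Nat.card M) :
    Nat.card M < Fintype.card F ^ 2 - 1 := by
  classical
  set q := Fintype.card F with hqd
  have hA : Nat.card (aGrp M) = 1 := by
    rw [Nat.card_eq_one_iff_unique]
    refine ⟨⟨fun a b => ?_⟩, ⟨0⟩⟩
    have hz : ∀ c : aGrp M, c = 0 := fun c => by
      let u : M := ⟨upperU c.1, c.2⟩
      have hu : u ^ 2 = 1 := Subtype.ext (by
        rw [SubmonoidClass.coe_pow]; exact pow_char_of_trc_two (by show trc (upperU c.1) = 2; simp [trc, upperU_entries]; norm_num))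
      rcases (Nat.dvd_prime Nat.prime_two).1 (orderOf_dvd_of_pow_eq_one hu) with e | e
      · have := congrArg (fun v : M => v.1 0 1) (orderOf_eq_one_iff.1 e)
        exact Subtype.ext (by simpa [u, upperU] using this)
      · exact absurd ((dvd_of_eq e.symm).trans (orderOf_dvd_natCard u)) h2
    rw [hz a, hz b]
  set T := borel M
  have hT : Nat.card T = Nat.card (chi M).range := by
    show Nat.card (borel M) = _
    rw [card_borel_eq, hA, one_mul]
  have hinj : Function.Injective (chi M) := by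
    rw [← MonoidHom.ker_eq_bot_iff, Subgroup.eq_bot_iff_card, ← hA, ← card_qGrp]
    exact (Nat.card_congr ((chi M).ker.equivMapOfInjective (borel M).subtype (borel M).subtype_injective).toEquiv)
  have hT' : Nat.card T ≤ q - 1 := by
    have h := Subgroup.card_le_card_group (chi M).range
    rw [Nat.card_units, Nat.card_eq_fintype_card (α := F)] at h
    rw [hT]; exact h
  have hO := index_borel_le M
  have hM : Nat.card M = Nat.card T * T.index := (Subgroup.card_mul_index T).symm
  by_contra hcon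
  have hpq : q ^ 2 - 1 = (q - 1) * (q + 1) := by
    obtain ⟨r, hr⟩ : ∃ r, q = r + 1 := ⟨q - 1, by omega⟩
    rw [hr, Nat.add_sub_cancel, pow_two]
    have : (r + 1) * (r + 1) = r * (r + 1 + 1) + 1 := by ring
    omega
  have hTq : Nat.card T = q - 1 ∧ T.index = q + 1 := by
    rw [hM, hpq, not_lt] at hcon
    have a := Nat.mul_le_mul_right T.index hT'
    have b := Nat.mul_le_mul_left (Nat.card T) (show T.index ≤ q + 1 from hO)
    constructor
    · by_contra h
      have := Nat.mul_lt_mul_of_pos_right (show Nat.card T < q - 1 by omega) (show 0 < q + 1 by omega)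
      omega
    · by_contra h
      have := Nat.mul_lt_mul_of_pos_left (show T.index < q + 1 by show T.index < q + 1; have : T.index ≤ q + 1 := hO; omega) (show 0 < q - 1 by omega)
      omega
  -- commutation inside
  have hcomm : ∀ t : M, t ∈ T → t ≠ 1 → ∀ y : M, y * t = t * y → y ∈ T := fun t ht ht1 y h => by
    have hd : ent t 0 0 ≠ ent t 1 1 := fun e => by
      have hb := borel_prod t ht
      rw [← e] at hb
      have h00 : ent t 0 0 = 1 := by
        rcases mul_self_eq_one_iff.1 hb with e' | e'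
        · exact e'
        · rw [e', CharTwo.neg_eq]
      have : (⟨t, ht⟩ : T) = 1 := hinj (Units.ext (by rw [coe_chi, map_one]; exact h00))
      exact ht1 (congrArg Subtype.val this)
    have e := congrArg (fun v : M => v.1 1 0) h
    simp only [Subgroup.coe_mul, mul_entry, show t.1 1 0 = 0 from ht] at e
    show ent y 1 0 = 0
    simp only [ent] at hd ⊢
    exact (mul_eq_zero.1 (show y.1 1 0 * (t.1 0 0 - t.1 1 1) = 0 by linear_combination e)).resolve_right (sub_ne_zero.2 hd)
  have hTI : ∀ g t : M, t ∈ T → t ≠ 1 → g * t * g⁻¹ ∈ T → g ∈ T := fun g t ht ht1 h => by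
    have htr : ent (g * t * g⁻¹) 0 0 + ent (g * t * g⁻¹) 1 1 = ent t 0 0 + ent t 1 1 := trc_conj' t g
    have hb := borel_prod t ht
    have hb' := borel_prod _ h
    have hne := left_ne_zero_of_mul_eq_one hb
    have : (ent (g * t * g⁻¹) 0 0 - ent t 0 0) * (ent (g * t * g⁻¹) 0 0 - ent t 1 1) = 0 := by
      linear_combination (ent (g * t * g⁻¹) 0 0) * htr - hb' + hb
    rcases mul_eq_zero.1 this with e | e
    · have e' : (⟨g * t * g⁻¹, h⟩ : T) = ⟨t, ht⟩ := hinj (Units.ext (by rw [coe_chi, coe_chi]; exact sub_eq_zero.1 e))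
      exact hcomm t ht ht1 g (mul_inv_eq_iff_eq_mul.1 (congrArg Subtype.val e'))
    · have e' : (⟨g * t * g⁻¹, h⟩ : T) = (⟨t, ht⟩ : T)⁻¹ := hinj (Units.ext (by
        rw [map_inv, Units.val_inv_eq_inv_val, coe_chi, coe_chi]
        exact (sub_eq_zero.1 e).trans (eq_inv_of_mul_eq_one_right hb)))
      have e'' : g * t * g⁻¹ = t⁻¹ := congrArg Subtype.val e'
      have hg2 : g * g ∈ T := by
        refine hcomm t ht ht1 _ (mul_inv_eq_iff_eq_mul.1 ?_)
        calc g * g * t * (g * g)⁻¹ = g * (g * t * g⁻¹) * g⁻¹ := by group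
          _ = g * t⁻¹ * g⁻¹ := by rw [e'']
          _ = (g * t * g⁻¹)⁻¹ := by group
          _ = t := by rw [e'', inv_inv]
      obtain ⟨k, hk⟩ : ∃ k, Nat.card M = 2 * k + 1 := ⟨Nat.card M / 2, by omega⟩
      have : g = (g * g) ^ (k + 1) := by
        rw [← pow_two, ← pow_mul, show 2 * (k + 1) = Nat.card M + 1 by omega, pow_succ, pow_card_eq_one', one_mul]
      rw [this]; exact T.pow_mem hg2 _
  -- the elements in the conjugates of T
  let W := {t : T // t ≠ 1}
  let f : (M ⧸ T) × W → M := fun x => Quotient.out x.1 * (x.2.1 : M) * (Quotient.out x.1)⁻¹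
  have hf : Function.Injective f := by
    rintro ⟨c, t⟩ ⟨c', t'⟩ e
    simp only [f] at e
    have hmem : (Quotient.out c')⁻¹ * Quotient.out c ∈ T := by
      refine hTI _ t.1 t.1.2 (fun h => t.2 (Subtype.ext h)) ?_
      have : (Quotient.out c')⁻¹ * Quotient.out c * (t.1 : M) * ((Quotient.out c')⁻¹ * Quotient.out c)⁻¹ = (t'.1 : M) := by
        calc _ = (Quotient.out c')⁻¹ * (Quotient.out c * (t.1 : M) * (Quotient.out c)⁻¹) * Quotient.out c' := by group
          _ = _ := by rw [e]; group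
      rw [this]; exact t'.1.2
    have hc : c' = c := by
      rw [← QuotientGroup.out_eq' c', ← QuotientGroup.out_eq' c, QuotientGroup.eq]; exact hmem
    subst hc
    exact Prod.ext rfl (Subtype.ext (Subtype.ext (mul_left_cancel (mul_right_cancel e))))
  let Y := {y : M // y ∉ Set.range f ∧ y ≠ 1}
  have hf1 : (1 : M) ∉ Set.range f := by
    rintro ⟨⟨c, t⟩, h⟩
    simp only [f] at h
    exact t.2 (Subtype.ext (by simpa using conj_eq_one_iff.1 h))
  have hY : Nat.card Y = q := by
    have hW : Nat.card W + 1 = Nat.card T := by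
      haveI := Fintype.ofFinite T
      show Nat.card {t : T // t ≠ 1} + 1 = _
      rw [Nat.card_eq_fintype_card, Nat.card_eq_fintype_card, Fintype.card_subtype_compl, Fintype.card_subtype_eq]
      have := Fintype.card_pos (α := T)
      omega
    have hr : Nat.card (Set.range f) = T.index * Nat.card W := by
      rw [Nat.card_range_of_injective hf, Nat.card_prod]; rfl
    have hc : ({y : M | y ∉ Set.range f ∧ y ≠ 1}) = (Set.range f ∪ {1})ᶜ := by ext y; simp [and_comm]
    have h := Set.ncard_add_ncard_compl (Set.range f ∪ {1})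
    rw [← hc, Set.ncard_union_eq (Set.disjoint_singleton_right.2 hf1), Set.ncard_singleton, ← Nat.card_coe_set_eq, ← Nat.card_coe_set_eq, hr] at h
    rw [hM, hTq.1, hTq.2] at h
    rw [hTq.1] at hW
    show Nat.card {y : M | y ∉ Set.range f ∧ y ≠ 1} = q
    obtain ⟨w, hw⟩ : ∃ w, Nat.card W = w := ⟨_, rfl⟩
    rw [hw] at h hW
    obtain ⟨r, hr⟩ : ∃ r, q = r + 2 := ⟨q - 2, by omega⟩
    rw [hr] at h hW ⊢
    have : w = r := by omega
    subst this
    rw [show w + 2 - 1 = w + 1 by omega] at h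
    have e1 : (w + 2 + 1) * w = w * w + 3 * w := by ring
    have e2 : (w + 1) * (w + 2 + 1) = w * w + 4 * w + 3 := by ring
    omega
  have hYc : ∀ (t : T) (y : Y), (t : M) * y.1 * (t : M)⁻¹ ∉ Set.range f ∧ (t : M) * y.1 * (t : M)⁻¹ ≠ 1 := fun t y => by
    refine ⟨?_, fun h => y.2.2 (conj_eq_one_iff.1 h)⟩
    rintro ⟨⟨c, s⟩, h⟩
    refine y.2.1 ?_
    simp only [f] at h
    set g := (t : M)⁻¹ * Quotient.out c
    have hy : y.1 = g * (s.1 : M) * g⁻¹ := by
      calc y.1 = (t : M)⁻¹ * ((t : M) * y.1 * (t : M)⁻¹) * (t : M) := by group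
        _ = _ := by rw [← h]; simp only [g]; group
    obtain ⟨u, hu⟩ : ∃ u : T, Quotient.out ((g : M) : M ⧸ T) = g * u :=
      ⟨⟨g⁻¹ * Quotient.out ((g : M) : M ⧸ T), QuotientGroup.eq.1 (QuotientGroup.out_eq' _).symm⟩, by simp⟩
    refine ⟨(((g : M) : M ⧸ T), ⟨u⁻¹ * s.1 * u, fun e => s.2 (by simpa using conj_eq_one_iff.1 (show u⁻¹ * s.1 * u⁻¹⁻¹ = 1 by rwa [inv_inv]))⟩), ?_⟩
    simp only [f, hu, hy, Subgroup.coe_mul, Subgroup.coe_inv]
    group
  let act : MulAction T Y :=
    { smul := fun t y => ⟨(t : M) * y.1 * (t : M)⁻¹, hYc t y⟩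
      one_smul := fun y => Subtype.ext (by show ((1 : T) : M) * y.1 * ((1 : T) : M)⁻¹ = y.1; simp)
      mul_smul := fun s t y => Subtype.ext (by
        show ((s * t : T) : M) * y.1 * ((s * t : T) : M)⁻¹ = (s : M) * ((t : M) * y.1 * (t : M)⁻¹) * (s : M)⁻¹
        rw [Subgroup.coe_mul]; group) }
  have hdvd := @Cfsg.Lib.Classical.NsDih.card_dvd T Y _ _ act _ 1 fun y => by
    rw [Nat.dvd_one, Subgroup.card_eq_one, Subgroup.eq_bot_iff_forall]
    intro t ht
    by_contra ht1
    have e : (t : M) * y.1 * (t : M)⁻¹ = y.1 := congrArg Subtype.val ht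
    have hyT := hcomm t t.2 (fun h => ht1 (Subtype.ext h)) y.1 (mul_inv_eq_iff_eq_mul.1 e).symm
    refine y.2.1 ?_
    obtain ⟨u, hu⟩ : ∃ u : T, Quotient.out ((1 : M) : M ⧸ T) = u :=
      ⟨⟨Quotient.out ((1 : M) : M ⧸ T), by
        have h1 := QuotientGroup.eq.1 (QuotientGroup.out_eq' ((1 : M) : M ⧸ T)).symm
        rwa [inv_one, one_mul] at h1⟩, rfl⟩
    refine ⟨(((1 : M) : M ⧸ T), ⟨u⁻¹ * ⟨y.1, hyT⟩ * u, fun h => y.2.2 ?_⟩), ?_⟩
    · have := conj_eq_one_iff.1 (show u⁻¹ * (⟨y.1, hyT⟩ : T) * u⁻¹⁻¹ = 1 by rwa [inv_inv])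
      exact congrArg Subtype.val this
    · simp only [f, hu, Subgroup.coe_mul, Subgroup.coe_inv]
      group
  rw [hTq.1, hY, one_mul] at hdvd
  have := Nat.le_of_dvd (show 0 < q - (q - 1) by omega) (Nat.dvd_sub hdvd dvd_rfl)
  omega

/-- An element of order `p` has a fixed vector. -/
lemma exists_conj_upper {p : ℕ} [Fact p.Prime] [CharP F p] (x : SL2) (hx : x ^ p = 1) (hx1 : x ≠ 1) :
    ∃ s : SL2, ∃ a : F, a ≠ 0 ∧ s⁻¹ * x * s = upperU a := by
  set X : Matrix (Fin 2) (Fin 2) F := (x : Matrix (Fin 2) (Fin 2) F) with hX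
  have hXp : X ^ p = 1 := by
    have h := congrArg (fun z : SL2 => (z : Matrix (Fin 2) (Fin 2) F)) hx
    simpa using h
  have hdet : (X - 1).det = 0 := by
    haveI : CharP (Matrix (Fin 2) (Fin 2) F) p := charP_of_injective_algebraMap (algebraMap F (Matrix (Fin 2) (Fin 2) F)).injective p
    have h := congrArg Matrix.det (show (X - 1) ^ p = 0 by rw [sub_pow_char_of_commute p (Commute.one_right X), hXp, one_pow, sub_self])
    rw [Matrix.det_pow, Matrix.det_zero] at h
    exact eq_zero_of_pow_eq_zero h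
  obtain ⟨v, hv0, hv⟩ := Matrix.exists_mulVec_eq_zero_iff.2 hdet
  rw [Matrix.sub_mulVec, Matrix.one_mulVec, sub_eq_zero] at hv
  obtain ⟨s, hs⟩ : ∃ s : SL2, (s : Matrix (Fin 2) (Fin 2) F) *ᵥ ![1, 0] = v := by
    by_cases h0 : v 0 = 0
    · have h1 : v 1 ≠ 0 := fun h1 => hv0 (by ext i; fin_cases i <;> simp [h0, h1])
      refine ⟨⟨!![0, -(v 1)⁻¹; v 1, 0], by rw [Matrix.det_fin_two_of]; field_simp; ring⟩, ?_⟩
      ext i; fin_cases i <;> simp [h0]
    · refine ⟨⟨!![v 0, 0; v 1, (v 0)⁻¹], by rw [Matrix.det_fin_two_of]; field_simp; ring⟩, ?_⟩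
      ext i; fin_cases i <;> simp
  set u := s⁻¹ * x * s with hu
  have hue : (u : Matrix (Fin 2) (Fin 2) F) *ᵥ ![1, 0] = ![1, 0] := by
    rw [hu, Matrix.SpecialLinearGroup.coe_mul, Matrix.SpecialLinearGroup.coe_mul, ← Matrix.mulVec_mulVec, ← Matrix.mulVec_mulVec, hs,
      ← hX, hv, ← hs, Matrix.mulVec_mulVec, ← Matrix.SpecialLinearGroup.coe_mul, inv_mul_cancel, Matrix.SpecialLinearGroup.coe_one, Matrix.one_mulVec]
  have hu00 : u 0 0 = 1 := by simpa [Matrix.mulVec, dotProduct, Fin.sum_univ_two] using congrFun hue 0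
  have hu10 : u 1 0 = 0 := by simpa [Matrix.mulVec, dotProduct, Fin.sum_univ_two] using congrFun hue 1
  refine ⟨s, u 0 1, fun h0 => hx1 ?_, eq_upperU hu10 hu00⟩
  have := eq_upperU hu10 hu00
  rw [h0, upperU_zero, hu] at this
  calc x = s * (s⁻¹ * x * s) * s⁻¹ := by group
    _ = 1 := by rw [this]; group

/-- The main bound. -/
theorem card_lt (hq : Fintype.card F ∉ ({2, 3, 5, 7, 9, 11} : Finset ℕ)) (M : Subgroup SL2) (hneg : (-1 : SL2) ∈ M)
    (htop : M ≠ ⊤) : Nat.card M < Fintype.card F ^ 2 - 1 := by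
  simp only [Finset.mem_insert, Finset.mem_singleton, not_or] at hq
  have h2le := Fintype.one_lt_card (α := F)
  obtain ⟨p, hp⟩ := CharP.exists F
  obtain ⟨k, hpp, hk⟩ := FiniteField.card F p
  haveI := Fact.mk hpp
  have hq4 : 4 ≤ Fintype.card F := by omega
  have hq13 : Fintype.card F % 2 = 1 → 13 ≤ Fintype.card F := by omega
  by_cases hpM : p ∣ Nat.card M
  · obtain ⟨x, hx⟩ := exists_prime_orderOf_dvd_card' p hpM
    have hx' : (x : SL2) ^ p = 1 := by rw [← SubmonoidClass.coe_pow, ← hx, pow_orderOf_eq_one]; rfl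
    obtain ⟨s, a, ha, hsa⟩ := exists_conj_upper (x : SL2) hx' fun e => by
      rw [show x = 1 from Subtype.ext e, orderOf_one] at hx
      exact hpp.one_lt.ne hx
    set M' := M.map (MulAut.conj s⁻¹).toMonoidHom
    have hc : Nat.card M' = Nat.card M := (Nat.card_congr (M.equivMapOfInjective _ (MulAut.conj s⁻¹).injective).toEquiv).symm
    rw [← hc]
    refine card_lt_of_upper (p := p) hq4 hq13 M' ⟨-1, hneg, by simp [mul_assoc]⟩ (fun h => htop ?_) ha ⟨x, x.2, by rw [← hsa]; simp⟩
    refine Subgroup.eq_top_of_card_eq M ?_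
    rw [← hc, h, Subgroup.card_top]
  · rcases eq_or_ne p 2 with rfl | hp2
    · exact card_lt_of_even hq4 M hpM
    have h2 : (2 : F) ≠ 0 := Ring.two_ne_zero (by rw [ringChar.eq F p]; exact hp2)
    have hodd : Fintype.card F % 2 = 1 := by
      rw [hk, Nat.pow_mod, Nat.odd_iff.1 (hpp.odd_of_ne_two hp2), one_pow]; norm_num
    have hss : ∀ z : M, z ∉ scSet M → trc (z : SL2) ^ 2 ≠ 4 := fun z hz ht => by
      have key : ∀ v : M, trc (v : SL2) = 2 → v = 1 := fun v hv => by
        have hvp : v ^ p = 1 := Subtype.ext (by rw [SubmonoidClass.coe_pow, pow_char_of_trc_two hv]; rfl)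
        rcases (Nat.dvd_prime hpp).1 (orderOf_dvd_of_pow_eq_one hvp) with e | e
        · exact orderOf_eq_one_iff.1 e
        · exact absurd (e ▸ orderOf_dvd_natCard v) hpM
      have hsc : ∀ v : M, (v : SL2) = 1 ∨ (v : SL2) = -1 → v ∈ scSet M := fun v hv => (isScalar2_iff _).2 hv
      rcases eq_or_eq_neg_of_sq_eq_sq (trc (z : SL2)) 2 (by rw [ht]; norm_num) with h | h
      · exact hz (hsc z (Or.inl (by rw [key z h]; rfl)))
      · have := key (⟨-1, hneg⟩ * z) (by
          show trc ((-1 : SL2) * (z : SL2)) = 2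
          rw [neg_one_mul]
          simp only [trc, neg_entry] at h ⊢
          linear_combination -h)
        have h' : -(z : SL2) = 1 := by simpa using congrArg Subtype.val this
        exact hz (hsc z (Or.inr (by rw [← h', neg_neg])))
    have h13 := hq13 hodd
    have hsq : 13 * Fintype.card F ≤ Fintype.card F ^ 2 := by rw [pow_two]; exact Nat.mul_le_mul_right _ h13
    rcases Cfsg.Lib.Classical.PrimeToChar.small_types hneg h2 hss with ⟨C, -, -, h1, h2'⟩ | h | h | h
    · rw [Nat.card_eq_fintype_card (α := F)] at h2'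
      omega
    all_goals omega

end Cfsg.Lib.Classical.MinIndex
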