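import Mathlib
import Cfsg.Agent.Lib.Classical.MinimalIndexSL2
import Cfsg.Agent.Lib.Classical.SplitDihedralMax

/-! Overgroups of `SL(2, F₀)` in `SL(2, F)`, characteristic two, no field strictly between. -/

set_option autoImplicit false
set_option linter.unusedSectionVars false
set_option linter.unusedSimpArgs false

namespace Cfsg.Lib.Classical.SubfieldEven

open Matrix Cfsg.Lib.PStable Cfsg.Agent.SL2RankOne Cfsg.Lib.Classical.MinIndex Cfsg.Lib.Classical.SplitDih

variable {F : Type*} [Field F] [Fintype F] [CharP F 2]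

local notation "SL2" => Matrix.SpecialLinearGroup (Fin 2) F

theorem not_scalar_of_sq {z : SL2} (h : z * z ≠ 1) : ¬ IsScalar2 z := fun hs => by
  rcases (isScalar2_iff z).1 hs with rfl | rfl
  · exact h (one_mul 1)
  · exact h (by simp)

/-- In the centraliser only the element and its inverse have the same trace. -/
theorem eq_or_eq_inv {z w : SL2} (hz : z * z ≠ 1) (h : w * z = z * w) (htr : trc w = trc z) : w = z ∨ w = z⁻¹ := by
  obtain ⟨u, v, a1, a2, a3, a4⟩ := exists_linear_of_commute (not_scalar_of_sq hz) h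
  have hzd := det_eq (g := z)
  have hwd := det_eq (g := w)
  have h2 : (2 : F) = 0 := CharP.cast_eq_zero F 2
  have ht : z 0 0 + z 1 1 ≠ 0 := fun e => hz (by
    refine Matrix.SpecialLinearGroup.ext _ _ fun i j => ?_
    fin_cases i <;> fin_cases j <;> simp [mul_entry]
    · linear_combination (z 0 0) * e - hzd - h2
    · linear_combination (z 0 1) * e
    · linear_combination (z 1 0) * e
    · linear_combination (z 1 1) * e - hzd - h2)
  simp only [trc, a1, a4] at htr
  rw [a1, a2, a3, a4] at hwd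
  have hu : u = 1 := mul_right_cancel₀ ht (show u * (z 0 0 + z 1 1) = 1 * (z 0 0 + z 1 1) by linear_combination htr - v * h2)
  subst hu
  have hv : v * (v + (z 0 0 + z 1 1)) = 0 := by linear_combination hwd - hzd
  obtain ⟨i1, i2, i3, i4⟩ := inv_entries z
  rcases mul_eq_zero.1 hv with e | e
  · left; subst e
    refine Matrix.SpecialLinearGroup.ext _ _ fun i j => ?_
    fin_cases i <;> fin_cases j <;> simp [a1, a2, a3, a4]
  · right
    refine Matrix.SpecialLinearGroup.ext _ _ fun i j => ?_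
    fin_cases i <;> fin_cases j <;> simp only [Fin.isValue, Fin.zero_eta, Fin.mk_one, i1, i2, i3, i4, a1, a2, a3, a4]
    · linear_combination e - (z 1 1) * h2
    · linear_combination (z 0 1) * h2
    · linear_combination (z 1 0) * h2
    · linear_combination e - (z 0 0) * h2

/-- The centraliser in `M`. -/
def cenE {M : Subgroup SL2} (z : M) : Subgroup M := Subgroup.centralizer {z}

theorem mem_cenE {M : Subgroup SL2} {z w : M} : w ∈ cenE z ↔ w * z = z * w := Subgroup.mem_centralizer_singleton_iff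

/-- The elements conjugate into the centraliser, bar the identity. -/
def clsE {M : Subgroup SL2} (z : M) : Set M := {x | ∃ h : M, ∃ w ∈ {w : M | w ∈ cenE z ∧ w ≠ 1}, h * w * h⁻¹ = x}

variable {M : Subgroup (Matrix.SpecialLinearGroup (Fin 2) F)}

theorem cenE_eq {z : M} (hz : z * z ≠ 1) {w : M} (hw : w ∈ cenE z) (hw1 : w ≠ 1) : w * w ≠ 1 ∧ cenE w = cenE z := by
  have hwz := congrArg Subtype.val (mem_cenE.1 hw)
  have hz' : (z : SL2) * z ≠ 1 := fun e => hz (Subtype.ext e)
  have hwn : ¬ IsScalar2 (w : SL2) := fun hs => by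
    rcases (isScalar2_iff _).1 hs with e | e
    · exact hw1 (Subtype.ext e)
    · refine hw1 (Subtype.ext (e.trans (Matrix.SpecialLinearGroup.ext _ _ fun i j => ?_)))
      fin_cases i <;> fin_cases j <;> simp [CharTwo.neg_eq]
  have hww : w * w ≠ 1 := fun e => by
    have e' : (w : SL2) * w = 1 := congrArg Subtype.val e
    obtain ⟨u, v, a1, a2, a3, a4⟩ := exists_linear_of_commute (not_scalar_of_sq hz') hwz
    have h2 : (2 : F) = 0 := CharP.cast_eq_zero F 2
    have hzd := det_eq (g := (z : SL2))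
    have ht : (z : SL2) 0 0 + (z : SL2) 1 1 ≠ 0 := fun et => hz' (by
      refine Matrix.SpecialLinearGroup.ext _ _ fun i j => ?_
      fin_cases i <;> fin_cases j <;> simp [mul_entry]
      · linear_combination ((z : SL2) 0 0) * et - hzd - h2
      · linear_combination ((z : SL2) 0 1) * et
      · linear_combination ((z : SL2) 1 0) * et
      · linear_combination ((z : SL2) 1 1) * et - hzd - h2)
    have hi : (w : SL2)⁻¹ = w := inv_eq_of_mul_eq_one_right e'
    have htw : (w : SL2) 0 0 + (w : SL2) 1 1 = 0 := by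
      have := congrArg (fun g : SL2 => g 0 0) hi
      simp only [(inv_entries (w : SL2)).1] at this
      rw [this]; exact CharTwo.add_self_eq_zero _
    rw [a1, a4] at htw
    have hu : u = 0 := (mul_eq_zero.1 (show u * ((z : SL2) 0 0 + (z : SL2) 1 1) = 0 by linear_combination htw - v * h2)).resolve_right ht
    subst hu
    simp only [zero_mul, zero_add] at a1 a2 a3 a4
    exact hwn ⟨a2, a3, a1.trans a4.symm⟩
  refine ⟨hww, ?_⟩
  ext x
  rw [mem_cenE, mem_cenE]
  exact ⟨fun hx => Subtype.ext (commute_trans hwn (congrArg Subtype.val hx) hwz.symm),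
    fun hx => Subtype.ext (commute_trans (not_scalar_of_sq hz') (congrArg Subtype.val hx) hwz)⟩

theorem self_mem_clsE {z : M} (hz : z * z ≠ 1) : z ∈ clsE z :=
  ⟨1, z, ⟨mem_cenE.2 rfl, fun e => hz (by rw [e, one_mul])⟩, by group⟩

theorem clsE_eq {z : M} (hz : z * z ≠ 1) {x : M} (hx : x ∈ clsE z) : x * x ≠ 1 ∧ clsE x = clsE z := by
  obtain ⟨h, w, ⟨hw, hw1⟩, rfl⟩ := hx
  obtain ⟨hww, hC⟩ := cenE_eq hz hw hw1
  refine ⟨fun e => hww ?_, ?_⟩
  · calc w * w = h⁻¹ * ((h * w * h⁻¹) * (h * w * h⁻¹)) * h := by group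
      _ = 1 := by rw [e]; group
  have hW : ∀ y : M, y ∈ cenE (h * w * h⁻¹) ↔ h⁻¹ * y * h ∈ cenE z := fun y => by
    rw [← hC, mem_cenE, mem_cenE]
    constructor
    · intro e
      calc h⁻¹ * y * h * w = h⁻¹ * (y * (h * w * h⁻¹)) * h := by group
        _ = h⁻¹ * ((h * w * h⁻¹) * y) * h := by rw [e]
        _ = w * (h⁻¹ * y * h) := by group
    · intro e
      calc y * (h * w * h⁻¹) = h * (h⁻¹ * y * h * w) * h⁻¹ := by group
        _ = h * (w * (h⁻¹ * y * h)) * h⁻¹ := by rw [e]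
        _ = h * w * h⁻¹ * y := by group
  ext y
  constructor
  · rintro ⟨g, u, ⟨hu, hu1⟩, rfl⟩
    refine ⟨g * h, h⁻¹ * u * h, ⟨(hW u).1 hu, fun e => hu1 ?_⟩, by group⟩
    calc u = h * (h⁻¹ * u * h) * h⁻¹ := by group
      _ = 1 := by rw [e]; group
  · rintro ⟨g, u, ⟨hu, hu1⟩, rfl⟩
    exact ⟨g * h⁻¹, h * u * h⁻¹, ⟨(hW _).2 (by simpa [mul_assoc] using hu), fun e => hu1 (conj_eq_one_iff.1 e)⟩, by group⟩

/-- The class of a semisimple element. -/
theorem card_clsE {z : M} (hz : z * z ≠ 1) : ∃ s : ℕ, (s = 1 ∨ s = 2) ∧ 3 ≤ Nat.card (cenE z) ∧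
    (clsE z).ncard * (s * Nat.card (cenE z)) = Nat.card M * (Nat.card (cenE z) - 1) ∧
    ((∃ h : M, h * z * h⁻¹ = z⁻¹) ↔ s = 2) := by
  classical
  set N := Subgroup.normalizer (cenE z : Set M)
  set W : Set M := {w : M | w ∈ cenE z ∧ w ≠ 1}
  have hzc : z ∈ cenE z := mem_cenE.2 rfl
  have hz1 : z ≠ 1 := fun e => hz (by rw [e, one_mul])
  have hinv : z⁻¹ ≠ z := fun e => hz (by nth_rewrite 2 [← e]; rw [mul_inv_cancel])
  have h3 : 3 ≤ Nat.card (cenE z) := by
    have h : ({1, z, z⁻¹} : Set M).ncard = 3 := Set.ncard_eq_three.2 ⟨1, z, z⁻¹, hz1.symm, fun e => hz1 (inv_eq_one.1 e.symm), hinv.symm, rfl⟩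
    rw [← h, show Nat.card (cenE z) = ((cenE z : Subgroup M) : Set M).ncard from Nat.card_coe_set_eq _]
    refine Set.ncard_le_ncard (fun x hx => ?_) (Set.toFinite _)
    rcases hx with rfl | rfl | rfl
    exacts [(cenE z).one_mem, hzc, (cenE z).inv_mem hzc]
  have hW : Nat.card W = Nat.card (cenE z) - 1 := by
    have : W = ((cenE z : Subgroup M) : Set M) \ {1} := by ext; simp [W]
    rw [this, Nat.card_coe_set_eq, Set.ncard_diff_singleton_of_mem (cenE z).one_mem, ← Nat.card_coe_set_eq]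
    rfl
  have hconjz : ∀ h ∈ N, h * z * h⁻¹ = z ∨ h * z * h⁻¹ = z⁻¹ := fun h hh => by
    have hm := mem_cenE.1 ((Subgroup.mem_normalizer_iff.1 hh z).1 hzc)
    rcases eq_or_eq_inv (fun e => hz (Subtype.ext e)) (congrArg Subtype.val hm) (trc_conj' z h) with e | e
    · exact Or.inl (Subtype.ext e)
    · exact Or.inr (Subtype.ext e)
  have hN : ∀ n' ∈ N, ∀ w ∈ W, n'⁻¹ * w * n' ∈ W := fun n' hn' w hw => by
    refine ⟨by simpa using (Subgroup.mem_normalizer_iff.1 (N.inv_mem hn') w).1 hw.1, fun e => hw.2 ?_⟩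
    calc w = n' * (n'⁻¹ * w * n') * n'⁻¹ := by group
      _ = 1 := by rw [e]; group
  have hWN : ∀ (h : M), ∀ w ∈ W, ∀ v ∈ W, h * w * h⁻¹ = v → h ∈ N := fun h w hw v hv e => by
    refine Subgroup.mem_normalizer_iff.2 fun x => ?_
    have key : x ∈ cenE w ↔ h * x * h⁻¹ ∈ cenE v := by
      rw [mem_cenE, mem_cenE, ← e]
      constructor
      · intro e'
        calc h * x * h⁻¹ * (h * w * h⁻¹) = h * (x * w) * h⁻¹ := by group
          _ = h * (w * x) * h⁻¹ := by rw [e']
          _ = h * w * h⁻¹ * (h * x * h⁻¹) := by group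
      · intro e'
        calc x * w = h⁻¹ * (h * x * h⁻¹ * (h * w * h⁻¹)) * h := by group
          _ = h⁻¹ * (h * w * h⁻¹ * (h * x * h⁻¹)) * h := by rw [e']
          _ = w * x := by group
    rwa [(cenE_eq hz hw.1 hw.2).2, (cenE_eq hz hv.1 hv.2).2] at key
  have hcount := card_conj_image N W hN hWN
  rw [hW, Nat.card_coe_set_eq, show {s : M | ∃ h : M, ∃ w ∈ W, h * w * h⁻¹ = s} = clsE z from rfl] at hcount
  have hCN : cenE z ≤ N := Subgroup.le_normalizer
  have hiff : ∀ x : M, x ∈ cenE z ↔ x * z * x⁻¹ = z := fun x => by rw [mem_cenE, mul_inv_eq_iff_eq_mul]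
  by_cases hex : ∃ h ∈ N, h * z * h⁻¹ = z⁻¹
  · obtain ⟨h1, h1N, hh1⟩ := hex
    refine ⟨2, Or.inr rfl, h3, ?_, ⟨fun _ => rfl, fun _ => ⟨h1, hh1⟩⟩⟩
    have hi : ((cenE z).subgroupOf N).index = 2 := by
      rw [Subgroup.index_eq_two_iff_exists_notMem_and]
      refine ⟨⟨h1, h1N⟩, fun h => hinv (hh1.symm.trans ((hiff h1).1 h)), fun b => ?_⟩
      simp only [Subgroup.mem_subgroupOf, Subgroup.coe_mul, hiff]
      rcases hconjz b b.2 with e | e
      · exact Or.inr e
      · left
        calc (b : M) * h1 * z * ((b : M) * h1)⁻¹ = (b : M) * (h1 * z * h1⁻¹) * (b : M)⁻¹ := by group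
          _ = ((b : M) * z * (b : M)⁻¹)⁻¹ := by rw [hh1]; group
          _ = z := by rw [e, inv_inv]
    rw [← hcount, ← Subgroup.card_mul_index ((cenE z).subgroupOf N), hi,
      Nat.card_congr (Subgroup.subgroupOfEquivOfLe hCN).toEquiv]
    ring
  · refine ⟨1, Or.inl rfl, h3, ?_, ⟨fun ⟨h, hh⟩ => absurd ⟨h, ?_, hh⟩ hex, fun e => absurd e (by norm_num)⟩⟩
    · have : N = cenE z := le_antisymm (fun h hh => (hiff h).2 ((hconjz h hh).resolve_right fun e => hex ⟨h, hh, e⟩)) hCN
      rw [← hcount, this, one_mul]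
    · exact hWN h z ⟨hzc, hz1⟩ z⁻¹ ⟨(cenE z).inv_mem hzc, fun e => hz1 (inv_eq_one.1 e)⟩ hh

theorem mem_cenE_upper {M : Subgroup SL2} {u x : M} {b : F} (hb : b ≠ 0) (hu : (u : SL2) = upperU b) (h : x * u = u * x) :
    ∃ a, (x : SL2) = upperU a := by
  have e : (x : SL2) * u = u * x := congrArg Subtype.val h
  rw [hu] at e
  have e00 := congrArg (fun g : SL2 => g 0 0) e
  have e01 := congrArg (fun g : SL2 => g 0 1) e
  simp [mul_entry, upperU_entries] at e00 e01
  have h10 : (x : SL2) 1 0 = 0 := e00.resolve_left hb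
  have he : (x : SL2) 0 0 = (x : SL2) 1 1 := mul_right_cancel₀ hb (by linear_combination e01)
  have hd := det_eq (g := (x : SL2))
  rw [h10, mul_zero, sub_zero, ← he] at hd
  refine ⟨_, eq_upperU h10 ?_⟩
  rcases mul_self_eq_one_iff.1 hd with h1 | h1
  · exact h1
  · rw [h1, CharTwo.neg_eq]

theorem arith_class {m E s k : ℕ} (hs : s = 1 ∨ s = 2) (hk : 3 ≤ k) (h : E * (s * k) = m * (k - 1)) : m ≤ 3 * E := by
  obtain ⟨f, rfl⟩ : ∃ f, k = f + 3 := ⟨_, (Nat.sub_add_cancel hk).symm⟩
  rw [show f + 3 - 1 = f + 2 from rfl] at h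
  rcases hs with rfl | rfl <;> nlinarith

theorem arith_final {a b d O c R s k : ℕ} (hc : 4 ≤ c) (hd : d + 1 = c) (hca : c ≤ a) (ha2 : c < a → 2 * c ≤ a)
    (hO : a + 1 ≤ O) (hb : a = b + 2) (h2R : 2 * R + b * O + 2 = a * d * O) (hs : s = 1 ∨ s = 2) (hk : 3 ≤ k)
    (hE : R * (s * k) = a * d * O * (k - 1)) : a * d * O ≤ c * (c - 1) * (c + 1) := by
  obtain ⟨f, rfl⟩ : ∃ f, k = f + 3 := ⟨_, (Nat.sub_add_cancel hk).symm⟩
  rw [show f + 3 - 1 = f + 2 from rfl] at hE
  rcases hs with rfl | rfl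
  · exfalso
    have : (2 * R + b * O + 2) * (f + 3) = a * d * O * (f + 3) := by rw [h2R]
    have := Nat.zero_le (a * d * O * f)
    have := Nat.zero_le (b * O * f)
    nlinarith
  have key : (f + 3) * (b * O + 2) = a * d * O := by
    have : (2 * R + b * O + 2) * (f + 3) = a * d * O * (f + 3) := by rw [h2R]
    linarith
  have hlt : (f + 3) * b < a * d := by
    refine Nat.lt_of_mul_lt_mul_right (a := O) ?_
    rw [Nat.mul_add] at key
    rw [Nat.mul_assoc]
    omega
  subst hb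
  rcases eq_or_lt_of_le hca with hac | hac
  · obtain ⟨g, rfl⟩ : ∃ g, b = g + 2 := ⟨b - 2, by omega⟩
    subst hac
    obtain rfl : d = g + 3 := by omega
    have hf' : f + 3 ≤ g + 5 := by
      by_contra h
      have := Nat.mul_le_mul_right (g + 2) (show g + 6 ≤ f + 3 by omega)
      nlinarith
    rcases eq_or_lt_of_le hf' with h | h
    · rw [h] at key
      have : O = g + 5 := by nlinarith
      subst this
      exact le_of_eq (by rw [show g + 2 + 2 - 1 = g + 3 by omega])
    · exfalso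
      have := Nat.mul_le_mul_right ((g + 2) * O + 2) (show f + 3 ≤ g + 4 by omega)
      have := Nat.mul_le_mul_left (g + 4) (show g + 5 ≤ O by omega)
      nlinarith
  · exfalso
    have h2c := ha2 hac
    have hf' : f + 3 ≤ d := by
      by_contra h
      have := Nat.mul_le_mul_right b (show d + 1 ≤ f + 3 by omega)
      nlinarith
    have := Nat.mul_le_mul_right (b * O + 2) hf'
    have := Nat.mul_le_mul_left d (show b + 3 ≤ O by omega)
    nlinarith

set_option maxHeartbeats 1000000 in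
theorem card_le_or_top (F₀ : Subfield F) (hc : 3 ≤ Nat.card F₀) (hbetween : ∀ S : Subfield F, F₀ ≤ S → S = F₀ ∨ S = ⊤)
    (M : Subgroup SL2) (hup : ∀ s ∈ F₀, upperU s ∈ M) (hlo : lo (1 : F) ∈ M)
    (hdg : ∀ u : Fˣ, (u : F) ∈ F₀ → dg u ∈ M) :
    M = ⊤ ∨ Nat.card M ≤ Nat.card F₀ * (Nat.card F₀ - 1) * (Nat.card F₀ + 1) := by
  classical
  have h10 : lo (1 : F) 1 0 ≠ 0 := by simp [lo_coe]
  by_cases hA : ∀ a : F, a ∈ aGrp M
  · exact Or.inl (upper_eq_top hA hlo h10)
  right
  set c := Nat.card F₀ with hcd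
  -- square roots inside the subfield
  have hroot : ∀ s ∈ F₀, ∃ t ∈ F₀, t * t = s := fun s hs => by
    have hinj : Function.Injective fun t : F₀ => t * t := fun a b e => by
      simp only [Subtype.ext_iff, MulMemClass.coe_mul] at e
      refine Subtype.ext (sub_eq_zero.1 (mul_self_eq_zero.1 ?_))
      have h2 : (2 : F) = 0 := CharP.cast_eq_zero F 2
      linear_combination e + ((b : F) * b - a * b) * h2
    obtain ⟨t, ht⟩ := (Finite.injective_iff_surjective.1 hinj) ⟨s, hs⟩
    exact ⟨t, t.2, congrArg Subtype.val ht⟩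
  have hroot' : ∀ t : F, t * t ∈ F₀ → t ∈ F₀ := fun t ht => by
    obtain ⟨y, hy, he⟩ := hroot _ ht
    have h2 : (2 : F) = 0 := CharP.cast_eq_zero F 2
    rwa [← sub_eq_zero.1 (mul_self_eq_zero.1 (show (y - t) * (y - t) = 0 by linear_combination he + (t * t - y * t) * h2))]
  have hdgm : ∀ t : F, t ∈ F₀ → t ≠ 0 → ∃ b : borel M, ent (b : M) 0 0 = t := fun t ht ht0 =>
    ⟨⟨⟨dg (Units.mk0 t ht0), hdg _ ht⟩, rfl⟩, rfl⟩
  have hsub : ∀ s ∈ F₀, ∀ a ∈ aGrp M, s * a ∈ aGrp M := fun s hs a ha => by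
    obtain ⟨t, ht, rfl⟩ := hroot s hs
    rcases eq_or_ne t 0 with rfl | ht0
    · simp
    obtain ⟨b, hb⟩ := hdgm t ht ht0
    have := sq_mul_mem_aGrp b.2 ha
    rwa [hb, pow_two] at this
  have h1A : (1 : F) ∈ aGrp M := hup 1 F₀.one_mem
  -- the stabiliser ring is the subfield
  let R : Subring F :=
    { carrier := {x | ∀ a ∈ aGrp M, x * a ∈ aGrp M}
      one_mem' := fun a ha => by simpa using ha
      mul_mem' := fun {x y} hx hy a ha => by rw [mul_assoc]; exact hx _ (hy a ha)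
      zero_mem' := fun a _ => by simpa using (aGrp M).zero_mem
      add_mem' := fun {x y} hx hy a ha => by rw [add_mul]; exact (aGrp M).add_mem (hx a ha) (hy a ha)
      neg_mem' := fun {x} hx a ha => by rw [neg_mul]; exact (aGrp M).neg_mem (hx a ha) }
  let S : Subfield F :=
    { R with
      inv_mem' := fun x hx => by
        by_cases hx0 : x = 0
        · simpa [hx0] using R.zero_mem
        have h1 : x * x ^ (Fintype.card F - 2) = 1 := by
          rw [← pow_succ', show Fintype.card F - 2 + 1 = Fintype.card F - 1 by have := Fintype.one_lt_card (α := F); omega]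
          exact FiniteField.pow_card_sub_one_eq_one x hx0
        rw [← eq_inv_of_mul_eq_one_right h1]
        exact R.pow_mem hx _ }
  have hS : S = F₀ := by
    refine (hbetween S fun s hs => hsub s hs).resolve_right fun h => hA fun a => ?_
    have : a ∈ S := h ▸ trivial
    simpa using this 1 h1A
  have hchi : ∀ b : borel M, ent (b : M) 0 0 ∈ F₀ := fun b => hroot' _ (hS ▸ show ent (b : M) 0 0 * ent (b : M) 0 0 ∈ S from
    fun a ha => by rw [← pow_two]; exact sq_mul_mem_aGrp b.2 ha)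
  have hd : Nat.card (chi M).range + 1 = c := by
    rw [← Finite.card_option]
    refine Nat.card_congr (Equiv.ofBijective (fun o => o.elim (0 : F₀) fun z => ⟨(z.1 : F), by
      obtain ⟨b, hb⟩ := z.2
      rw [← hb]; exact hchi b⟩) ⟨?_, fun s => ?_⟩)
    · rintro (_ | x) (_ | y) e
      · rfl
      · exact absurd (congrArg Subtype.val e).symm y.1.ne_zero
      · exact absurd (congrArg Subtype.val e) x.1.ne_zero
      · exact congrArg some (Subtype.ext (Units.ext (congrArg Subtype.val e)))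
    · rcases eq_or_ne s 0 with rfl | hs
      · exact ⟨none, rfl⟩
      obtain ⟨b, hb⟩ := hdgm s s.2 fun e => hs (Subtype.ext e)
      exact ⟨some ⟨chi M b, b, rfl⟩, Subtype.ext hb⟩
  set a := Nat.card (aGrp M) with had
  have hca : c ≤ a := Nat.card_le_card_of_injective (fun s : F₀ => (⟨s, hup s s.2⟩ : aGrp M)) fun x y e =>
    Subtype.ext (congrArg (fun v : aGrp M => (v : F)) e)
  have ha2 : c < a → 2 * c ≤ a := fun hlt => by
    obtain ⟨b, hb⟩ : ∃ b : aGrp M, (b : F) ∉ F₀ := by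
      by_contra h
      push Not at h
      exact absurd (Nat.card_le_card_of_injective (fun b : aGrp M => (⟨b, h b⟩ : F₀)) fun x y e =>
        Subtype.ext (congrArg (fun v : F₀ => (v : F)) e)) (not_le.2 hlt)
    have := Nat.card_le_card_of_injective (fun x : F₀ ⊕ F₀ => x.elim (fun s : F₀ => (⟨s, hup s s.2⟩ : aGrp M))
      fun s : F₀ => ⟨(s : F) + b, (aGrp M).add_mem (hup s s.2) b.2⟩) (by
      rintro (x | x) (y | y) e <;> simp only [Sum.elim_inl, Sum.elim_inr] at e <;>
        have e' := congrArg (fun v : aGrp M => (v : F)) e <;> simp only at e'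
      · exact congrArg Sum.inl (Subtype.ext e')
      · exact absurd (by rw [show (b : F) = x - y by linear_combination -e']; exact F₀.sub_mem x.2 y.2) hb
      · exact absurd (by rw [show (b : F) = y - x by linear_combination e']; exact F₀.sub_mem y.2 x.2) hb
      · exact congrArg Sum.inr (Subtype.ext (add_right_cancel e')))
    rw [Nat.card_sum] at this
    omega
  set d := Nat.card (chi M).range
  set O := (borel M).index
  have hm : Nat.card M = a * d * O := by rw [← card_borel_eq, Subgroup.card_mul_index]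
  have hO : a + 1 ≤ O := by
    obtain ⟨k, hk⟩ := index_mod_card (qGrp M) (borel M) qGrp_le qGrp_free
    rw [card_qGrp, ← had] at hk
    have h1 : (borel M).index ≠ 1 := fun h => h10 (show (⟨lo 1, hlo⟩ : M) ∈ borel M from (Subgroup.index_eq_one.1 h) ▸ trivial)
    rcases Nat.eq_zero_or_pos k with rfl | hk0
    · omega
    have := Nat.le_mul_of_pos_left a hk0
    show a + 1 ≤ (borel M).index
    rw [hk]; omega
  -- involutions
  let u₁ : M := ⟨upperU 1, h1A⟩
  have hu₁ : u₁ * u₁ = 1 := Subtype.ext (by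
    show upperU (1 : F) * upperU 1 = 1
    rw [← upperU_add, CharTwo.add_self_eq_zero, upperU_zero])
  have hu₁1 : u₁ ≠ 1 := fun e => by
    have := congrArg (fun v : M => (v : SL2) 0 1) e
    simp [u₁, upperU_entries] at this
  let W : Set M := {w | w ∈ qGrp M ∧ w ≠ 1}
  have hWu : ∀ w ∈ W, ∃ b, b ≠ 0 ∧ (w : SL2) = upperU b := fun w hw =>
    ⟨ent w 0 1, fun e => hw.2 (eq_one_of_entry hw.1 e), qGrp_eq hw.1⟩
  have huW : ∀ x : M, ∀ b : F, (x : SL2) = upperU b → x ∈ qGrp M := fun x b e =>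
    mem_qGrp.2 ⟨by simp [ent, e, upperU_entries], by simp [ent, e, upperU_entries]⟩
  have hinvset : {x : M | x * x = 1 ∧ x ≠ 1} = {s : M | ∃ h : M, ∃ w ∈ W, h * w * h⁻¹ = s} := by
    ext x
    constructor
    · rintro ⟨hx, hx1⟩
      obtain ⟨n, hn⟩ : ∃ n, orderOf (x * u₁) = n := ⟨_, rfl⟩
      have hxi : x⁻¹ = x := inv_eq_of_mul_eq_one_right hx
      have hui : u₁⁻¹ = u₁ := inv_eq_of_mul_eq_one_right hu₁
      rcases Nat.even_or_odd' n with ⟨k, rfl | rfl⟩
      · have hk : (x * u₁) ^ k * (x * u₁) ^ k = 1 := by rw [← pow_add, ← two_mul, ← hn, pow_orderOf_eq_one]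
        have hk1 : (x * u₁) ^ k ≠ 1 := by
          have hpos : 0 < k := by have := orderOf_pos (x * u₁); omega
          exact pow_ne_one_of_lt_orderOf hpos.ne' (by omega)
        set v := (x * u₁) ^ k
        have hflip : ∀ y : M, y = x ∨ y = u₁ → y * (x * u₁) * y⁻¹ = (x * u₁)⁻¹ := by
          rintro y (rfl | rfl) <;> rw [_root_.mul_inv_rev, hxi, hui]
          · rw [show y * (y * u₁) * y = y * y * (u₁ * y) by group, hx, one_mul]
          · rw [show u₁ * (x * u₁) * u₁ = u₁ * x * (u₁ * u₁) by group, hu₁, mul_one]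
        have hvc : ∀ y : M, y = x ∨ y = u₁ → v * y = y * v := fun y hy => by
          have e : y * v * y⁻¹ = v := by
            rw [← conj_pow, hflip y hy, inv_pow]
            exact inv_eq_of_mul_eq_one_right hk
          exact (mul_inv_eq_iff_eq_mul.1 e).symm
        obtain ⟨b, hb⟩ := mem_cenE_upper one_ne_zero rfl (hvc u₁ (Or.inr rfl))
        have hb0 : b ≠ 0 := fun e => hk1 (Subtype.ext (by rw [hb, e, upperU_zero]; rfl))
        obtain ⟨b', hb'⟩ := mem_cenE_upper hb0 hb (hvc x (Or.inl rfl)).symm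
        exact ⟨1, x, ⟨huW x b' hb', hx1⟩, by group⟩
      · refine ⟨(x * u₁) ^ (k + 1), u₁, ⟨huW u₁ 1 rfl, hu₁1⟩, ?_⟩
        have hflip : u₁ * (x * u₁) * u₁⁻¹ = (x * u₁)⁻¹ := by
          rw [_root_.mul_inv_rev, hxi, hui, show u₁ * (x * u₁) * u₁ = u₁ * x * (u₁ * u₁) by group, hu₁, mul_one]
        have e1 : u₁ * (x * u₁) ^ (k + 1) * u₁⁻¹ = ((x * u₁) ^ (k + 1))⁻¹ := by rw [← conj_pow, hflip, inv_pow]
        rw [← e1, hui, mul_assoc u₁, mul_assoc, ← mul_assoc u₁, hu₁, one_mul, ← mul_assoc, ← pow_add,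
          show k + 1 + (k + 1) = 2 * k + 1 + 1 by omega, pow_succ, ← hn, pow_orderOf_eq_one, one_mul, mul_assoc, hu₁, mul_one]
    · rintro ⟨h, w, hw, rfl⟩
      obtain ⟨b, hb0, hb⟩ := hWu w hw
      have hww : w * w = 1 := Subtype.ext (by
        show (w : SL2) * w = 1
        rw [hb, ← upperU_add, CharTwo.add_self_eq_zero, upperU_zero])
      exact ⟨by rw [show h * w * h⁻¹ * (h * w * h⁻¹) = h * (w * w) * h⁻¹ by group, hww]; group,
        fun e => hw.2 (conj_eq_one_iff.1 e)⟩
  have hI : {x : M | x * x = 1 ∧ x ≠ 1}.ncard = (a - 1) * O := by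
    have hcount := card_conj_image (borel M) W ?_ ?_
    · rw [← hinvset, Nat.card_coe_set_eq, show Nat.card W = a - 1 by
        have : W = ((qGrp M : Subgroup M) : Set M) \ {1} := by ext; simp [W]
        rw [this, Nat.card_coe_set_eq, Set.ncard_diff_singleton_of_mem (qGrp M).one_mem, ← Nat.card_coe_set_eq]
        exact congrArg (· - 1) card_qGrp] at hcount
      rw [← Subgroup.card_mul_index (borel M)] at hcount
      exact Nat.eq_of_mul_eq_mul_right (Nat.card_pos (α := borel M)) (by rw [hcount]; ring)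
    · intro n hn w hw
      obtain ⟨b, hb0, hb⟩ := hWu w hw
      refine ⟨mem_qGrp.2 ?_, fun e => hw.2 ?_⟩
      · have hn10 : (n : SL2) 1 0 = 0 := hn
        have hd := det_eq (g := (n : SL2))
        rw [hn10, mul_zero, sub_zero] at hd
        simp only [ent, Subgroup.coe_mul, Subgroup.coe_inv, mul_entry, (inv_entries (n : SL2)).1, (inv_entries (n : SL2)).2.1,
          (inv_entries (n : SL2)).2.2.1, (inv_entries (n : SL2)).2.2.2, hb, upperU_entries, hn10]
        constructor
        · ring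
        · linear_combination hd
      · calc w = n * (n⁻¹ * w * n) * n⁻¹ := by group
          _ = 1 := by rw [e]; group
    · intro h w hw v hv e
      by_contra hh
      exact hw.2 (qGrp_free h⁻¹ (fun hi => hh (by simpa using (borel M).inv_mem hi)) w hw.1 (by
        rw [inv_inv, e]; exact qGrp_le hv.1))
  -- the torus
  obtain ⟨t, ht, ht0, ht1⟩ : ∃ t : F, t ∈ F₀ ∧ t ≠ 0 ∧ t ≠ 1 := by
    by_contra h
    push Not at h
    have : Nat.card F₀ ≤ Nat.card Bool := Nat.card_le_card_of_injective (fun s : F₀ => decide ((s : F) = 0)) fun x y e => by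
      simp at e
      by_cases hx : x = 0
      · exact hx.trans (e.1 hx).symm
      · have hy : y ≠ 0 := fun hy => hx (e.2 hy)
        exact Subtype.ext ((h x x.2 fun e' => hx (Subtype.ext e')).trans (h y y.2 fun e' => hy (Subtype.ext e')).symm)
    rw [Nat.card_eq_fintype_card (α := Bool), Fintype.card_bool] at this
    omega
  let z₀ : M := ⟨dg (Units.mk0 t ht0), hdg _ ht⟩
  have hz00 : (z₀ : SL2) 0 0 = t ∧ (z₀ : SL2) 0 1 = 0 ∧ (z₀ : SL2) 1 0 = 0 ∧ (z₀ : SL2) 1 1 = t⁻¹ := by
    simp [z₀, dg_coe]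
  have hz₀ : z₀ * z₀ ≠ 1 := fun e => by
    have := congrArg (fun v : M => (v : SL2) 0 0) e
    simp [mul_entry, hz00] at this
    rcases mul_self_eq_one_iff.1 this with h | h
    · exact ht1 h
    · exact ht1 (h.trans (CharTwo.neg_eq 1))
  have htt : t ≠ t⁻¹ := fun e => hz₀ (Subtype.ext (by
    refine Matrix.SpecialLinearGroup.ext _ _ fun i j => ?_
    fin_cases i <;> fin_cases j <;> simp [mul_entry, hz00, ← e] <;> nth_rewrite 2 [e] <;> exact mul_inv_cancel₀ ht0))
  have hcen : Nat.card (cenE z₀) = d := by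
    have hdiag : ∀ x : M, x ∈ cenE z₀ ↔ (x : SL2) 0 1 = 0 ∧ (x : SL2) 1 0 = 0 := fun x => by
      rw [mem_cenE]
      constructor
      · intro e
        have e01 := congrArg (fun v : M => (v : SL2) 0 1) e
        have e10 := congrArg (fun v : M => (v : SL2) 1 0) e
        simp [mul_entry, hz00] at e01 e10
        exact ⟨(mul_eq_zero.1 (show (x : SL2) 0 1 * (t - t⁻¹) = 0 by linear_combination -e01)).resolve_right (sub_ne_zero.2 htt),
          (mul_eq_zero.1 (show (x : SL2) 1 0 * (t - t⁻¹) = 0 by linear_combination e10)).resolve_right (sub_ne_zero.2 htt)⟩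
      · rintro ⟨h1, h2⟩
        refine Subtype.ext (Matrix.SpecialLinearGroup.ext _ _ fun i j => ?_)
        fin_cases i <;> fin_cases j <;> simp [mul_entry, hz00, h1, h2, mul_comm]
    refine Nat.card_congr (Equiv.ofBijective (fun x => (⟨chi M ⟨x.1, ((hdiag x.1).1 x.2).2⟩, _, rfl⟩ : (chi M).range)) ⟨fun x y e => ?_, fun z => ?_⟩)
    · have e00 : (x.1 : SL2) 0 0 = (y.1 : SL2) 0 0 := congrArg (fun v : (chi M).range => (v.1 : F)) e
      obtain ⟨a1, a2⟩ := (hdiag x.1).1 x.2
      obtain ⟨b1, b2⟩ := (hdiag y.1).1 y.2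
      have hx := det_eq (g := (x.1 : SL2))
      have hy := det_eq (g := (y.1 : SL2))
      rw [a1, zero_mul, sub_zero] at hx
      rw [b1, zero_mul, sub_zero, ← e00] at hy
      have e11 := mul_left_cancel₀ (left_ne_zero_of_mul_eq_one hx) (hx.trans hy.symm)
      refine Subtype.ext (Subtype.ext (Matrix.SpecialLinearGroup.ext _ _ fun i j => ?_))
      fin_cases i <;> fin_cases j <;> simp [a1, a2, b1, b2, e00, e11]
    · obtain ⟨_, b, rfl⟩ := z
      have hb0 : ent (b : M) 0 0 ≠ 0 := left_ne_zero_of_mul_eq_one (borel_prod _ b.2)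
      exact ⟨⟨⟨dg (Units.mk0 _ hb0), hdg _ (hchi b)⟩, (hdiag _).2 ⟨rfl, rfl⟩⟩, Subtype.ext (Units.ext rfl)⟩
  obtain ⟨s₀, -, h3, hD, hs₀⟩ := card_clsE hz₀
  obtain rfl : s₀ = 2 := by
    refine hs₀.1 ⟨⟨upperU 1 * lo 1 * upperU 1, M.mul_mem (M.mul_mem h1A hlo) h1A⟩, ?_⟩
    rw [mul_inv_eq_iff_eq_mul]
    refine Subtype.ext (Matrix.SpecialLinearGroup.ext _ _ fun i j => ?_)
    have h2 : (1 : F) + 1 = 0 := CharTwo.add_self_eq_zero 1
    fin_cases i <;> fin_cases j <;>
      simp [mul_entry, upperU_entries, lo_coe, hz00, h2, (inv_entries (z₀ : SL2)).1, (inv_entries (z₀ : SL2)).2.1,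
        (inv_entries (z₀ : SL2)).2.2.1, (inv_entries (z₀ : SL2)).2.2.2]
  rw [hcen] at hD h3
  set D := (clsE z₀).ncard
  set X : Set M := {x | x * x ≠ 1}
  set R' := X \ clsE z₀
  have hDsub : clsE z₀ ⊆ X := fun x hx => (clsE_eq hz₀ hx).1
  have hX : X.ncard + (a - 1) * O + 1 = Nat.card M := by
    have h := Set.ncard_add_ncard_compl X
    have hXc : Xᶜ = insert 1 {x : M | x * x = 1 ∧ x ≠ 1} := by
      ext x
      simp only [X, Set.mem_compl_iff, Set.mem_setOf_eq, not_not, Set.mem_insert_iff]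
      constructor
      · exact fun e => (eq_or_ne x 1).imp id fun h => ⟨e, h⟩
      · rintro (rfl | ⟨e, -⟩)
        · exact one_mul 1
        · exact e
    rw [hXc, Set.ncard_insert_of_notMem (by simp), hI] at h
    omega
  have hR : R'.ncard + D = X.ncard := Set.ncard_diff_add_ncard_of_subset hDsub (Set.toFinite _)
  have hD2 : 2 * D = a * O * (d - 1) := by
    rw [hm] at hD
    have e1 : D * (2 * d) = 2 * D * d := by ring
    have e2 : a * d * O * (d - 1) = a * O * (d - 1) * d := by ring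
    exact Nat.eq_of_mul_eq_mul_right (show 0 < d by omega) (by omega)
  obtain ⟨e, he⟩ : ∃ e, d = e + 1 := ⟨d - 1, by omega⟩
  obtain ⟨b, hb⟩ : ∃ b, a = b + 2 := ⟨a - 2, by omega⟩
  -- the rest is one class
  have h2R : 2 * R'.ncard + b * O + 2 = Nat.card M := by
    have h1 : a - 1 = b + 1 := by omega
    have h2 : d - 1 = e := by omega
    rw [h1] at hX
    rw [h2] at hD2
    have h3 : Nat.card M = a * O * e + (b + 2) * O := by rw [hm, he, hb]; ring
    have h4 : (b + 1) * O = b * O + O := by ring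
    have h5 : (b + 2) * O = b * O + 2 * O := by ring
    omega
  obtain ⟨z, hzX, hzn⟩ : R'.Nonempty := by
    refine Set.nonempty_of_ncard_ne_zero fun h0 => ?_
    rw [h0, hm, he, hb] at h2R
    have h3 : (b + 2) * (e + 1) * O = b * O + 2 * O + (b + 2) * O * e := by ring
    omega
  have hclsR : ∀ {x : M}, x ∈ R' → clsE x ⊆ R' := fun {x} hx y hy =>
    ⟨(clsE_eq hx.1 hy).1, fun hy0 => hx.2 (by
      rw [← (clsE_eq hz₀ hy0).2, (clsE_eq hx.1 hy).2]
      exact self_mem_clsE hx.1)⟩
  have hbig : ∀ {x : M}, x ∈ R' → Nat.card M ≤ 3 * (clsE x).ncard := fun {x} hx => by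
    obtain ⟨s, hs, hc3, he', -⟩ := card_clsE hx.1
    exact arith_class hs hc3 he'
  have hclass : clsE z = R' := by
    refine (hclsR ⟨hzX, hzn⟩).antisymm fun y hy => ?_
    by_contra hyn
    have hdisj : Disjoint (clsE z) (clsE y) := Set.disjoint_left.2 fun w hw hw' => hyn (by
      rw [← (clsE_eq hzX hw).2, (clsE_eq hy.1 hw').2]
      exact self_mem_clsE hy.1)
    have hle := Set.ncard_le_ncard (Set.union_subset (hclsR ⟨hzX, hzn⟩) (hclsR hy)) (Set.toFinite _)
    rw [Set.ncard_union_eq hdisj] at hle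
    have := hbig (x := z) ⟨hzX, hzn⟩
    have := hbig hy
    have := Nat.card_pos (α := M)
    omega
  obtain ⟨s, hs, hc3, hE, -⟩ := card_clsE hzX
  rw [hclass] at hE
  rw [hm] at h2R hE ⊢
  have heven : c ≠ 3 := fun h => by
    have : Even (Nat.card F₀) := by
      obtain ⟨k, -, hk⟩ := FiniteField.card F₀ 2
      rw [Nat.card_eq_fintype_card, hk]
      exact Nat.even_pow.2 ⟨even_two, k.pos.ne'⟩
    rw [← hcd, h] at this
    exact absurd this (by decide)
  exact arith_final (c := c) (by omega) hd hca ha2 hO hb h2R hs hc3 hE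

end Cfsg.Lib.Classical.SubfieldEven
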