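import Mathlib
import Cfsg.Agent.Lib.Classical.SubfieldEvenTwo
import Cfsg.Agent.Lib.Classical.TwoDimTorusSylow

/-! Subgroups of `SL(2, 2^f)` with an involution, not fixing its axis. -/

set_option autoImplicit false
set_option linter.unusedSectionVars false
set_option linter.unusedSimpArgs false

namespace Cfsg.Lib.Classical.SubfieldEven

open Matrix Cfsg.Lib.PStable Cfsg.Lib.Classical.MinIndex Cfsg.Agent.SL2RankOne

variable {F : Type*} [Field F] [Fintype F] [CharP F 2] {M : Subgroup (Matrix.SpecialLinearGroup (Fin 2) F)}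

local notation "SL2" => Matrix.SpecialLinearGroup (Fin 2) F

theorem arith_torus {a b d O R s k : ℕ} (hd2 : 2 ≤ d) (hb : a = b + 2) (hO : a + 1 ≤ O) (hdvd : d ∣ b + 1) (hev : Even a)
    (h2R : 2 * R + b * O + 2 = a * d * O) (hs : s = 1 ∨ s = 2) (hk : 3 ≤ k)
    (hE : R * (s * k) = a * d * O * (k - 1)) : d + 1 = a ∧ O = a + 1 := by
  obtain ⟨f, rfl⟩ : ∃ f, k = f + 3 := ⟨_, (Nat.sub_add_cancel hk).symm⟩
  rw [show f + 3 - 1 = f + 2 from rfl] at hE
  rcases hs with rfl | rfl
  · exfalso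
    have : (2 * R + b * O + 2) * (f + 3) = a * d * O * (f + 3) := by rw [h2R]
    have := Nat.zero_le (a * d * O * f)
    have := Nat.zero_le (b * O * f)
    nlinarith
  have key : (f + 3) * (b * O + 2) = a * d * O := by
    have : (2 * R + b * O + 2) * (f + 3) = a * d * O * (f + 3) := by rw [h2R]
    linarith
  subst hb
  have hlt : (f + 3) * b < (b + 2) * d := by
    refine Nat.lt_of_mul_lt_mul_right (a := O) ?_
    rw [Nat.mul_add] at key
    rw [Nat.mul_assoc]
    omega
  have hf : d + 1 ≤ f + 3 := by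
    by_contra h
    have := Nat.mul_le_mul_right (b * O + 2) (show f + 3 ≤ d by omega)
    have := Nat.mul_le_mul_left d (show b + 3 ≤ O by omega)
    nlinarith
  have hb2d : b < 2 * d := by
    have := Nat.mul_le_mul_right b hf
    nlinarith
  have hd : d = b + 1 := by
    obtain ⟨e, he⟩ := hdvd
    obtain ⟨u, hu⟩ := hev
    rcases e with _ | _ | _ | e
    · omega
    · omega
    · omega
    · have := Nat.mul_le_mul_left d (show 3 ≤ e + 1 + 1 + 1 by omega)
      omega
  subst hd
  refine ⟨rfl, ?_⟩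
  have hb2 : 2 ≤ b := by obtain ⟨u, hu⟩ := hev; omega
  have hf' : f + 3 ≤ b + 3 := by
    by_contra h
    have := Nat.mul_le_mul_right b (show b + 4 ≤ f + 3 by omega)
    nlinarith
  rcases eq_or_lt_of_le hf' with h | h
  · rw [h] at key
    nlinarith
  · exfalso
    have h' : f + 3 = b + 2 := by omega
    rw [h'] at key
    have h2 := Nat.eq_of_mul_eq_mul_left (show 0 < b + 2 by omega) (key.trans (mul_assoc _ _ _))
    rw [Nat.add_mul, one_mul] at h2
    omega

set_option maxHeartbeats 1000000 in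
theorem dickson_even {a0 : F} (ha0 : a0 ≠ 0) (hU : a0 ∈ aGrp M) {g0 : M} (hg0 : g0 ∉ borel M) :
    (Nat.card (aGrp M) = 2 ∧ ∃ z : M, z * z ≠ 1 ∧ Nat.card M = 2 * Nat.card (cenE z) ∧ ∃ h : M, h * z * h⁻¹ = z⁻¹) ∨
    (4 ≤ Nat.card (aGrp M) ∧ Nat.card (chi M).range + 1 = Nat.card (aGrp M) ∧ (borel M).index = Nat.card (aGrp M) + 1 ∧
      ∃ z : M, z ∈ borel M ∧ z * z ≠ 1 ∧ ∃ h : M, h * z * h⁻¹ = z⁻¹) := by
  classical
  set a := Nat.card (aGrp M) with had
  set d := Nat.card (chi M).range with hdd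
  set O := (borel M).index with hOd
  have hd0 : 0 < d := Nat.card_pos
  have hm : Nat.card M = a * d * O := by rw [← card_borel_eq, Subgroup.card_mul_index]
  have ha : 2 ≤ a := Finite.one_lt_card_iff_nontrivial.2 ⟨⟨a0, hU⟩, 0, fun e => ha0 (congrArg Subtype.val e)⟩
  have hev : Even a := by
    obtain ⟨k, -, hk⟩ := FiniteField.card F 2
    have h1 : a ∣ 2 ^ (k : ℕ) := by rw [← hk, ← Nat.card_eq_fintype_card]; exact (aGrp M).card_addSubgroup_dvd_card
    obtain ⟨i, -, hi⟩ := (Nat.dvd_prime_pow Nat.prime_two).1 h1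
    rw [hi]
    refine Nat.even_pow.2 ⟨even_two, fun h => ?_⟩
    rw [h, pow_zero] at hi
    omega
  have hO : a + 1 ≤ O := by
    obtain ⟨k, hk⟩ := index_mod_card (qGrp M) (borel M) qGrp_le qGrp_free
    rw [card_qGrp, ← had, ← hOd] at hk
    have h1 : O ≠ 1 := fun h => hg0 ((Subgroup.index_eq_one.1 h) ▸ trivial)
    rcases Nat.eq_zero_or_pos k with rfl | hk0
    · omega
    have := Nat.le_mul_of_pos_left a hk0
    omega
  -- involutions
  let u₁ : M := ⟨upperU a0, hU⟩
  have hu₁ : u₁ * u₁ = 1 := Subtype.ext (by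
    show upperU a0 * upperU a0 = 1
    rw [← upperU_add, CharTwo.add_self_eq_zero, upperU_zero])
  have hu₁1 : u₁ ≠ 1 := fun e => by
    have := congrArg (fun v : M => (v : SL2) 0 1) e
    simp [u₁, upperU_entries] at this
    exact ha0 this
  let W : Set M := {w | w ∈ qGrp M ∧ w ≠ 1}
  have hWu : ∀ w ∈ W, ∃ b, b ≠ 0 ∧ (w : SL2) = upperU b := fun w hw =>
    ⟨ent w 0 1, fun e => hw.2 (eq_one_of_entry hw.1 e), qGrp_eq hw.1⟩
  have huW : ∀ x : M, ∀ b : F, (x : SL2) = upperU b → x ∈ qGrp M := fun x b e =>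
    mem_qGrp.2 ⟨by simp [ent, e, upperU_entries], by simp [ent, e, upperU_entries]⟩
  have hinvset : {x : M | x * x = 1 ∧ x ≠ 1} = {s : M | ∃ h : M, ∃ w ∈ W, h * w * h⁻¹ = s} := by
    ext x
    constructor
    · rintro ⟨hx, hx1⟩
      obtain ⟨n, hn⟩ : ∃ n, orderOf (x * u₁) = n := ⟨_, rfl⟩
      have hxi : x⁻¹ = x := inv_eq_of_mul_eq_one_right hx
      have hui : u₁⁻¹ = u₁ := inv_eq_of_mul_eq_one_right hu₁
      rcases Nat.even_or_odd' n with ⟨k, rfl | rfl⟩
      · have hk : (x * u₁) ^ k * (x * u₁) ^ k = 1 := by rw [← pow_add, ← two_mul, ← hn, pow_orderOf_eq_one]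
        have hk1 : (x * u₁) ^ k ≠ 1 := by
          have hpos : 0 < k := by have := orderOf_pos (x * u₁); omega
          exact pow_ne_one_of_lt_orderOf hpos.ne' (by omega)
        set v := (x * u₁) ^ k
        have hflip : ∀ y : M, y = x ∨ y = u₁ → y * (x * u₁) * y⁻¹ = (x * u₁)⁻¹ := by
          rintro y (rfl | rfl) <;> rw [_root_.mul_inv_rev, hxi, hui]
          · rw [show y * (y * u₁) * y = y * y * (u₁ * y) by group, hx, one_mul]
          · rw [show u₁ * (x * u₁) * u₁ = u₁ * x * (u₁ * u₁) by group, hu₁, mul_one]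
        have hvc : ∀ y : M, y = x ∨ y = u₁ → v * y = y * v := fun y hy => by
          have e : y * v * y⁻¹ = v := by
            rw [← conj_pow, hflip y hy, inv_pow]
            exact inv_eq_of_mul_eq_one_right hk
          exact (mul_inv_eq_iff_eq_mul.1 e).symm
        obtain ⟨b, hb⟩ := mem_cenE_upper ha0 rfl (hvc u₁ (Or.inr rfl))
        have hb0 : b ≠ 0 := fun e => hk1 (Subtype.ext (by rw [hb, e, upperU_zero]; rfl))
        obtain ⟨b', hb'⟩ := mem_cenE_upper hb0 hb (hvc x (Or.inl rfl)).symm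
        exact ⟨1, x, ⟨huW x b' hb', hx1⟩, by group⟩
      · refine ⟨(x * u₁) ^ (k + 1), u₁, ⟨huW u₁ a0 rfl, hu₁1⟩, ?_⟩
        have hflip : u₁ * (x * u₁) * u₁⁻¹ = (x * u₁)⁻¹ := by
          rw [_root_.mul_inv_rev, hxi, hui, show u₁ * (x * u₁) * u₁ = u₁ * x * (u₁ * u₁) by group, hu₁, mul_one]
        have e1 : u₁ * (x * u₁) ^ (k + 1) * u₁⁻¹ = ((x * u₁) ^ (k + 1))⁻¹ := by rw [← conj_pow, hflip, inv_pow]
        rw [← e1, hui, mul_assoc u₁, mul_assoc, ← mul_assoc u₁, hu₁, one_mul, ← mul_assoc, ← pow_add,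
          show k + 1 + (k + 1) = 2 * k + 1 + 1 by omega, pow_succ, ← hn, pow_orderOf_eq_one, one_mul, mul_assoc, hu₁, mul_one]
    · rintro ⟨h, w, hw, rfl⟩
      obtain ⟨b, hb0, hb⟩ := hWu w hw
      have hww : w * w = 1 := Subtype.ext (by
        show (w : SL2) * w = 1
        rw [hb, ← upperU_add, CharTwo.add_self_eq_zero, upperU_zero])
      exact ⟨by rw [show h * w * h⁻¹ * (h * w * h⁻¹) = h * (w * w) * h⁻¹ by group, hww]; group,
        fun e => hw.2 (conj_eq_one_iff.1 e)⟩
  have hI : {x : M | x * x = 1 ∧ x ≠ 1}.ncard = (a - 1) * O := by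
    have hcount := card_conj_image (borel M) W ?_ ?_
    · rw [← hinvset, Nat.card_coe_set_eq, show Nat.card W = a - 1 by
        have : W = ((qGrp M : Subgroup M) : Set M) \ {1} := by ext; simp [W]
        rw [this, Nat.card_coe_set_eq, Set.ncard_diff_singleton_of_mem (qGrp M).one_mem, ← Nat.card_coe_set_eq]
        exact congrArg (· - 1) card_qGrp] at hcount
      rw [← Subgroup.card_mul_index (borel M)] at hcount
      exact Nat.eq_of_mul_eq_mul_right (Nat.card_pos (α := borel M)) (by rw [hcount]; ring)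
    · intro n hn w hw
      obtain ⟨b, hb0, hb⟩ := hWu w hw
      refine ⟨mem_qGrp.2 ?_, fun e => hw.2 ?_⟩
      · have hn10 : (n : SL2) 1 0 = 0 := hn
        have hd := det_eq (g := (n : SL2))
        rw [hn10, mul_zero, sub_zero] at hd
        simp only [ent, Subgroup.coe_mul, Subgroup.coe_inv, mul_entry, (inv_entries (n : SL2)).1, (inv_entries (n : SL2)).2.1,
          (inv_entries (n : SL2)).2.2.1, (inv_entries (n : SL2)).2.2.2, hb, upperU_entries, hn10]
        constructor
        · ring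
        · linear_combination hd
      · calc w = n * (n⁻¹ * w * n) * n⁻¹ := by group
          _ = 1 := by rw [e]; group
    · intro h w hw v hv e
      by_contra hh
      exact hw.2 (qGrp_free h⁻¹ (fun hi => hh (by simpa using (borel M).inv_mem hi)) w hw.1 (by
        rw [inv_inv, e]; exact qGrp_le hv.1))
  obtain ⟨b, hb⟩ : ∃ b, a = b + 2 := ⟨a - 2, by omega⟩
  set X : Set M := {x | x * x ≠ 1}
  have hX : X.ncard + (a - 1) * O + 1 = Nat.card M := by
    have h := Set.ncard_add_ncard_compl X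
    have hXc : Xᶜ = insert 1 {x : M | x * x = 1 ∧ x ≠ 1} := by
      ext x
      simp only [X, Set.mem_compl_iff, Set.mem_setOf_eq, not_not, Set.mem_insert_iff]
      constructor
      · exact fun e => (eq_or_ne x 1).imp id fun h => ⟨e, h⟩
      · rintro (rfl | ⟨e, -⟩)
        · exact one_mul 1
        · exact e
    rw [hXc, Set.ncard_insert_of_notMem (by simp), hI] at h
    omega
  have h1 : a - 1 = b + 1 := by omega
  rw [h1] at hX
  have hbO : (b + 1) * O = b * O + O := by ring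
  have haO : a * O = b * O + 2 * O := by rw [hb]; ring
  have hbig : ∀ {x : M}, x * x ≠ 1 → Nat.card M ≤ 3 * (clsE x).ncard := fun {x} hx => by
    obtain ⟨s, hs, hc3, he', -⟩ := card_clsE hx
    exact arith_class hs hc3 he'
  have hone : ∀ Y : Set M, Y ⊆ X → (∀ {x : M}, x ∈ Y → clsE x ⊆ Y) → 2 * Y.ncard < Nat.card M → ∀ x ∈ Y, clsE x = Y := by
    intro Y hYX hcl hsmall z hz
    refine (hcl hz).antisymm fun y hy => ?_
    by_contra hyn
    have hdisj : Disjoint (clsE z) (clsE y) := Set.disjoint_left.2 fun w hw hw' => hyn (by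
      rw [← (clsE_eq (hYX hz) hw).2, (clsE_eq (hYX hy) hw').2]
      exact self_mem_clsE (hYX hy))
    have hle := Set.ncard_le_ncard (Set.union_subset (hcl hz) (hcl hy)) (Set.toFinite _)
    rw [Set.ncard_union_eq hdisj] at hle
    have := hbig (hYX hz)
    have := hbig (hYX hy)
    omega
  rcases Nat.lt_or_ge d 2 with hd1 | hd2
  · left
    have hd : d = 1 := by omega
    rw [hd, mul_one] at hm
    have hXv : X.ncard + 1 = O := by omega
    obtain ⟨z, hz⟩ : X.Nonempty := Set.nonempty_of_ncard_ne_zero (by omega)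
    have hcl := hone X subset_rfl (fun {x} hx y hy => (clsE_eq hx hy).1) (by omega) z hz
    obtain ⟨s, hs, hc3, hE, hinv⟩ := card_clsE (z := z) hz
    rw [hcl] at hE
    obtain ⟨f, hf⟩ : ∃ f, Nat.card (cenE z) = f + 3 := ⟨_, (Nat.sub_add_cancel hc3).symm⟩
    rw [hf, show f + 3 - 1 = f + 2 from rfl, hm, hb] at hE
    obtain ⟨x, hx⟩ : ∃ x, X.ncard = x := ⟨_, rfl⟩
    rw [hx] at hE hXv
    rw [← hXv] at hE
    rcases hs with rfl | rfl
    · exfalso
      have := Nat.zero_le (b * ((x + 1) * (f + 2)))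
      nlinarith
    have hb0 : b = 0 := by
      obtain ⟨u, hu⟩ := hev
      by_contra hne
      have := Nat.mul_le_mul_right ((x + 1) * (f + 2)) (show 4 ≤ b + 2 by omega)
      nlinarith
    subst hb0
    have hxv : x = f + 2 := by nlinarith
    have hcard : Nat.card M = 2 * Nat.card (cenE z) := by rw [hm, hb, hf, ← hXv, hxv]
    exact ⟨hb, z, hz, hcard, hinv.2 rfl⟩
  right
  have hdvd : d ∣ b + 1 := by
    let act : MulAction (chi M).range {v : aGrp M // v ≠ 0} :=
      { smul := fun t v => ⟨⟨((t : Fˣ) : F) * ((t : Fˣ) : F) * (v.1 : F), by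
          obtain ⟨c, hc⟩ := t.2
          rw [← hc, ← pow_two]
          exact sq_mul_mem_aGrp c.2 v.1.2⟩, fun e => v.2 (Subtype.ext
            ((mul_eq_zero.1 (congrArg Subtype.val e)).resolve_left (mul_ne_zero (Units.ne_zero _) (Units.ne_zero _))))⟩
        one_smul := fun v => Subtype.ext (Subtype.ext (by
          show ((1 : Fˣ) : F) * ((1 : Fˣ) : F) * (v.1 : F) = v.1; simp))
        mul_smul := fun s t v => Subtype.ext (Subtype.ext (by
          show (((s : Fˣ) * t : Fˣ) : F) * (((s : Fˣ) * t : Fˣ) : F) * (v.1 : F) = ((s : Fˣ) : F) * ((s : Fˣ) : F) * (((t : Fˣ) : F) * ((t : Fˣ) : F) * (v.1 : F))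
          rw [Units.val_mul]; ring)) }
    have h := @Cfsg.Lib.Classical.NsDih.card_dvd _ _ _ _ act _ 1 fun v => by
      rw [Nat.dvd_one, Subgroup.card_eq_one, Subgroup.eq_bot_iff_forall]
      intro t ht
      have e : ((t : Fˣ) : F) * ((t : Fˣ) : F) * (v.1 : F) = v.1 := congrArg (fun w : {v : aGrp M // v ≠ 0} => (w.1 : F)) ht
      have e1 : ((t : Fˣ) : F) * ((t : Fˣ) : F) = 1 := mul_right_cancel₀ (fun h => v.2 (Subtype.ext h)) (e.trans (one_mul _).symm)
      refine Subtype.ext (Units.ext ?_)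
      rcases mul_self_eq_one_iff.1 e1 with h | h
      · exact h
      · rw [h, CharTwo.neg_eq]; rfl
    haveI := Fintype.ofFinite (aGrp M)
    rw [one_mul, Nat.card_eq_fintype_card (α := {v : aGrp M // v ≠ 0}), Fintype.card_subtype_compl, Fintype.card_subtype_eq,
      ← Nat.card_eq_fintype_card, ← had, ← hdd, h1] at h
    exact h
  obtain ⟨⟨_, b0, rfl⟩, hb0⟩ := (haveI := Finite.one_lt_card_iff_nontrivial.1 (show 1 < Nat.card (chi M).range by omega); exists_ne (1 : (chi M).range))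
  set z₀ : M := (b0 : M) with hz₀d
  have hzB : z₀ ∈ borel M := b0.2
  have ht1 : ent z₀ 0 0 ≠ 1 := fun e => hb0 (Subtype.ext (Units.ext e))
  have hz00 : ent z₀ 0 0 ≠ ent z₀ 1 1 := fun e => ht1 (by
    have h := borel_prod z₀ hzB
    rw [← e] at h
    rcases mul_self_eq_one_iff.1 h with h | h
    · exact h
    · rw [h, CharTwo.neg_eq])
  have hz₀ : z₀ * z₀ ≠ 1 := fun e => ht1 (by
    have := congrArg (fun v : M => (v : Matrix.SpecialLinearGroup (Fin 2) F) 0 0) e
    simp [mul_entry, show (z₀ : Matrix.SpecialLinearGroup (Fin 2) F) 1 0 = 0 from hzB] at this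
    rcases mul_self_eq_one_iff.1 this with h | h
    · exact h
    · exact h.trans (CharTwo.neg_eq 1))
  have hcenB : ∀ x : M, x ∈ cenE z₀ → x ∈ borel M := fun x hx => by
    have e := congrArg (fun v : M => (v : Matrix.SpecialLinearGroup (Fin 2) F) 1 0) (mem_cenE.1 hx)
    simp only [Subgroup.coe_mul, mul_entry, show (z₀ : Matrix.SpecialLinearGroup (Fin 2) F) 1 0 = 0 from hzB] at e
    refine (mul_eq_zero.1 (show ent x 1 0 * (ent z₀ 0 0 - ent z₀ 1 1) = 0 by linear_combination e)).resolve_right (sub_ne_zero.2 hz00)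
  have hcen : Nat.card (cenE z₀) = d := by
    refine le_antisymm (Nat.card_le_card_of_injective (fun x : cenE z₀ => (⟨chi M ⟨x.1, hcenB _ x.2⟩, _, rfl⟩ : (chi M).range))
      fun x y e => ?_) ?_
    · have e00 : ent x.1 0 0 = ent y.1 0 0 := congrArg (fun v : (chi M).range => (v.1 : F)) e
      have hq : x.1⁻¹ * y.1 ∈ qGrp M := mem_qGrp.2 ⟨(borel M).mul_mem ((borel M).inv_mem (hcenB _ x.2)) (hcenB _ y.2), by
        have hp := borel_prod _ (hcenB _ x.2)
        simp only [ent, Subgroup.coe_mul, Subgroup.coe_inv, mul_entry, (inv_entries (x.1 : Matrix.SpecialLinearGroup (Fin 2) F)).1,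
          (inv_entries (x.1 : Matrix.SpecialLinearGroup (Fin 2) F)).2.1,
          show (y.1 : Matrix.SpecialLinearGroup (Fin 2) F) 1 0 = 0 from hcenB _ y.2] at hp e00 ⊢
        rw [← e00]; linear_combination hp⟩
      obtain ⟨c, hc⟩ : ∃ c, ((x.1⁻¹ * y.1 : M) : Matrix.SpecialLinearGroup (Fin 2) F) = upperU c := ⟨_, qGrp_eq hq⟩
      have hcm' : upperU c * (z₀ : SL2) = (z₀ : SL2) * upperU c := by
        rw [← hc, ← Subgroup.coe_mul, ← Subgroup.coe_mul]
        exact congrArg Subtype.val (mem_cenE.1 ((cenE z₀).mul_mem ((cenE z₀).inv_mem x.2) y.2))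
      have hcm := congrArg (fun v : SL2 => v 0 1) hcm'
      simp only [mul_entry, upperU_entries] at hcm
      have hc0 : c = 0 := (mul_eq_zero.1 (show c * (ent z₀ 0 0 - ent z₀ 1 1) = 0 by linear_combination -hcm)).resolve_right (sub_ne_zero.2 hz00)
      rw [hc0, upperU_zero] at hc
      exact Subtype.ext (inv_mul_eq_one.1 (Subtype.ext hc))
    · obtain ⟨φ, hφd⟩ : ∃ φ : borel M → M, ∀ c, φ c = (c : M) * z₀ * (c : M)⁻¹ * z₀⁻¹ := ⟨_, fun _ => rfl⟩
      have hφ : ∀ c, φ c ∈ qGrp M := fun c =>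
        ⟨c * b0 * c⁻¹ * b0⁻¹, MonoidHom.mem_ker.2 (by simp only [map_mul, map_inv]; rw [mul_comm (chi M c), mul_inv_cancel_right, mul_inv_cancel]), by
          rw [hφd, hz₀d]; rfl⟩
      have hcc : ∀ c c', φ c = φ c' → (c' : M)⁻¹ * (c : M) ∈ cenE z₀ := fun c c' e => mem_cenE.2 (by
        rw [hφd, hφd] at e
        have e' : (c : M) * z₀ * (c : M)⁻¹ = (c' : M) * z₀ * (c' : M)⁻¹ := mul_right_cancel e
        calc (c' : M)⁻¹ * (c : M) * z₀ = (c' : M)⁻¹ * ((c : M) * z₀ * (c : M)⁻¹) * (c : M) := by group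
          _ = z₀ * ((c' : M)⁻¹ * (c : M)) := by rw [e']; group)
      obtain ⟨r, hr⟩ : ∃ r : M → borel M, ∀ c, φ (r (φ c)) = φ c := ⟨Function.invFun φ, fun c => Function.invFun_eq ⟨c, rfl⟩⟩
      let g : borel M → qGrp M × cenE z₀ := fun c =>
        (⟨φ c, hφ c⟩, ⟨((r (φ c) : borel M) : M)⁻¹ * (c : M), hcc c (r (φ c)) (hr c).symm⟩)
      have hg : Function.Injective g := by
        intro c c' e
        have e1 : φ c = φ c' := congrArg (fun v : qGrp M × cenE z₀ => (v.1 : M)) e
        have e2 : ((r (φ c) : borel M) : M)⁻¹ * (c : M) = ((r (φ c') : borel M) : M)⁻¹ * (c' : M) := congrArg (fun v : qGrp M × cenE z₀ => (v.2 : M)) e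
        rw [e1] at e2
        exact Subtype.ext (mul_left_cancel e2)
      have h := Nat.card_le_card_of_injective g hg
      rw [card_borel_eq, Nat.card_prod, card_qGrp] at h
      exact Nat.le_of_mul_le_mul_left h (by omega)
  obtain ⟨s₀, hs₀, h3, hD, hinv⟩ := card_clsE hz₀
  rw [hcen] at hD h3
  set D := (clsE z₀).ncard
  set R' := X \ clsE z₀
  have hDsub : clsE z₀ ⊆ X := fun x hx => (clsE_eq hz₀ hx).1
  have hR : R'.ncard + D = X.ncard := Set.ncard_diff_add_ncard_of_subset hDsub (Set.toFinite _)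
  have hclsR : ∀ {x : M}, x ∈ R' → clsE x ⊆ R' := fun {x} hx y hy =>
    ⟨(clsE_eq hx.1 hy).1, fun hy0 => hx.2 (by
      rw [← (clsE_eq hz₀ hy0).2, (clsE_eq hx.1 hy).2]
      exact self_mem_clsE hx.1)⟩
  obtain ⟨e, he⟩ : ∃ e, d = e + 1 := ⟨d - 1, by omega⟩
  have hde : d - 1 = e := by omega
  have hme : Nat.card M = a * O * e + a * O := by rw [hm, he]; ring
  rw [hm, hde] at hD
  have hsD : s₀ * D = a * O * e := Nat.eq_of_mul_eq_mul_right hd0 (by
    rw [show s₀ * D * d = D * (s₀ * d) by ring, hD]; ring)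
  have hobig : 4 * O ≤ Nat.card M := by
    rw [hme]
    have := Nat.mul_le_mul_right O ha
    have := Nat.mul_le_mul_left (a * O) (show 1 ≤ e by omega)
    omega
  rcases hs₀ with rfl | rfl
  · exfalso
    rw [one_mul] at hsD
    have hRv : R'.ncard + 1 = O := by omega
    obtain ⟨z, hz⟩ : R'.Nonempty := Set.nonempty_of_ncard_ne_zero (by omega)
    have := hbig hz.1
    have := Set.ncard_le_ncard (hclsR hz) (Set.toFinite _)
    omega
  have h2R : 2 * R'.ncard + b * O + 2 = Nat.card M := by omega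
  obtain ⟨z, hz⟩ : R'.Nonempty := Set.nonempty_of_ncard_ne_zero (by
    intro h0
    have := Nat.mul_le_mul_left (a * O) (show 1 ≤ e by omega)
    omega)
  have hcl := hone R' (fun x hx => hx.1) hclsR (by omega) z hz
  obtain ⟨s, hs, hc3, hE, -⟩ := card_clsE hz.1
  rw [hcl] at hE
  rw [hm] at h2R hE
  obtain ⟨e1, e2⟩ := arith_torus hd2 hb hO hdvd hev h2R hs hc3 hE
  exact ⟨by omega, e1, e2, z₀, hzB, hz₀, hinv.2 rfl⟩

/-- The standard form. -/
theorem eq_subfield_group (h1 : (1 : F) ∈ aGrp M) {z h : M} (hz10 : ent z 1 0 = 0) (hz01 : ent z 0 1 = 0) (hz : z * z ≠ 1)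
    (hh : h * z * h⁻¹ = z⁻¹) (hd : Nat.card (chi M).range + 1 = Nat.card (aGrp M)) (hO : (borel M).index = Nat.card (aGrp M) + 1) :
    ∃ S : Subfield F, Nat.card S = Nat.card (aGrp M) ∧ (Matrix.SpecialLinearGroup.map S.subtype).range = M := by
  classical
  let f : (chi M).range → {v : aGrp M // v ≠ 0} := fun t => ⟨⟨((t : Fˣ) : F) * ((t : Fˣ) : F), by
    obtain ⟨c, hc⟩ := t.2
    have := sq_mul_mem_aGrp c.2 h1
    rwa [mul_one, pow_two, ← coe_chi, hc] at this⟩, fun e => mul_ne_zero (Units.ne_zero _) (Units.ne_zero _) (congrArg Subtype.val e)⟩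
  have hfi : Function.Injective f := fun s t e => by
    have e' : ((s : Fˣ) : F) * ((s : Fˣ) : F) = ((t : Fˣ) : F) * ((t : Fˣ) : F) := congrArg (fun v : {v : aGrp M // v ≠ 0} => (v.1 : F)) e
    refine Subtype.ext (Units.ext ?_)
    rcases mul_self_eq_mul_self_iff.1 e' with e | e
    · exact e
    · rw [e, CharTwo.neg_eq]
  have hfs : Function.Surjective f := by
    haveI := Fintype.ofFinite (chi M).range
    haveI := Fintype.ofFinite (aGrp M)
    refine ((Fintype.bijective_iff_injective_and_card f).2 ⟨hfi, ?_⟩).2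
    rw [Fintype.card_subtype_compl, Fintype.card_subtype_eq, ← Nat.card_eq_fintype_card, ← Nat.card_eq_fintype_card, ← hd]
    rfl
  have hsq : ∀ v ∈ aGrp M, v ≠ 0 → ∃ c : borel M, ent (c : M) 0 0 * ent (c : M) 0 0 = v := fun v hv hv0 => by
    obtain ⟨⟨_, c, rfl⟩, ht⟩ := hfs ⟨⟨v, hv⟩, fun e => hv0 (congrArg Subtype.val e)⟩
    exact ⟨c, congrArg (fun w : {v : aGrp M // v ≠ 0} => (w.1 : F)) ht⟩
  let S : Subfield F :=
    { carrier := aGrp M
      one_mem' := h1
      zero_mem' := (aGrp M).zero_mem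
      add_mem' := fun hx hy => (aGrp M).add_mem hx hy
      neg_mem' := fun hx => (aGrp M).neg_mem hx
      mul_mem' := fun {x y} hx hy => by
        rcases eq_or_ne x 0 with rfl | hx0
        · simp
        obtain ⟨c, hc⟩ := hsq x hx hx0
        have := sq_mul_mem_aGrp c.2 hy
        rwa [pow_two, hc] at this
      inv_mem' := fun x hx => by
        rcases eq_or_ne x 0 with rfl | hx0
        · simp
        obtain ⟨c, hc⟩ := hsq x hx hx0
        have := sq_mul_mem_aGrp ((borel M).inv_mem c.2) h1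
        rw [mul_one, pow_two] at this
        show x⁻¹ ∈ aGrp M
        convert this using 1
        refine inv_eq_of_mul_eq_one_right ?_
        have hb := borel_prod _ c.2
        rw [← hc, show ent (c : M)⁻¹ 0 0 = ent (c : M) 1 1 from (inv_entries _).1]
        linear_combination (ent (c : M) 0 0 * ent (c : M) 1 1 + 1) * hb }
  refine ⟨S, rfl, ?_⟩
  have hzd := borel_prod z hz10
  have hne : ent z 0 0 - ent z 1 1 ≠ 0 := fun e => hz (by
    rw [sub_eq_zero] at e
    rw [← e] at hzd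
    have h00 : ent z 0 0 = 1 := by
      rcases mul_self_eq_one_iff.1 hzd with h | h
      · exact h
      · rw [h, CharTwo.neg_eq]
    refine Subtype.ext (Matrix.SpecialLinearGroup.ext _ _ fun i j => ?_)
    simp only [ent] at hz10 hz01 h00 e
    fin_cases i <;> fin_cases j <;> simp [mul_entry, hz10, hz01, h00, ← e])
  have hc := congrArg Subtype.val (mul_inv_eq_iff_eq_mul.1 hh)
  have c00 := congrArg (fun v : SL2 => v 0 0) hc
  have c11 := congrArg (fun v : SL2 => v 1 1) hc
  simp only [ent] at hz10 hz01 hne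
  simp only [Subgroup.coe_mul, Subgroup.coe_inv, mul_entry, (inv_entries (z : SL2)).1, (inv_entries (z : SL2)).2.1,
    (inv_entries (z : SL2)).2.2.1, (inv_entries (z : SL2)).2.2.2, hz10, hz01] at c00 c11
  have h00 : (h : SL2) 0 0 = 0 := (mul_eq_zero.1 (show (h : SL2) 0 0 * ((z : SL2) 0 0 - (z : SL2) 1 1) = 0 by linear_combination c00)).resolve_right hne
  have h11 : (h : SL2) 1 1 = 0 := (mul_eq_zero.1 (show (h : SL2) 1 1 * ((z : SL2) 0 0 - (z : SL2) 1 1) = 0 by linear_combination -c11)).resolve_right hne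
  have hdh := det_eq (g := (h : SL2))
  rw [h00, zero_mul, zero_sub, CharTwo.neg_eq] at hdh
  have h10 : (h : SL2) 1 0 ≠ 0 := right_ne_zero_of_mul_eq_one hdh
  let φ : Option (aGrp M) → M ⧸ borel M := fun o => o.elim ((1 : M) : M ⧸ borel M)
    fun v => (((⟨upperU v.1, v.2⟩ : M) * h : M) : M ⧸ borel M)
  have hφ : Function.Injective φ := by
    rintro (_ | v) (_ | w) e
    · rfl
    all_goals simp only [φ, Option.elim] at e; rw [QuotientGroup.eq, mem_borel, ent, Subgroup.coe_mul, Subgroup.coe_inv, mul_entry,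
      (inv_entries _).2.2.1, (inv_entries _).2.2.2] at e
    all_goals simp [mul_entry, upperU_entries, h00, h11] at e
    · exact absurd e h10
    · exact absurd e h10
    · exact congrArg some (Subtype.ext (mul_right_cancel₀ (mul_ne_zero h10 h10) (by linear_combination e)))
  have hbij : Function.Bijective φ := by
    haveI : Fintype (M ⧸ borel M) := Fintype.ofFinite _
    rw [Fintype.bijective_iff_injective_and_card]
    exact ⟨hφ, by rw [← Nat.card_eq_fintype_card, ← Nat.card_eq_fintype_card, Finite.card_option, ← hO]; rfl⟩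
  have hlo : ∀ v ∈ aGrp M, lo (v * ((h : SL2) 1 0 * (h : SL2) 1 0)) ∈ M := fun v hv => by
    have e : (h : SL2) * upperU v * (h : SL2)⁻¹ = lo (v * ((h : SL2) 1 0 * (h : SL2) 1 0)) := by
      rw [mul_inv_eq_iff_eq_mul]
      refine Matrix.SpecialLinearGroup.ext _ _ fun i j => ?_
      fin_cases i <;> fin_cases j <;> simp [mul_entry, upperU_entries, lo_coe, h00, h11]
      linear_combination -(v * (h : SL2) 1 0) * hdh
    rw [← e]; exact M.mul_mem (M.mul_mem h.2 hv) (M.inv_mem h.2)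
  have hy : (h : SL2) 1 0 * (h : SL2) 1 0 ∈ S := by
    obtain ⟨o, ho⟩ := hbij.2 ((⟨lo (1 * ((h : SL2) 1 0 * (h : SL2) 1 0)), hlo 1 h1⟩ : M) : M ⧸ borel M)
    rcases o with _ | v <;> simp only [φ, Option.elim] at ho <;>
      rw [QuotientGroup.eq, mem_borel, ent, Subgroup.coe_mul, Subgroup.coe_inv, mul_entry, (inv_entries _).2.2.1, (inv_entries _).2.2.2] at ho <;>
      simp [mul_entry, upperU_entries, lo_coe, h00, h11] at ho
    · exact absurd ho h10
    · have e : (v.1 : F) * ((h : SL2) 1 0 * (h : SL2) 1 0) = 1 := mul_left_cancel₀ h10 (by linear_combination ho)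
      rw [eq_inv_of_mul_eq_one_right e]
      exact S.inv_mem v.2
  have hloS : ∀ x ∈ S, lo x ∈ M := fun x hx => by
    have h' := hlo _ (S.mul_mem hx (S.inv_mem hy))
    rwa [inv_mul_cancel_right₀ (mul_ne_zero h10 h10)] at h'
  have hle : (Matrix.SpecialLinearGroup.map S.subtype).range ≤ M := by
    rw [MonoidHom.range_eq_map, ← Cfsg.Agent.SL2RankOne.sup_eq_top (k := S), Subgroup.map_sup, sup_le_iff]
    constructor
    · rintro _ ⟨g, hg, rfl⟩
      obtain ⟨x, rfl⟩ := Cfsg.Agent.SL2RankOne.mem_lower.1 hg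
      rw [show Matrix.SpecialLinearGroup.map S.subtype (lo x) = lo (x : F) from Matrix.SpecialLinearGroup.ext _ _ fun i j => by
        show S.subtype (lo x i j) = _
        fin_cases i <;> fin_cases j <;> simp [lo_coe]]
      exact hloS _ x.2
    · rintro _ ⟨g, hg, rfl⟩
      obtain ⟨x, rfl⟩ := Cfsg.Agent.SL2RankOne.mem_upper.1 hg
      rw [show Matrix.SpecialLinearGroup.map S.subtype (up x) = upperU (x : F) from Matrix.SpecialLinearGroup.ext _ _ fun i j => by
        show S.subtype (up x i j) = _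
        fin_cases i <;> fin_cases j <;> simp [up_coe, upperU_entries]]
      exact x.2
  refine Subgroup.eq_of_le_of_card_ge hle ?_
  have hψi : Function.Injective (Matrix.SpecialLinearGroup.map (n := Fin 2) S.subtype) := fun a b e =>
    Matrix.SpecialLinearGroup.ext _ _ fun i j => Subtype.ext (congrArg (fun v : SL2 => v i j) e)
  haveI := Fintype.ofFinite S
  rw [← Nat.card_congr (MonoidHom.ofInjective hψi).toEquiv, Cfsg.Lib.Classical.TwoDim.card_SL, ← Nat.card_eq_fintype_card,
    ← Subgroup.card_mul_index (borel M), card_borel_eq, hO, show Nat.card S = Nat.card (aGrp M) from rfl, ← hd]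
  simp only [Nat.add_sub_cancel]
  exact le_of_eq (by ring)

end Cfsg.Lib.Classical.SubfieldEven
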