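import Mathlib

/-!
Recognition of dihedral groups: a cyclic subgroup with an inverting involution outside it.
-/

set_option autoImplicit false

namespace Cfsg.Lib.Classical

theorem nonempty_mulEquiv_dihedral {G : Type*} [Group G] {n : ℕ} (R : Subgroup G) [IsCyclic R]
    (hR : Nat.card R = n) (hn : n ≠ 0) (s : G) (hs : s * s = 1) (hsR : s ∉ R)
    (hinv : ∀ r ∈ R, s * r * s = r⁻¹) (hgen : ∀ g, g ∈ R ∨ s * g ∈ R) :
    Nonempty (G ≃* DihedralGroup n) := by
  subst hR
  let ψ : Multiplicative (ZMod (Nat.card R)) ≃* R := zmodCyclicMulEquiv inferInstance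
  let e : ZMod (Nat.card R) → G := fun i => (ψ (Multiplicative.ofAdd i) : G)
  have hadd : ∀ i j, e (i + j) = e i * e j := fun i j => by simp [e, ofAdd_add]
  have hsub : ∀ i j, e (j - i) = (e i)⁻¹ * e j := fun i j => by
    rw [eq_inv_mul_iff_mul_eq, ← hadd, add_sub_cancel]
  have hswap : ∀ i, e i * s = s * (e i)⁻¹ := fun i => by
    rw [← hinv (e i) (ψ _).2, ← mul_assoc, ← mul_assoc, hs, one_mul]
  let f : DihedralGroup (Nat.card R) → G := fun x => match x with
    | .r i => e i
    | .sr i => s * e i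
  have hf : ∀ x y, f (x * y) = f x * f y := by
    rintro (i | i) (j | j)
    · simp [f, hadd]
    · simp only [DihedralGroup.r_mul_sr, f]
      rw [hsub, ← mul_assoc (e i), hswap, mul_assoc]
    · simp only [DihedralGroup.sr_mul_r, f, hadd, mul_assoc]
    · simp only [DihedralGroup.sr_mul_sr, f]
      rw [hsub, mul_assoc s, ← mul_assoc (e i), hswap, mul_assoc s, ← mul_assoc s, hs, one_mul]
  have he : Function.Injective e := fun i j h => by simpa [e] using ψ.injective (Subtype.ext h)
  have hsurj : ∀ r ∈ R, ∃ i, e i = r := fun r hr => ⟨(ψ.symm ⟨r, hr⟩).toAdd, by simp [e]⟩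
  have hbij : Function.Bijective f := by
    constructor
    · rintro (i | i) (j | j) h <;> simp only [f] at h
      · rw [he h]
      · exact absurd (by rw [eq_mul_inv_of_mul_eq h.symm]; exact R.mul_mem (ψ _).2 (R.inv_mem (ψ _).2)) hsR
      · exact absurd (by rw [eq_mul_inv_of_mul_eq h]; exact R.mul_mem (ψ _).2 (R.inv_mem (ψ _).2)) hsR
      · rw [he (mul_left_cancel h)]
    · intro g
      rcases hgen g with h | h
      · obtain ⟨i, hi⟩ := hsurj g h
        exact ⟨.r i, hi⟩
      · obtain ⟨i, hi⟩ := hsurj _ h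
        refine ⟨.sr i, ?_⟩
        simp only [f]
        rw [hi, ← mul_assoc, hs, one_mul]
  exact ⟨(MulEquiv.ofBijective (MonoidHom.mk' f hf) hbij).symm⟩

end Cfsg.Lib.Classical
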