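import Mathlib
import Cfsg.Agent.Lib.Classical.Transvection
import Cfsg.Agent.Lib.Classical.SLGroup

/-!
Sylow subgroups of `GL₂` and `SL₂` in the defining characteristic.
-/

set_option autoImplicit false

namespace Cfsg.Lib.Classical.GL2

open Matrix

variable {F : Type*} [Field F]

local notation "G" => GL (Fin 2) F

/-- Upper unitriangular matrices. -/
def U (F : Type*) [Field F] : Subgroup (GL (Fin 2) F) where
  carrier := {g | (g : Matrix (Fin 2) (Fin 2) F) 0 0 = 1 ∧ (g : Matrix (Fin 2) (Fin 2) F) 1 0 = 0 ∧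
    (g : Matrix (Fin 2) (Fin 2) F) 1 1 = 1}
  one_mem' := by simp
  mul_mem' := fun {a b} ha hb => by
    obtain ⟨a0, a1, a2⟩ := ha
    obtain ⟨b0, b1, b2⟩ := hb
    simp only [Set.mem_setOf_eq, Units.val_mul, mul_apply, Fin.sum_univ_two, a0, a1, a2, b0, b1, b2]
    simp
  inv_mem' := fun {a} ha => by
    obtain ⟨a0, a1, a2⟩ := ha
    have h : ((a⁻¹ : GL (Fin 2) F) : Matrix (Fin 2) (Fin 2) F) = !![1, -(a : Matrix (Fin 2) (Fin 2) F) 0 1; 0, 1] := by
      refine Units.inv_eq_of_mul_eq_one_right ?_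
      ext i j
      fin_cases i <;> fin_cases j <;> simp [mul_apply, Fin.sum_univ_two, a0, a1, a2]
    simp [Set.mem_setOf_eq, h]

/-- The unipotent element with corner `c`. -/
noncomputable def u (c : F) : GL (Fin 2) F :=
  GeneralLinearGroup.mkOfDetNeZero !![1, c; 0, 1] (by simp [det_fin_two])

@[simp] lemma coe_u (c : F) : (u c : Matrix (Fin 2) (Fin 2) F) = !![1, c; 0, 1] := rfl

lemma u_mem (c : F) : u c ∈ U F := by simp [U]

lemma eq_u {g : GL (Fin 2) F} (hg : g ∈ U F) : g = u ((g : Matrix (Fin 2) (Fin 2) F) 0 1) := by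
  refine Units.ext (Matrix.ext fun i j => ?_)
  obtain ⟨h0, h1, h2⟩ := hg
  fin_cases i <;> fin_cases j <;> simp [h0, h1, h2]

lemma det_u (c : F) : GeneralLinearGroup.det (u c) = 1 := by
  refine Units.ext ?_
  simp [det_fin_two]

lemma card_U : Nat.card (U F) = Nat.card F :=
  Nat.card_congr
    { toFun := fun g => (g.1 : Matrix (Fin 2) (Fin 2) F) 0 1
      invFun := fun c => ⟨u c, u_mem c⟩
      left_inv := fun g => Subtype.ext (eq_u g.2).symm
      right_inv := fun c => by simp }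

lemma conj_eq_zero {g : GL (Fin 2) F} {x y : GL (Fin 2) F} (hx : x ∈ U F) (hy : y ∈ U F) (hx1 : x ≠ 1)
    (h : g * x = y * g) : (g : Matrix (Fin 2) (Fin 2) F) 1 0 = 0 := by
  have hc : (x : Matrix (Fin 2) (Fin 2) F) 0 1 ≠ 0 := fun e => hx1 (by
    rw [eq_u hx, e]; exact Units.ext (by ext i j; fin_cases i <;> fin_cases j <;> simp))
  rw [eq_u hx, eq_u hy] at h
  have h11 := congrFun (congrFun (congrArg (fun z : GL (Fin 2) F => (z : Matrix (Fin 2) (Fin 2) F)) h) 1) 1
  simp [mul_apply, Fin.sum_univ_two] at h11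
  exact h11.resolve_right hc

lemma conj_mem_iff {g : GL (Fin 2) F} (hg : (g : Matrix (Fin 2) (Fin 2) F) 1 0 = 0) {x : GL (Fin 2) F}
    (hx : x ∈ U F) : g * x * g⁻¹ ∈ U F := by
  set M := (g : Matrix (Fin 2) (Fin 2) F)
  have hd : M 0 0 ≠ 0 ∧ M 1 1 ≠ 0 := by
    have h : M.det ≠ 0 := by rw [← Matrix.GeneralLinearGroup.val_det_apply]; exact Units.ne_zero _
    rw [det_fin_two, hg, mul_zero, sub_zero] at h
    exact mul_ne_zero_iff.1 h
  obtain ⟨c, rfl⟩ : ∃ c, x = u c := ⟨_, eq_u hx⟩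
  have : g * u c * g⁻¹ = u (M 0 0 * c / M 1 1) := by
    rw [mul_inv_eq_iff_eq_mul]
    refine Units.ext (Matrix.ext fun i j => ?_)
    obtain ⟨h0, h1⟩ := hd
    simp only [M] at h0 h1 hg ⊢
    fin_cases i <;> fin_cases j <;> simp [mul_apply, Fin.sum_univ_two, hg] <;> field_simp <;> ring
  rw [this]
  exact u_mem _

lemma mem_normalizer_iff (g : GL (Fin 2) F) :
    g ∈ Subgroup.normalizer (U F : Set (GL (Fin 2) F)) ↔ (g : Matrix (Fin 2) (Fin 2) F) 1 0 = 0 := by
  refine ⟨fun h => ?_, fun h => Subgroup.mem_normalizer_iff.2 fun x => ⟨conj_mem_iff h, fun hx => ?_⟩⟩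
  · have h1 : u 1 ≠ (1 : GL (Fin 2) F) := fun e => by
      have := congrFun (congrFun (congrArg (fun z : GL (Fin 2) F => (z : Matrix (Fin 2) (Fin 2) F)) e) 0) 1
      simp at this
    exact conj_eq_zero (u_mem 1) ((Subgroup.mem_normalizer_iff.1 h _).1 (u_mem 1)) h1 (by group)
  · have hi : ((g⁻¹ : GL (Fin 2) F) : Matrix (Fin 2) (Fin 2) F) 1 0 = 0 := by
      have e := congrFun (congrFun (Units.inv_mul g) 1) 0
      simp [mul_apply, Fin.sum_univ_two, h, -Matrix.coe_units_inv] at e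
      refine e.resolve_right fun e0 => ?_
      have hd : (g : Matrix (Fin 2) (Fin 2) F).det ≠ 0 := by
        rw [← Matrix.GeneralLinearGroup.val_det_apply]; exact Units.ne_zero _
      rw [det_fin_two, e0, h] at hd
      simp at hd
    have := conj_mem_iff hi hx
    simpa [mul_assoc] using this

variable [Fintype F]

lemma card_normalizer : Nat.card (Subgroup.normalizer (U F : Set (GL (Fin 2) F))) =
    Fintype.card F * (Fintype.card F - 1) ^ 2 := by
  have e : Subgroup.normalizer (U F : Set (GL (Fin 2) F)) ≃ F × Fˣ × Fˣ :=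
    { toFun := fun g => ((g.1 : Matrix (Fin 2) (Fin 2) F) 0 1,
        Units.mk0 ((g.1 : Matrix (Fin 2) (Fin 2) F) 0 0) (fun e => by
          have hd : (g.1 : Matrix (Fin 2) (Fin 2) F).det ≠ 0 := by
            rw [← Matrix.GeneralLinearGroup.val_det_apply]; exact Units.ne_zero _
          rw [det_fin_two, e, (mem_normalizer_iff g.1).1 g.2] at hd
          simp at hd),
        Units.mk0 ((g.1 : Matrix (Fin 2) (Fin 2) F) 1 1) (fun e => by
          have hd : (g.1 : Matrix (Fin 2) (Fin 2) F).det ≠ 0 := by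
            rw [← Matrix.GeneralLinearGroup.val_det_apply]; exact Units.ne_zero _
          rw [det_fin_two, e, (mem_normalizer_iff g.1).1 g.2] at hd
          simp at hd))
      invFun := fun p => ⟨GeneralLinearGroup.mkOfDetNeZero !![(p.2.1 : F), p.1; 0, (p.2.2 : F)]
        (by simp [det_fin_two]), (mem_normalizer_iff _).2 (by simp)⟩
      left_inv := fun g => Subtype.ext (Units.ext (by
        ext i j
        fin_cases i <;> fin_cases j <;> simp [(mem_normalizer_iff g.1).1 g.2]))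
      right_inv := fun p => by
        refine Prod.ext ?_ (Prod.ext (Units.ext ?_) (Units.ext ?_)) <;> simp }
  rw [Nat.card_congr e, Nat.card_prod, Nat.card_prod, Nat.card_units, Nat.card_eq_fintype_card]
  ring

variable (p : ℕ) [Fact p.Prime] [CharP F p]

lemma card_gl2 : Nat.card (GL (Fin 2) F) =
    (Fintype.card F + 1) * (Fintype.card F * (Fintype.card F - 1) ^ 2) := by
  rw [Matrix.card_GL_field, Fin.prod_univ_two]
  simp only [Fin.val_zero, pow_zero, Fin.val_one, pow_one]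
  set q := Fintype.card F
  obtain ⟨k, hk⟩ : ∃ k, q = k + 1 := ⟨q - 1, (Nat.sub_add_cancel Fintype.card_pos).symm⟩
  rw [hk]
  have e1 : (k + 1) ^ 2 - 1 = (k + 2) * k := by
    rw [show (k + 1) ^ 2 = (k + 2) * k + 1 by ring, Nat.add_sub_cancel]
  have e2 : (k + 1) ^ 2 - (k + 1) = (k + 1) * k := by
    rw [show (k + 1) ^ 2 = (k + 1) * k + (k + 1) by ring, Nat.add_sub_cancel]
  rw [e1, e2, Nat.add_sub_cancel]
  ring

omit [Fintype F] in
lemma isPGroup_U [Finite F] : IsPGroup p (U F) := by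
  have : Fintype F := Fintype.ofFinite F
  obtain ⟨n, -, hn⟩ := FiniteField.card F p
  exact IsPGroup.of_card (n := (n : ℕ)) (by rw [card_U, Nat.card_eq_fintype_card, hn])

lemma exists_conj (P : Sylow p (GL (Fin 2) F)) :
    ∃ g : GL (Fin 2) F, (P : Subgroup (GL (Fin 2) F)) = (U F).map (MulAut.conj g).toMonoidHom := by
  obtain ⟨Q, hQ⟩ := (isPGroup_U (F := F) p).exists_le_sylow
  have hU : (U F).index = (Fintype.card F + 1) * (Fintype.card F - 1) ^ 2 := by
    have h := (U F).card_mul_index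
    rw [card_U, card_gl2, Nat.card_eq_fintype_card] at h
    refine Nat.eq_of_mul_eq_mul_left Fintype.card_pos (h.trans ?_)
    ring
  have hQU : (Q : Subgroup (GL (Fin 2) F)) = U F := by
    obtain ⟨n, -, hn⟩ := FiniteField.card F p
    have hpd : ¬ p ∣ (U F).index := by
      have hp : p.Prime := Fact.out
      have hpq : p ∣ Fintype.card F := hn ▸ dvd_pow_self p n.pos.ne'
      rw [hU]
      intro hd
      have h1 : 1 ≤ Fintype.card F := Fintype.card_pos
      rcases hp.dvd_mul.1 hd with h | h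
      · exact hp.not_dvd_one ((Nat.dvd_add_right hpq).1 h)
      · exact hp.not_dvd_one ((Nat.dvd_sub hpq (hp.dvd_of_dvd_pow h)).trans (by rw [Nat.sub_sub_self h1]))
    refine le_antisymm ?_ hQ
    have h1 := Subgroup.relIndex_mul_index hQ
    have h2 : ∃ m, (U F).relIndex (Q : Subgroup (GL (Fin 2) F)) = p ^ m := Q.2.index _
    obtain ⟨m, hm⟩ := h2
    rcases Nat.eq_zero_or_pos m with rfl | hm0
    · exact Subgroup.relIndex_eq_one.1 (by simpa using hm)
    · exact absurd (h1 ▸ hm ▸ (dvd_pow_self p hm0.ne').trans (dvd_mul_right _ _)) hpd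
  obtain ⟨g, hg⟩ := MulAction.exists_smul_eq (GL (Fin 2) F) Q P
  refine ⟨g, ?_⟩
  rw [← hg, Sylow.coe_subgroup_smul, hQU]
  rfl

lemma eq_of_inf (g : GL (Fin 2) F) {x : GL (Fin 2) F} (hx : x ∈ U F) (hx1 : x ≠ 1)
    (hgx : g * x * g⁻¹ ∈ U F) : (U F).map (MulAut.conj g).toMonoidHom = U F := by
  have h := conj_eq_zero (g := g) hx hgx hx1 (by group)
  have hg := (mem_normalizer_iff g).2 h
  refine Subgroup.eq_of_le_of_card_ge (fun y ⟨z, hz, e⟩ => e ▸ (Subgroup.mem_normalizer_iff.1 hg z).1 hz) ?_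
  exact (Nat.card_congr ((U F).equivMapOfInjective _ (MulAut.conj g).injective).toEquiv).le

end Cfsg.Lib.Classical.GL2
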