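import Mathlib

/-! A non-scalar 2×2 matrix is similar to its companion matrix. -/

set_option autoImplicit false

namespace Cfsg.Agent.GLTwoForm

open Matrix

theorem exists_companion {F : Type*} [Field F] (M : Matrix (Fin 2) (Fin 2) F)
    (h : ∀ c : F, M ≠ diagonal fun _ => c) :
    ∃ P : Matrix (Fin 2) (Fin 2) F, P.det ≠ 0 ∧ M * P = P * !![0, -M.det; 1, M.trace] := by
  have key : ∀ a b : F,
      ((!![a, M 0 0 * a + M 0 1 * b; b, M 1 0 * a + M 1 1 * b] : Matrix (Fin 2) (Fin 2) F).det ≠ 0) →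
      ∃ P : Matrix (Fin 2) (Fin 2) F, P.det ≠ 0 ∧ M * P = P * !![0, -M.det; 1, M.trace] := by
    intro a b hP
    refine ⟨_, hP, ?_⟩
    rw [det_fin_two M]
    ext i j
    fin_cases i <;> fin_cases j <;> simp [mul_apply, Fin.sum_univ_two, trace_fin_two] <;> ring
  by_contra hc
  have k1 : M 1 0 = 0 := by
    by_contra hx; exact hc (key 1 0 (by rw [det_fin_two]; simpa using hx))
  have k2 : M 0 1 = 0 := by
    by_contra hx; exact hc (key 0 1 (by rw [det_fin_two]; simpa using hx))
  have k3 : M 0 0 = M 1 1 := by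
    by_contra hx
    exact hc (key 1 1 (by rw [det_fin_two]; simp [k1, k2]; exact fun e => hx (sub_eq_zero.1
      (by linear_combination -e))))
  apply h (M 0 0)
  ext i j; fin_cases i <;> fin_cases j <;> simp [k1, k2, k3]

end Cfsg.Agent.GLTwoForm
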