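import Mathlib
import Cfsg.Agent.Lib.Classical.OrthMatrix
import Cfsg.Agent.Lib.Classical.QuadOrders

/-!
Isometries commuting with the derived group of an orthogonal group are `±1`; the centre of `Omega`.
-/

set_option autoImplicit false

namespace Cfsg.Lib.Classical.OmegaCentre

open Module Reflections Spinor
open scoped commutatorElement

variable {F V : Type*} [Field F] [Finite F] [AddCommGroup V] [Module F V] [FiniteDimensional F V] {Q : QuadraticForm F V}

local notation "β" => QuadraticMap.polarBilin Q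

/-- Three mutually orthogonal hyperbolic pairs. -/
structure Triple (Q : QuadraticForm F V) where
  e : Fin 3 → V
  f : Fin 3 → V
  qe : ∀ i, Q (e i) = 0
  qf : ∀ i, Q (f i) = 0
  ee : ∀ i j, QuadraticMap.polarBilin Q (e i) (e j) = 0
  ff : ∀ i j, QuadraticMap.polarBilin Q (f i) (f j) = 0
  ef : ∀ i j, QuadraticMap.polarBilin Q (e i) (f j) = if i = j then 1 else 0

lemma third (i j : Fin 3) (h : i ≠ j) : ∃ k, k ≠ i ∧ k ≠ j := by
  revert h; revert i j; decide

lemma eq_one_of_two {c : F} (h2 : (2 : F) = 0) (hc : c * c = 1) : c = 1 := by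
  have : (c - 1) * (c - 1) = 0 := by linear_combination hc + (1 - c) * h2
  exact sub_eq_zero.1 (mul_self_eq_zero.1 this)

variable (hB : (QuadraticMap.polarBilin Q).Nondegenerate)
include hB

lemma refl_mul_mem_commutator {u v : V} (hu : Q u ≠ 0) (h : Q u = Q v) :
    refl Q u * refl Q v ∈ commutator (Witt.quadIso Q) := by
  obtain ⟨g, hg⟩ := conj_of_class hB hu (h ▸ hu) (by rw [h])
  have : refl Q u * refl Q v = ⁅refl Q u, g⁆ := by
    rw [commutatorElement_def, refl_inv, ← hg]
    group
  rw [this, commutator_def]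
  exact Subgroup.commutator_mem_commutator (Subgroup.mem_top _) (Subgroup.mem_top _)

/-- A commuting isometry maps `u` into the plane of `u` and `v`. -/
lemma mem_plane {z : Witt.quadIso Q} (hz : ∀ k ∈ commutator (Witt.quadIso Q), z * k = k * z) {u v : V}
    (hu : Q u ≠ 0) (h : Q u = Q v) (hind : LinearIndependent F ![u, v]) :
    ∃ a b : F, z.1 u = a • u + b • v := by
  obtain ⟨y, hy⟩ : ∃ y, β v y = 0 ∧ β u y = -Q u := by
    let T : V →ₗ[F] F × F := (β u).prod (β v)
    have hinj : ∀ a b : F, a • β u + b • β v = 0 → a = 0 ∧ b = 0 := fun a b e => by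
      have : a • u + b • v = 0 := hB.1 _ fun y => by rw [map_add, map_smul, map_smul, e, LinearMap.zero_apply]
      exact LinearIndependent.pair_iff.1 hind a b this
    have hT : LinearMap.range T = ⊤ := by
      by_contra hne
      obtain ⟨φ, hφ, hker⟩ := Submodule.exists_le_ker_of_lt_top _ (lt_top_iff_ne_top.2 hne)
      have := hinj (φ (1, 0)) (φ (0, 1)) (LinearMap.ext fun y => by
        have h0 : φ (T y) = 0 := hker ⟨y, rfl⟩
        rw [show T y = (β u y) • ((1 : F), (0 : F)) + (β v y) • ((0 : F), (1 : F)) by simp [T], map_add, map_smul, map_smul] at h0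
        simp only [LinearMap.add_apply, LinearMap.smul_apply, LinearMap.zero_apply, smul_eq_mul] at *
        linear_combination h0)
      refine hφ (LinearMap.ext fun p => ?_)
      rw [show p = p.1 • ((1 : F), (0 : F)) + p.2 • ((0 : F), (1 : F)) by simp, map_add, map_smul, map_smul, this.1, this.2]
      simp
    obtain ⟨y, hy⟩ := LinearMap.range_eq_top.1 hT (-Q u, 0)
    exact ⟨y, congrArg Prod.snd hy, congrArg Prod.fst hy⟩
  set k := refl Q u * refl Q v with hk
  have hky : k.1 y = y + u := by
    show (refl Q u).1 ((refl Q v).1 y) = _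
    rw [refl_fix Q hy.1, refl_apply, hy.2, mul_neg, inv_mul_cancel₀ hu, neg_smul, one_smul, sub_neg_eq_add]
  have hc : z.1 (k.1 y) = k.1 (z.1 y) := congrArg (fun g : Witt.quadIso Q => g.1 y) (hz k (refl_mul_mem_commutator hB hu h))
  rw [hky, map_add] at hc
  have : z.1 u = k.1 (z.1 y) - z.1 y := by rw [← hc]; abel
  set w := z.1 y
  rw [this]
  show ∃ a b : F, (refl Q u).1 ((refl Q v).1 w) - w = a • u + b • v
  rw [refl_apply Q u, refl_apply Q v]
  exact ⟨-((Q u)⁻¹ * β u (w - ((Q v)⁻¹ * β v w) • v)), -((Q v)⁻¹ * β v w), by rw [neg_smul, neg_smul]; abel⟩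

variable (T : Triple Q)
include T

lemma eigen {z : Witt.quadIso Q} (hz : ∀ k ∈ commutator (Witt.quadIso Q), z * k = k * z) {u : V} (hu : Q u ≠ 0) :
    ∃ c : F, z.1 u = c • u ∧ c * c = 1 := by
  let v : Fin 3 → V := fun i => T.e i + Q u • T.f i
  have hv : ∀ i, Q (v i) = Q u := fun i => by
    rw [show v i = T.e i + Q u • T.f i from rfl, Witt.quad_add, Witt.quad_smul, T.qe, T.qf, map_smul, T.ef, if_pos rfl, smul_eq_mul]
    ring
  have hev : ∀ i j, β (T.e i) (v j) = if i = j then Q u else 0 := fun i j => by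
    rw [show v j = T.e j + Q u • T.f j from rfl, map_add, T.ee, map_smul, T.ef]
    split_ifs <;> simp
  obtain ⟨i, j, hij, hind⟩ : ∃ i j, i ≠ j ∧ LinearIndependent F ![u, v i, v j] := by
    by_contra! hcon
    have hspan : ∀ i j, i ≠ j → ∃ a b : F, u = a • v i + b • v j := by
      intro i j hij
      have hdep := hcon i j hij
      rw [Fintype.linearIndependent_iff] at hdep
      push Not at hdep
      obtain ⟨g, hg, l, hl⟩ := hdep
      simp only [Fin.sum_univ_three, Matrix.cons_val_zero, Matrix.cons_val_one, Matrix.cons_val] at hg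
      by_cases h0 : g 0 = 0
      · exfalso
        have h1 := congrArg (β (T.e i)) hg
        have h3 := congrArg (β (T.e j)) hg
        simp [map_add, hev, h0, hij, hij.symm, hu] at h1 h3
        fin_cases l
        · exact hl h0
        · exact hl h1
        · exact hl h3
      · refine ⟨-(g 1) / g 0, -(g 2) / g 0, ?_⟩
        rw [div_eq_inv_mul, div_eq_inv_mul, mul_smul, mul_smul, ← smul_add, eq_inv_smul_iff₀ h0, neg_smul, neg_smul,
          ← sub_eq_zero, ← hg]
        abel
    have hzero : ∀ k, β (T.e k) u = 0 := fun k => by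
      obtain ⟨i, hik, -⟩ := third k (k + 1) (by revert k; decide)
      obtain ⟨j, hjk, hji⟩ := third k i hik.symm
      obtain ⟨a, b, e⟩ := hspan i j hji.symm
      rw [e, map_add, map_smul, map_smul, hev, hev, if_neg hik.symm, if_neg hjk.symm]
      simp
    obtain ⟨a, b, e⟩ := hspan 0 1 (by decide)
    have h0 := hzero 0
    have h1 := hzero 1
    rw [e, map_add, map_smul, map_smul, hev, hev] at h0 h1
    simp [hu] at h0 h1
    exact hu (by rw [e, h0, h1]; simp)
  have h2i : LinearIndependent F ![u, v i] := by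
    have := hind.comp ![0, 1] (by decide)
    convert this using 1
    ext l; fin_cases l <;> rfl
  have h2j : LinearIndependent F ![u, v j] := by
    have := hind.comp ![0, 2] (by decide)
    convert this using 1
    ext l; fin_cases l <;> rfl
  obtain ⟨a, b, e1⟩ := mem_plane hB hz hu (hv i).symm h2i
  obtain ⟨c, d, e2⟩ := mem_plane hB hz hu (hv j).symm h2j
  rw [Fintype.linearIndependent_iff] at hind
  have := hind ![a - c, b, -d] (by
    simp only [Fin.sum_univ_three, Matrix.cons_val_zero, Matrix.cons_val_one, Matrix.cons_val]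
    rw [sub_smul, neg_smul, ← sub_eq_zero.2 (e1.symm.trans e2)]
    abel) 1
  simp at this
  subst this
  rw [zero_smul, add_zero] at e1
  refine ⟨a, e1, mul_right_cancel₀ hu ?_⟩
  rw [one_mul]
  have := z.2 u
  rwa [e1, Witt.quad_smul] at this

theorem scalar {z : Witt.quadIso Q} (hz : ∀ k ∈ commutator (Witt.quadIso Q), z * k = k * z) :
    ∃ a : F, a * a = 1 ∧ ∀ x, z.1 x = a • x := by
  have hP : ∀ i, Q (T.e i + T.f i) = 1 := fun i => by
    rw [Witt.quad_add, T.qe, T.qf, T.ef, if_pos rfl]; ring
  choose c hc hc2 using fun i => eigen hB T hz (u := T.e i + T.f i) (by rw [hP i]; exact one_ne_zero)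
  -- singular vectors orthogonal to a pair
  have hsing : ∀ j x, Q x = 0 → β x (T.e j + T.f j) = 0 → z.1 x = c j • x := by
    intro j x hx hxu
    set u := T.e j + T.f j with hu
    obtain ⟨c', h', h'2⟩ := eigen hB T hz (u := x + u) (by rw [Witt.quad_add, hx, hP j, hxu]; simp)
    rw [map_add, hc j, ← eq_sub_iff_add_eq] at h'
    have hp := polar_apply Q z x u
    rw [hxu, h', hc j] at hp
    simp only [map_sub, map_smul, map_add, LinearMap.sub_apply, LinearMap.smul_apply, LinearMap.add_apply, hxu, zero_add,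
      Witt.polar_self', ← hu, smul_eq_mul] at hp
    have heq : c' = c j := by
      by_cases h2 : (2 : F) = 0
      · rw [eq_one_of_two h2 h'2, eq_one_of_two h2 (hc2 j)]
      · have hcj : c j ≠ 0 := fun h => by simpa [h] using hc2 j
        rw [show Q u = 1 from hP j] at hp
        have : c j * (2 * (c' - c j)) = 0 := by linear_combination hp
        exact sub_eq_zero.1 ((mul_eq_zero.1 ((mul_eq_zero.1 this).resolve_left hcj)).resolve_left h2)
    rw [h', heq, smul_add]
    abel
  have hE : ∀ i j, i ≠ j → z.1 (T.e i) = c j • T.e i ∧ z.1 (T.f i) = c j • T.f i := fun i j hij =>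
    ⟨hsing j _ (T.qe i) (by rw [map_add, T.ee, T.ef, if_neg hij, add_zero]),
      hsing j _ (T.qf i) (by rw [map_add, T.ff, Witt.polar_symm' Q (T.f i), T.ef, if_neg hij.symm, add_zero])⟩
  have hne : ∀ i, T.e i + T.f i ≠ 0 := fun i h => by simpa [h] using hP i
  have hcc : ∀ i j, c i = c j := fun i j => by
    rcases eq_or_ne i j with rfl | hij
    · rfl
    have := hc i
    rw [map_add, (hE i j hij).1, (hE i j hij).2, ← smul_add] at this
    exact (smul_left_injective F (hne i) this).symm
  have hEa : ∀ i, z.1 (T.e i) = c 0 • T.e i := fun i => by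
    obtain ⟨j, hj, -⟩ := third i (i + 1) (by revert i; decide)
    rw [(hE i j hj.symm).1, hcc j 0]
  have haniso : ∀ y, Q y ≠ 0 → z.1 y = c 0 • y := by
    intro y hy
    obtain ⟨d, hd, -⟩ := eigen hB T hz hy
    obtain ⟨x, hx0, hQx, hxy, hzx⟩ : ∃ x, x ≠ 0 ∧ Q x = 0 ∧ β x y = 0 ∧ z.1 x = c 0 • x := by
      by_cases h : β (T.e 0) y = 0
      · exact ⟨T.e 0, fun h0 => by have := T.ef 0 0; rw [h0] at this; simp at this, T.qe 0, h, hEa 0⟩
      · refine ⟨β (T.e 1) y • T.e 0 - β (T.e 0) y • T.e 1, fun h0 => ?_, ?_, ?_, ?_⟩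
        · have h1 := congrArg (fun w => β w (T.f 1)) h0
          simp [T.ef] at h1
          exact h h1
        · rw [sub_eq_add_neg, ← neg_smul, Witt.quad_add, Witt.quad_smul, Witt.quad_smul, T.qe, T.qe, map_smul, map_smul,
            LinearMap.smul_apply, T.ee]
          simp
        · simp only [map_sub, map_smul, LinearMap.sub_apply, LinearMap.smul_apply, smul_eq_mul]
          ring
        · rw [map_sub, map_smul, map_smul, hEa, hEa, smul_sub, smul_comm (c 0), smul_comm (c 0)]
    obtain ⟨d', h', -⟩ := eigen hB T hz (u := x + y) (by rw [Witt.quad_add, hQx, hxy]; simpa using hy)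
    rw [map_add, hzx, hd, smul_add] at h'
    have hind : LinearIndependent F ![x, y] := LinearIndependent.pair_iff.2 fun s t e => by
      have hq : t * t * Q y = 0 := by
        have : t • y = -(s • x) := eq_neg_of_add_eq_zero_right e
        rw [← Witt.quad_smul, this, QuadraticMap.map_neg, Witt.quad_smul, hQx, mul_zero]
      have ht : t = 0 := mul_self_eq_zero.1 ((mul_eq_zero.1 hq).resolve_right hy)
      rw [ht, zero_smul, add_zero] at e
      exact ⟨(smul_eq_zero.1 e).resolve_right hx0, ht⟩
    have := LinearIndependent.pair_iff.1 hind (c 0 - d') (d - d') (by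
      rw [sub_smul, sub_smul, ← sub_eq_zero.2 h']; abel)
    rw [hd, sub_eq_zero.1 this.2, ← sub_eq_zero.1 this.1]
  refine ⟨c 0, hc2 0, fun x => ?_⟩
  by_cases hx : Q x ≠ 0
  · exact haniso x hx
  · push Not at hx
    obtain ⟨y, hy, hxy⟩ : ∃ y, Q y ≠ 0 ∧ Q (x + y) ≠ 0 := by
      by_contra! hcon
      have hm : ∀ y, Q y = 1 → β x y = -1 := fun y hy => by
        have := hcon y (by rw [hy]; exact one_ne_zero)
        rw [Witt.quad_add, hx, hy] at this
        linear_combination this
      have h01 : ∀ w, (w = T.e 0 ∨ w = T.f 0) → Q (T.e 1 + T.f 1 + w) = 1 := fun w hw => by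
        rw [Witt.quad_add, hP 1]
        rcases hw with rfl | rfl
        · simp [T.qe, T.ee, Witt.polar_symm' Q (T.f 1), T.ef]
        · simp [T.qf, T.ff, T.ef]
      have a1 := hm _ (hP 0)
      have a2 := hm _ (hP 1)
      have a3 := hm _ (h01 _ (Or.inl rfl))
      have a4 := hm _ (h01 _ (Or.inr rfl))
      simp only [map_add] at a1 a2 a3 a4
      exact one_ne_zero (show (1 : F) = 0 by linear_combination a1 + 2 * a2 - a3 - a4)
    have := haniso (x + y) hxy
    rwa [map_add, haniso y hy, smul_add, add_left_inj] at this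

end Cfsg.Lib.Classical.OmegaCentre

namespace Cfsg.Lib.Classical.OmegaCentre

open Module Reflections Spinor
open scoped Matrix

variable {ι : Type} [Fintype ι] [DecidableEq ι] {F : Type*} [Field F] [Fintype F] {f : (ι → F) → F}
  {Q : QuadraticForm F (ι → F)}

/-- Central elements of `Omega` are `±1`. -/
theorem center_scalar (h : ∀ v, Q v = f v) (hB : (QuadraticMap.polarBilin Q).Nondegenerate) (T : Triple Q)
    (g : Cfsg.Omega F f) (hg : g ∈ Subgroup.center (Cfsg.Omega F f)) :
    ∃ a : F, a * a = 1 ∧ ((g.1 : Matrix.GeneralLinearGroup ι F) : Matrix ι ι F) = a • 1 := by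
  obtain ⟨a, ha, hsc⟩ := scalar hB T (z := OrthMatrix.eI h g.1) fun k hk => by
    have hk' : (OrthMatrix.eI h).symm k ∈ Cfsg.Omega F f := by
      rw [OrthMatrix.omega_eq h, Subgroup.mem_comap, MulEquiv.coe_toMonoidHom, MulEquiv.apply_symm_apply]
      exact hk
    have := congrArg (fun x : Cfsg.Omega F f => OrthMatrix.eI h x.1) (Subgroup.mem_center_iff.1 hg ⟨_, hk'⟩)
    simp only [Subgroup.coe_mul, map_mul, MulEquiv.apply_symm_apply] at this
    exact this.symm
  refine ⟨a, ha, ext_mulVec fun x => ?_⟩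
  rw [← OrthMatrix.eI_apply h, hsc, Matrix.smul_mulVec, Matrix.one_mulVec]

/-- The centre is trivial when `-1` is not in `Omega`. -/
theorem card_center_one (h : ∀ v, Q v = f v) (hB : (QuadraticMap.polarBilin Q).Nondegenerate) (T : Triple Q)
    (hno : (2 : F) = 0 ∨ ¬ ∃ g : Cfsg.isometryGroup F f, g ∈ Cfsg.Omega F f ∧ ((g : Matrix.GeneralLinearGroup ι F) : Matrix ι ι F) = -1) :
    Nat.card (Subgroup.center (Cfsg.Omega F f)) = 1 := by
  haveI : Subsingleton (Subgroup.center (Cfsg.Omega F f)) := by
    refine ⟨fun x y => ?_⟩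
    suffices ∀ x : Subgroup.center (Cfsg.Omega F f), x = 1 by rw [this x, this y]
    intro x
    obtain ⟨a, ha, e⟩ := center_scalar h hB T x.1 x.2
    have h1 : a = 1 := by
      rcases hno with h2 | hno
      · exact eq_one_of_two h2 ha
      · refine (mul_self_eq_one_iff.1 ha).resolve_right fun hm => hno ⟨x.1.1, x.1.2, ?_⟩
        rw [e, hm, neg_one_smul]
    rw [h1, one_smul] at e
    exact Subtype.ext (Subtype.ext (Subtype.ext (Units.ext e)))
  exact Nat.card_unique

/-- The centre has order two when `-1` is in `Omega`. -/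
theorem card_center_two (h : ∀ v, Q v = f v) (hB : (QuadraticMap.polarBilin Q).Nondegenerate) (T : Triple Q) (h2 : (2 : F) ≠ 0)
    (hyes : ∃ g : Cfsg.isometryGroup F f, g ∈ Cfsg.Omega F f ∧ ((g : Matrix.GeneralLinearGroup ι F) : Matrix ι ι F) = -1) :
    Nat.card (Subgroup.center (Cfsg.Omega F f)) = 2 := by
  obtain ⟨g, hg, e⟩ := hyes
  haveI : Nonempty ι := by
    by_contra hn
    have := T.ef 0 0
    rw [not_nonempty_iff] at hn
    rw [Subsingleton.elim (T.e 0) 0] at this
    simp at this
  let z : Subgroup.center (Cfsg.Omega F f) := ⟨⟨g, hg⟩, Subgroup.mem_center_iff.2 fun k => Subtype.ext (Subtype.ext (Units.ext (by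
    simp only [Subgroup.coe_mul, Units.val_mul, e, mul_neg, neg_mul, mul_one, one_mul])))⟩
  rw [Nat.card_eq_two_iff' 1]
  refine ⟨z, fun hz => ?_, fun y hy => ?_⟩
  · have h1 := congrArg (fun w : Subgroup.center (Cfsg.Omega F f) => ((w.1.1 : Matrix.GeneralLinearGroup ι F) : Matrix ι ι F)) hz
    simp only [z, e, OneMemClass.coe_one, Units.val_one] at h1
    have h3 := congrFun (congrFun h1 (Classical.arbitrary ι)) (Classical.arbitrary ι)
    simp at h3
    exact h2 (by linear_combination -h3)
  · obtain ⟨a, ha, e'⟩ := center_scalar h hB T y.1 y.2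
    rcases mul_self_eq_one_iff.1 ha with rfl | rfl
    · rw [one_smul] at e'
      exact absurd (Subtype.ext (Subtype.ext (Subtype.ext (Units.ext e')))) hy
    · rw [neg_one_smul] at e'
      exact Subtype.ext (Subtype.ext (Subtype.ext (Units.ext (e'.trans e.symm))))

theorem card_pomega (hidx : ℕ) (hI : (Cfsg.Omega F f).index = hidx) (c : ℕ) (hc : Nat.card (Subgroup.center (Cfsg.Omega F f)) = c) :
    hidx * c * Nat.card (Cfsg.POmega F f) = Nat.card (Cfsg.isometryGroup F f) := by
  have h1 := Subgroup.card_eq_card_quotient_mul_card_subgroup (Subgroup.center (Cfsg.Omega F f))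
  have h2 := (Cfsg.Omega F f).index_mul_card
  rw [hI, h1, hc] at h2
  rw [← h2]
  show hidx * c * Nat.card (Cfsg.Omega F f ⧸ Subgroup.center (Cfsg.Omega F f)) = _
  ring

open QuadOrders in
/-- Three hyperbolic pairs inside a standard space. -/
def stdTriple {F : Type*} [Field F] {A M : Type*} [AddCommGroup A] [Module F A] [AddCommGroup M] [Module F M] {k : ℕ} (hk : 3 ≤ k)
    (q : QuadraticForm F A) (E : M ≃ₗ[F] ((Fin k → F) × (Fin k → F)) × A) : Triple ((Qs k q).comp E.toLinearMap) where
  e i := E.symm ((Pi.single (Fin.castLE hk i) 1, 0), 0)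
  f i := E.symm ((0, Pi.single (Fin.castLE hk i) 1), 0)
  qe i := by simp [Qs_apply]
  qf i := by simp [Qs_apply]
  ee i j := by simp [QuadraticMap.polar, ← map_add, Qs_apply, Pi.single_apply]
  ff i j := by simp [QuadraticMap.polar, ← map_add, Qs_apply, Pi.single_apply]
  ef i j := by
    simp [QuadraticMap.polar, ← map_add, Qs_apply, Pi.single_apply, Fin.ext_iff]
    rw [Finset.sum_eq_single (Fin.castLE hk j) (fun b _ hb => if_neg fun h => hb (Fin.ext (by simpa using h))) (by simp)]
    simp [eq_comm]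

end Cfsg.Lib.Classical.OmegaCentre
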