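import Mathlib
import Cfsg.Prelude.Def_Classical
import Cfsg.Prelude.Def_ClassicalGeometry

/-!
Small classical groups from permutation modules.
-/

set_option autoImplicit false

namespace Cfsg.Lib.Classical.PermModule

open Matrix

variable {n : ℕ} {κ : Type} [Fintype κ] [DecidableEq κ] {K : Type*} [Field K]

/-- The matrix of a permutation, twisted by a character, on a section of the permutation module. -/
def mat (χ : Equiv.Perm (Fin n) →* K) (ι : Matrix (Fin n) κ K) (π : Matrix κ (Fin n) K) (σ : Equiv.Perm (Fin n)) : Matrix κ κ K :=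
  χ σ • (π * (ι.submatrix σ.symm id))

lemma mat_mulVec (χ : Equiv.Perm (Fin n) →* K) (ι : Matrix (Fin n) κ K) (π : Matrix κ (Fin n) K) (σ : Equiv.Perm (Fin n)) (v : κ → K) :
    mat χ ι π σ *ᵥ v = χ σ • (π *ᵥ ((ι *ᵥ v) ∘ σ.symm)) := by
  rw [mat, Matrix.smul_mulVec, ← Matrix.mulVec_mulVec]
  rfl

structure Data (χ : Equiv.Perm (Fin n) →* K) (ι : Matrix (Fin n) κ K) (π : Matrix κ (Fin n) K)
    (R : (Fin n → K) → (Fin n → K) → K) (q : (κ → K) → (κ → K) → K) : Prop where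
  retr : π * ι = 1
  sum : ∀ v, ∑ i, (ι *ᵥ v) i = 0
  corr : ∀ x : Fin n → K, ∑ i, x i = 0 → ∃ c : K, ι *ᵥ (π *ᵥ x) = x + (fun _ => c) ∧ π *ᵥ (fun _ => c) = 0
  form : ∀ u v, q u v = R (ι *ᵥ u) (ι *ᵥ v)
  perm : ∀ (σ : Equiv.Perm (Fin n)) (x y : Fin n → K), R (χ σ • (x ∘ σ.symm)) (χ σ • (y ∘ σ.symm)) = R x y
  shift : ∀ (x y : Fin n → K) (c d : K), ∑ i, x i = 0 → ∑ i, y i = 0 → ∑ _i : Fin n, c = 0 → ∑ _i : Fin n, d = 0 →
    R (x + fun _ => c) (y + fun _ => d) = R x y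

namespace Data

variable {χ : Equiv.Perm (Fin n) →* K} {ι : Matrix (Fin n) κ K} {π : Matrix κ (Fin n) K}
  {R : (Fin n → K) → (Fin n → K) → K} {q : (κ → K) → (κ → K) → K}

lemma sum_perm (D : Data χ ι π R q) (σ : Equiv.Perm (Fin n)) (v : κ → K) :
    ∑ i, (χ σ • ((ι *ᵥ v) ∘ σ.symm)) i = 0 := by
  simp only [Pi.smul_apply, smul_eq_mul, ← Finset.mul_sum, Function.comp_apply]
  rw [Equiv.sum_comp σ.symm, D.sum, mul_zero]

lemma mat_one (D : Data χ ι π R q) : mat χ ι π 1 = 1 := by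
  rw [mat, map_one, one_smul, ← D.retr]
  rfl

lemma mat_mul (D : Data χ ι π R q) (σ τ : Equiv.Perm (Fin n)) : mat χ ι π (σ * τ) = mat χ ι π σ * mat χ ι π τ := by
  refine Matrix.toLin'.injective (LinearMap.ext fun v => ?_)
  rw [Matrix.toLin'_apply, Matrix.toLin'_apply, ← Matrix.mulVec_mulVec, mat_mulVec, mat_mulVec, mat_mulVec, ← Matrix.mulVec_smul π (χ τ)]
  obtain ⟨c, hc, hc0⟩ := D.corr _ (D.sum_perm τ v)
  rw [hc, show (χ τ • ((ι *ᵥ v) ∘ τ.symm) + fun _ => c) ∘ σ.symm = χ τ • ((ι *ᵥ v) ∘ (σ * τ).symm) + (fun _ => c) from rfl,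
    Matrix.mulVec_add, hc0, add_zero, Matrix.mulVec_smul, smul_smul, map_mul]

lemma mat_form (D : Data χ ι π R q) (σ : Equiv.Perm (Fin n)) (u v : κ → K) :
    q (mat χ ι π σ *ᵥ u) (mat χ ι π σ *ᵥ v) = q u v := by
  rw [mat_mulVec, mat_mulVec, ← Matrix.mulVec_smul, ← Matrix.mulVec_smul, D.form, D.form]
  obtain ⟨c, hc, hc0⟩ := D.corr _ (D.sum_perm σ u)
  obtain ⟨d, hd, hd0⟩ := D.corr _ (D.sum_perm σ v)
  have hs : ∀ (x : Fin n → K) (e : K), ∑ i, x i = 0 → ι *ᵥ (π *ᵥ x) = x + (fun _ => e) → ∑ _i : Fin n, e = 0 := fun x e hx he => by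
    have h := D.sum (π *ᵥ x)
    rw [he] at h
    simpa [Finset.sum_add_distrib, hx] using h
  rw [hc, hd, D.shift _ _ c d (D.sum_perm σ u) (D.sum_perm σ v) (hs _ _ (D.sum_perm σ u) hc) (hs _ _ (D.sum_perm σ v) hd), D.perm]

/-- The representation over `F`. -/
noncomputable def hom (D : Data χ ι π R q) {F : Type*} [Field F] (φ : K ≃+* F) : Equiv.Perm (Fin n) →* GL κ F :=
  MonoidHom.toHomUnits
    { toFun := fun σ => (φ : K →+* F).mapMatrix (mat χ ι π σ)
      map_one' := by rw [D.mat_one, map_one]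
      map_mul' := fun σ τ => by rw [D.mat_mul, map_mul] }

lemma coe_hom (D : Data χ ι π R q) {F : Type*} [Field F] (φ : K ≃+* F) (σ : Equiv.Perm (Fin n)) :
    (D.hom φ σ : Matrix κ κ F) = (mat χ ι π σ).map φ := rfl

lemma hom_form (D : Data χ ι π R q) {F : Type*} [Field F] (φ : K ≃+* F) (qF : (κ → F) → (κ → F) → F)
    (hq : ∀ u v : κ → K, qF (φ ∘ u) (φ ∘ v) = φ (q u v)) (σ : Equiv.Perm (Fin n)) (x y : κ → F) :
    qF ((D.hom φ σ : Matrix κ κ F) *ᵥ x) ((D.hom φ σ : Matrix κ κ F) *ᵥ y) = qF x y := by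
  have key : ∀ u : κ → K, (D.hom φ σ : Matrix κ κ F) *ᵥ (φ ∘ u) = φ ∘ (mat χ ι π σ *ᵥ u) := fun u => by
    funext i
    exact (RingHom.map_mulVec (φ : K →+* F) _ u i).symm
  rw [show x = φ ∘ (φ.symm ∘ x) from funext fun i => (φ.apply_symm_apply _).symm,
    show y = φ ∘ (φ.symm ∘ y) from funext fun i => (φ.apply_symm_apply _).symm, key, key, hq, hq, D.mat_form]

lemma hom_injective (D : Data χ ι π R q) {F : Type*} [Field F] (φ : K ≃+* F) (hn : 5 ≤ n) {τ : Equiv.Perm (Fin n)}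
    (hτ : Equiv.Perm.sign τ = 1) (hne : mat χ ι π τ ≠ 1) : Function.Injective (D.hom φ) := by
  rw [← MonoidHom.ker_eq_bot_iff]
  by_contra h
  have := Equiv.Perm.alternatingGroup_le_of_normal (α := Fin n) (by simpa using hn) ((D.hom φ).ker.nontrivial_iff_ne_bot.2 h)
  have h2 : D.hom φ τ = 1 := this hτ
  refine hne (Matrix.map_injective φ.injective ?_)
  simp only [← D.coe_hom φ τ, h2, Units.val_one, Matrix.map_one, map_zero, map_one]

end Data

/-- The prime field as an abstract field of that order. -/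
lemma exists_equiv {p : ℕ} [Fact p.Prime] {F : Type*} [Field F] [Fintype F] (hF : Fintype.card F = p) :
    Nonempty (ZMod p ≃+* F) := by
  haveI := charP_of_card_eq_prime hF
  exact ⟨RingEquiv.ofBijective (ZMod.castHom dvd_rfl F)
    ((Fintype.bijective_iff_injective_and_card _).2 ⟨RingHom.injective _, by rw [ZMod.card, hF]⟩)⟩

lemma nonempty_mulEquiv {G H : Type*} [Group G] [Group H] [Finite H] (f : G →* H) (hf : Function.Injective f)
    (hc : Nat.card G = Nat.card H) : Nonempty (H ≃* G) := by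
  haveI := Finite.of_injective f hf
  exact ⟨(MulEquiv.ofBijective f ((Nat.bijective_iff_injective_and_card f).2 ⟨hf, hc⟩)).symm⟩

end Cfsg.Lib.Classical.PermModule
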