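import Mathlib
import Cfsg.Agent.Lib.Classical.LinearOrders
import Cfsg.Agent.Lib.Classical.SLGroup
import Cfsg.Agent.Lib.Classical.PermModule

/-!
`PSL_2(7) ≅ GL_3(2)`: the projective line over seven elements as an affine space.
-/

set_option autoImplicit false

namespace Cfsg.Lib.Classical.PSLSeven

open Matrix

local instance : Fact (Nat.Prime 7) := ⟨by norm_num⟩
local instance : Fact (Nat.Prime 2) := ⟨Nat.prime_two⟩

abbrev G := Matrix.SpecialLinearGroup (Fin 2) (ZMod 7)
abbrev V := Fin 3 → ZMod 2

/-- Labelling of the projective line. -/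
def lab : OnePoint (ZMod 7) → V
  | none => ![0, 0, 0]
  | some x => (![![1, 0, 0], ![0, 1, 0], ![0, 0, 1], ![1, 1, 0], ![0, 1, 1], ![1, 1, 1], ![1, 0, 1]] : Fin 7 → V) x

/-- The inverse labelling. -/
def unlab (v : V) : OnePoint (ZMod 7) :=
  if v = ![0, 0, 0] then none else if v = ![1, 0, 0] then some 0 else if v = ![0, 1, 0] then some 1 else
  if v = ![0, 0, 1] then some 2 else if v = ![1, 1, 0] then some 3 else if v = ![0, 1, 1] then some 4 else
  if v = ![1, 1, 1] then some 5 else some 6

instance : DecidableEq (OnePoint (ZMod 7)) := inferInstanceAs (DecidableEq (Option (ZMod 7)))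
instance : Fintype (OnePoint (ZMod 7)) := inferInstanceAs (Fintype (Option (ZMod 7)))

/-- The labelling as an equivalence. -/
def labEquiv : OnePoint (ZMod 7) ≃ V where
  toFun := lab
  invFun := unlab
  left_inv := show ∀ x, unlab (lab x) = x by decide +kernel
  right_inv := by decide +kernel

/-- Moebius transformations without division. -/
def mob (g : Matrix (Fin 2) (Fin 2) (ZMod 7)) : OnePoint (ZMod 7) → OnePoint (ZMod 7)
  | none => if g 1 0 = 0 then none else some (g 0 0 * g 1 0 ^ 5)
  | some x => if g 1 0 * x + g 1 1 = 0 then none else some ((g 0 0 * x + g 0 1) * (g 1 0 * x + g 1 1) ^ 5)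

lemma inv_eq_pow {x : ZMod 7} (hx : x ≠ 0) : x⁻¹ = x ^ 5 :=
  inv_eq_of_mul_eq_one_right (by revert x; decide +kernel)

/-- The permutation of the labels. -/
noncomputable def act : G →* Equiv.Perm V :=
  (labEquiv.permCongrHom.toMonoidHom.comp (MulAction.toPermHom (GL (Fin 2) (ZMod 7)) (OnePoint (ZMod 7)))).comp
    Matrix.SpecialLinearGroup.toGL

lemma act_apply (g : G) (v : V) : act g v = lab (mob g.1 (unlab v)) := by
  show lab (Matrix.SpecialLinearGroup.toGL g • unlab v) = _
  congr 1
  generalize unlab v = x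
  cases x with
  | infty =>
    rw [OnePoint.smul_infty_eq_ite]
    show (if g.1 1 0 = 0 then OnePoint.infty else ((g.1 0 0 / g.1 1 0 : ZMod 7) : OnePoint (ZMod 7))) =
      if g.1 1 0 = 0 then OnePoint.infty else ((g.1 0 0 * g.1 1 0 ^ 5 : ZMod 7) : OnePoint (ZMod 7))
    split_ifs with h1
    · rfl
    · rw [div_eq_mul_inv, inv_eq_pow h1]
  | coe x =>
    rw [OnePoint.smul_some_eq_ite]
    show (if g.1 1 0 * x + g.1 1 1 = 0 then OnePoint.infty else (((g.1 0 0 * x + g.1 0 1) / (g.1 1 0 * x + g.1 1 1) : ZMod 7) : OnePoint (ZMod 7))) =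
      if g.1 1 0 * x + g.1 1 1 = 0 then OnePoint.infty else (((g.1 0 0 * x + g.1 0 1) * (g.1 1 0 * x + g.1 1 1) ^ 5 : ZMod 7) : OnePoint (ZMod 7))
    split_ifs with h1
    · rfl
    · rw [div_eq_mul_inv, inv_eq_pow h1]

/-- Affine permutations. -/
def affine : Subgroup (Equiv.Perm V) where
  carrier := {t | ∀ x y, t (x + y) + t 0 = t x + t y}
  one_mem' x y := by simp
  mul_mem' {s t} hs ht x y := by
    show s (t (x + y)) + s (t 0) = s (t x) + s (t y)
    have k : ∀ a b c : V, s (a + b + c) = s a + s b + s c := fun a b c => by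
      have h1 := hs (a + b) c
      have h2 := hs a b
      have z : ∀ u : V, u + u = 0 := fun u => CharTwo.add_self_eq_zero u
      linear_combination (norm := (ring_nf; simp [CharTwo.two_eq_zero])) h1 + h2
    have := k (t x) (t y) (t 0)
    rw [show t x + t y + t 0 = t (x + y) by rw [← ht x y]; ext i; simp [add_assoc, CharTwo.add_self_eq_zero]] at this
    rw [this]
    ext i
    simp [add_assoc, CharTwo.add_self_eq_zero]
  inv_mem' {t} ht x y := by
    apply t.injective
    show t (t⁻¹ (x + y) + t⁻¹ 0) = t (t⁻¹ x + t⁻¹ y)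
    have e : ∀ a b : V, t (a + b) = t a + t b + t 0 := fun a b => by rw [← ht a b]; ext i; simp [add_assoc, CharTwo.add_self_eq_zero]
    rw [e, e]
    simp

lemma act_mem (g : G) : act g ∈ affine := by
  have h : affine.comap act = ⊤ := Cfsg.Lib.Classical.SLGroup.eq_top_of_transvection _ fun i j hij c => by
    intro x y
    simp only [act_apply]
    show lab (mob (Matrix.transvection i j c) _) + lab (mob (Matrix.transvection i j c) _) = lab (mob (Matrix.transvection i j c) _) + lab (mob (Matrix.transvection i j c) _)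
    revert i j c x y
    decide +kernel
  have := (h ▸ Subgroup.mem_top g : g ∈ affine.comap act)
  exact this

/-- Linear part of an affine permutation. -/
noncomputable def linPart : affine →* GL (Fin 3) (ZMod 2) :=
  MonoidHom.toHomUnits
  { toFun := fun t => LinearMap.toMatrix' ((AddMonoidHom.mk' (fun v => t.1 v + t.1 0) fun x y => by
      rw [show t.1 (x + y) = t.1 x + t.1 y + t.1 0 by rw [← t.2 x y]; ext i; simp [add_assoc, CharTwo.add_self_eq_zero]]
      ext i; simp [add_assoc, add_left_comm, CharTwo.add_self_eq_zero, add_comm]).toZModLinearMap 2)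
    map_one' := by
      rw [← LinearMap.toMatrix'_id]
      congr 1
      refine LinearMap.ext fun v => ?_
      show v + 0 = v
      simp
    map_mul' := fun s t => by
      rw [← LinearMap.toMatrix'_comp]
      congr 1
      refine LinearMap.ext fun v => ?_
      show s.1 (t.1 v) + s.1 (t.1 0) = s.1 (t.1 v + t.1 0) + s.1 0
      exact (s.2 _ _).symm }

/-- `SL_2(7) → GL_3(2)`. -/
noncomputable def hom : G →* GL (Fin 3) (ZMod 2) := linPart.comp (act.codRestrict affine act_mem)

lemma center_le : Subgroup.center G ≤ hom.ker := by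
  intro z hz
  obtain ⟨r, hr, he⟩ := Matrix.SpecialLinearGroup.mem_center_iff.1 hz
  have h1 : act z = 1 := by
    refine Equiv.ext fun v => ?_
    rw [act_apply, ← he]
    simp only [Fintype.card_fin] at hr
    show lab (mob (Matrix.scalar (Fin 2) r) (unlab v)) = v
    clear he
    revert r v
    decide +kernel
  have : act.codRestrict affine act_mem z = 1 := Subtype.ext h1
  show linPart _ = 1
  rw [this, map_one]

theorem nonempty_equiv :
    Nonempty (Matrix.ProjectiveSpecialLinearGroup (Fin 2) (ZMod 7) ≃* GL (Fin 3) (ZMod 2)) := by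
  let f : Matrix.ProjectiveSpecialLinearGroup (Fin 2) (ZMod 7) →* GL (Fin 3) (ZMod 2) := QuotientGroup.lift _ hom center_le
  haveI := Cfsg.Lib.Classical.SLGroup.isSimpleGroup_psl (F := ZMod 7) (ι := Fin 2) (Or.inr ⟨3, by decide, by decide⟩)
  have hinj : Function.Injective f := by
    rw [← MonoidHom.ker_eq_bot_iff]
    refine (MonoidHom.normal_ker f).eq_bot_or_eq_top.resolve_right fun htop => ?_
    let t : G := ⟨Matrix.transvection 0 1 1, Matrix.det_transvection_of_ne _ _ (by decide) _⟩
    have h : f (QuotientGroup.mk t) = 1 := (MonoidHom.mem_ker).1 (htop ▸ Subgroup.mem_top _)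
    have h' := congrArg (fun m : GL (Fin 3) (ZMod 2) => (m : Matrix (Fin 3) (Fin 3) (ZMod 2)) 1 0) h
    change act t (Pi.single (0 : Fin 3) 1) 1 + act t 0 1 = (1 : Matrix (Fin 3) (Fin 3) (ZMod 2)) 1 0 at h'
    rw [act_apply, act_apply] at h'
    revert h'
    decide +kernel
  have hc : Nat.card (Matrix.ProjectiveSpecialLinearGroup (Fin 2) (ZMod 7)) = Nat.card (GL (Fin 3) (ZMod 2)) := by
    have h1 := Cfsg.Lib.Classical.LinearOrders.card_psl_mul (F := ZMod 7) (n := 2) (by norm_num)
    have h2 := Cfsg.Lib.Classical.LinearOrders.card_sl_mul (F := ZMod 7) (n := 2) (by norm_num)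
    rw [Matrix.card_GL_field]
    simp [Fin.prod_univ_two, Fin.prod_univ_three] at h1 h2 ⊢
    omega
  exact ⟨MulEquiv.ofBijective f ((Nat.bijective_iff_injective_and_card f).2 ⟨hinj, hc⟩)⟩

/-- Transport of `SL` along a ring isomorphism. -/
lemma sl_congr (n : ℕ) {A B : Type*} [CommRing A] [CommRing B] (φ : A ≃+* B) :
    Nonempty (Matrix.SpecialLinearGroup (Fin n) A ≃* Matrix.SpecialLinearGroup (Fin n) B) := by
  refine ⟨MonoidHom.toMulEquiv (Matrix.SpecialLinearGroup.map (φ : A →+* B)) (Matrix.SpecialLinearGroup.map (φ.symm : B →+* A)) ?_ ?_⟩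
  · ext g i j; simp
  · ext g i j; simp

lemma psl_congr (n : ℕ) {A B : Type*} [CommRing A] [CommRing B] (φ : A ≃+* B) :
    Nonempty (Matrix.ProjectiveSpecialLinearGroup (Fin n) A ≃* Matrix.ProjectiveSpecialLinearGroup (Fin n) B) := by
  obtain ⟨e⟩ := sl_congr n φ
  refine ⟨QuotientGroup.congr _ _ e ?_⟩
  ext x
  constructor
  · rintro ⟨y, hy, rfl⟩
    refine Subgroup.mem_center_iff.2 fun g => e.symm.injective ?_
    simpa using Subgroup.mem_center_iff.1 hy (e.symm g)
  · intro hx
    refine ⟨e.symm x, Subgroup.mem_center_iff.2 fun g => e.injective ?_, by simp⟩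
    simpa using Subgroup.mem_center_iff.1 hx (e g)

end Cfsg.Lib.Classical.PSLSeven
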