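-- Helper library: elements of order four in SL(2, F) and Klein four subgroups of PSL(2, F), q odd.
import Mathlib
import Cfsg.Agent.Lib.Fusion.PSLTwo
import Cfsg.Agent.Lib.Classical.LinearOrders

set_option autoImplicit false

open scoped Classical
open Matrix

namespace Cfsg.Lib.PSLTwoOdd

open Cfsg.Lib.Fusion.PSLTwo

variable {F : Type*} [Field F]

local notation "SL2" => Matrix.SpecialLinearGroup (Fin 2) F
local notation "PSL2" => Matrix.ProjectiveSpecialLinearGroup (Fin 2) F
local notation "π" => QuotientGroup.mk' (Subgroup.center (Matrix.SpecialLinearGroup (Fin 2) F))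

/-- The points of a circle. -/
abbrev Circ (F : Type*) [Field F] (e : F) : Type _ := {p : F × F // p.1 ^ 2 + p.2 ^ 2 = e}

/-- Multiplication of circles. -/
lemma card_circ_neg [Finite F] [NeZero (2 : F)] : Nat.card (Circ F (-1)) = Nat.card (Circ F 1) := by
  classical
  haveI := Fintype.ofFinite F
  obtain ⟨v, w, h⟩ := exists_rep (F := F) 0 1 (-1) 0 (by ring) (by ring)
  have h0 : v ^ 2 + w ^ 2 = -1 := by linear_combination -h
  refine (Nat.card_congr ?_).symm
  refine
    { toFun := fun p => ⟨(v * p.1.1 - w * p.1.2, v * p.1.2 + w * p.1.1), by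
        have := p.2
        linear_combination (p.1.1 ^ 2 + p.1.2 ^ 2) * h0 + (-1) * this⟩
      invFun := fun p => ⟨(-(v * p.1.1 + w * p.1.2), -(v * p.1.2 - w * p.1.1)), by
        have := p.2
        linear_combination (p.1.1 ^ 2 + p.1.2 ^ 2) * h0 + (-1) * this⟩
      left_inv := fun p => Subtype.ext (Prod.ext (by show _ = _; linear_combination (-p.1.1) * h0) (by show _ = _; linear_combination (-p.1.2) * h0))
      right_inv := fun p => Subtype.ext (Prod.ext (by show _ = _; linear_combination (-p.1.1) * h0) (by show _ = _; linear_combination (-p.1.2) * h0)) }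

lemma card_circ [Fintype F] [NeZero (2 : F)] :
    (Fintype.card F % 4 = 1 → Nat.card (Circ F 1) = Fintype.card F - 1) ∧
    (Fintype.card F % 4 = 3 → Nat.card (Circ F 1) = Fintype.card F + 1) := by
  classical
  have h2 : (2 : F) ≠ 0 := two_ne_zero
  let e : Option {t : F // 1 + t ^ 2 ≠ 0} ≃ Circ F 1 :=
    { toFun := fun o => o.elim ⟨(-1, 0), by ring⟩ fun t => ⟨((1 - t.1 ^ 2) / (1 + t.1 ^ 2), 2 * t.1 / (1 + t.1 ^ 2)), by
        have := t.2
        field_simp
        ring⟩
      invFun := fun p => if h : 1 + p.1.1 = 0 then none else some ⟨p.1.2 / (1 + p.1.1), by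
        have hp := p.2
        intro h0
        apply h2
        field_simp at h0
        have : (2 : F) * (1 + p.1.1) = 0 := by linear_combination h0 - hp
        exact (mul_eq_zero.1 this).resolve_right h⟩
      left_inv := by
        rintro (_ | ⟨t, ht⟩)
        · simp
        · have hne : 1 + (1 - t ^ 2) / (1 + t ^ 2) ≠ 0 := by
            intro h
            field_simp at h
            exact h2 (by linear_combination h)
          simp only [Option.elim]
          refine (dif_neg hne).trans (congrArg some (Subtype.ext ?_))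
          show _ = t
          field_simp
          ring_nf
          rw [mul_assoc, inv_mul_cancel₀ h2, mul_one]
      right_inv := fun p => by
        have hp := p.2
        by_cases h : 1 + p.1.1 = 0
        · have hb : p.1.2 = 0 := sq_eq_zero_iff.1 (by linear_combination hp + (1 - p.1.1) * h)
          simp only [dif_pos h, Option.elim]
          exact Subtype.ext (Prod.ext (by show _ = _; linear_combination -h) hb.symm)
        · simp only [dif_neg h, Option.elim]
          have h3 : (1 + p.1.1) ^ 2 + p.1.2 ^ 2 ≠ 0 := by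
            intro h0
            exact mul_ne_zero h2 h (by linear_combination h0 - hp)
          refine Subtype.ext (Prod.ext ?_ ?_) <;> show _ = _ <;> field_simp
          · linear_combination (-1 - p.1.1) * hp
          · linear_combination (-p.1.2) * hp }
  have hc : Nat.card {t : F // 1 + t ^ 2 ≠ 0} + Nat.card {t : F // t ^ 2 = -1} = Fintype.card F := by
    rw [← Nat.card_eq_fintype_card (α := F), ← Nat.card_sum]
    refine Nat.card_congr (((Equiv.refl _).sumCongr (Equiv.subtypeEquivRight fun t => ?_)).trans ((Equiv.sumComm _ _).trans (Equiv.sumCompl _)))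
    exact ⟨fun h => by rw [h]; ring, fun h => by linear_combination h⟩
  have hcirc : Nat.card (Circ F 1) = Nat.card {t : F // 1 + t ^ 2 ≠ 0} + 1 := by
    rw [← Nat.card_congr e, Finite.card_option]
  constructor
  · intro hq
    obtain ⟨i, hi⟩ : IsSquare (-1 : F) := FiniteField.isSquare_neg_one_iff.2 (by omega)
    have : Nat.card {t : F // t ^ 2 = -1} = 2 := by
      have hne : i ≠ -i := fun h => by
        have : i = 0 := (mul_eq_zero.1 (show (2 : F) * i = 0 by linear_combination h)).resolve_left h2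
        rw [this] at hi; simp at hi
      have hs : {t : F | t ^ 2 = -1} = {i, -i} := by
        ext t
        simp only [Set.mem_ofPred_eq, Set.mem_insert_iff, Set.mem_singleton_iff]
        rw [hi, ← pow_two, sq_eq_sq_iff_eq_or_eq_neg]
      have h3 := congrArg Set.ncard hs
      rw [Set.ncard_pair hne] at h3
      exact (Nat.card_coe_set_eq _).trans h3
    omega
  · intro hq
    have hn : ¬ IsSquare (-1 : F) := fun h => by have := FiniteField.isSquare_neg_one_iff.1 h; omega
    haveI : IsEmpty {t : F // t ^ 2 = -1} := ⟨fun t => hn ⟨t.1, by have := t.2; linear_combination -this⟩⟩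
    have : Nat.card {t : F // t ^ 2 = -1} = 0 := Nat.card_of_isEmpty
    omega

/-- The matrices commuting with `jay` or anticommuting with it. -/
def norJay : Circ F 1 ⊕ Circ F (-1) → SL2 :=
  Sum.elim (fun p => ⟨!![p.1.1, -p.1.2; p.1.2, p.1.1], by rw [Matrix.det_fin_two_of]; linear_combination p.2⟩)
    (fun p => ⟨!![p.1.1, p.1.2; p.1.2, -p.1.1], by rw [Matrix.det_fin_two_of]; linear_combination -p.2⟩)

@[simp] lemma coe_norJay_inl (p : Circ F 1) :
    ((norJay (Sum.inl p) : SL2) : Matrix (Fin 2) (Fin 2) F) = !![p.1.1, -p.1.2; p.1.2, p.1.1] := rfl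

@[simp] lemma coe_norJay_inr (p : Circ F (-1)) :
    ((norJay (Sum.inr p) : SL2) : Matrix (Fin 2) (Fin 2) F) = !![p.1.1, p.1.2; p.1.2, -p.1.1] := rfl

@[simp] lemma coe_jay : ((jay : SL2) : Matrix (Fin 2) (Fin 2) F) = !![0, -1; 1, 0] := rfl

lemma norJay_injective [NeZero (2 : F)] : Function.Injective (norJay (F := F)) := by
  have h2 : (2 : F) ≠ 0 := two_ne_zero
  have hx : ∀ (p : Circ F 1) (r : Circ F (-1)), norJay (Sum.inl p) ≠ norJay (Sum.inr r) := by
    intro p r h
    have e := fun i j => congrFun (congrFun (congrArg Subtype.val h) i) j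
    have e00 := e 0 0; have e01 := e 0 1; have e10 := e 1 0; have e11 := e 1 1
    simp at e00 e01 e10 e11
    have a0 : p.1.1 = 0 := (mul_eq_zero.1 (show (2 : F) * p.1.1 = 0 by linear_combination e00 + e11)).resolve_left h2
    have b0 : p.1.2 = 0 := (mul_eq_zero.1 (show (2 : F) * p.1.2 = 0 by linear_combination e10 - e01)).resolve_left h2
    have := p.2
    rw [a0, b0] at this
    simp at this
  rintro (p | p) (r | r) h
  · have e := fun i j => congrFun (congrFun (congrArg Subtype.val h) i) j
    have e00 := e 0 0; have e10 := e 1 0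
    simp at e00 e10
    exact congrArg Sum.inl (Subtype.ext (Prod.ext e00 e10))
  · exact absurd h (hx p r)
  · exact absurd h.symm (hx r p)
  · have e := fun i j => congrFun (congrFun (congrArg Subtype.val h) i) j
    have e00 := e 0 0; have e10 := e 1 0
    simp at e00 e10
    exact congrArg Sum.inr (Subtype.ext (Prod.ext e00 e10))

lemma comm_iff (g : SL2) : g * jay = jay * g ↔ ∃ p, norJay (Sum.inl p) = g := by
  constructor
  · intro h
    have hm : (g : Matrix (Fin 2) (Fin 2) F) * ((jay : SL2) : Matrix (Fin 2) (Fin 2) F) = ((jay : SL2) : Matrix (Fin 2) (Fin 2) F) * g := by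
      rw [← Matrix.SpecialLinearGroup.coe_mul, h, Matrix.SpecialLinearGroup.coe_mul]
    have e00 := congrFun (congrFun hm 0) 0; have e01 := congrFun (congrFun hm 0) 1
    simp [Matrix.mul_apply, Fin.sum_univ_two] at e00 e01
    have hd := g.det_coe
    rw [Matrix.det_fin_two] at hd
    refine ⟨⟨(g 0 0, g 1 0), by linear_combination hd + (g 1 0) * e00 - (g 0 0) * (-e01)⟩, ?_⟩
    apply Subtype.ext; ext i j
    fin_cases i <;> fin_cases j <;> simp
    · linear_combination -e00
    · first | linear_combination -e01 | linear_combination e01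
  · rintro ⟨p, rfl⟩
    apply Subtype.ext
    rw [Matrix.SpecialLinearGroup.coe_mul, Matrix.SpecialLinearGroup.coe_mul]
    ext i j
    fin_cases i <;> fin_cases j <;> simp [Matrix.mul_apply, Fin.sum_univ_two]

lemma anti_iff (g : SL2) : g * jay = -(jay * g) ↔ ∃ p, norJay (Sum.inr p) = g := by
  constructor
  · intro h
    have hm : (g : Matrix (Fin 2) (Fin 2) F) * ((jay : SL2) : Matrix (Fin 2) (Fin 2) F) = -(((jay : SL2) : Matrix (Fin 2) (Fin 2) F) * g) := by
      rw [← Matrix.SpecialLinearGroup.coe_mul, h, Matrix.SpecialLinearGroup.coe_neg, Matrix.SpecialLinearGroup.coe_mul]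
    have e00 := congrFun (congrFun hm 0) 0; have e01 := congrFun (congrFun hm 0) 1
    simp [Matrix.mul_apply, Matrix.neg_apply, Matrix.vecMul, dotProduct, Fin.sum_univ_two] at e00 e01
    have hd := g.det_coe
    rw [Matrix.det_fin_two] at hd
    refine ⟨⟨(g 0 0, g 1 0), by linear_combination -hd + (-(g 1 0)) * e00 - (g 0 0) * e01⟩, ?_⟩
    apply Subtype.ext; ext i j
    fin_cases i <;> fin_cases j <;> simp
    · first | linear_combination -e00 | linear_combination e00
    · first | linear_combination e01 | linear_combination -e01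
  · rintro ⟨p, rfl⟩
    apply Subtype.ext
    rw [Matrix.SpecialLinearGroup.coe_neg, Matrix.SpecialLinearGroup.coe_mul, Matrix.SpecialLinearGroup.coe_mul]
    ext i j
    fin_cases i <;> fin_cases j <;> simp [Matrix.mul_apply, Fin.sum_univ_two]

lemma jay_sq : (jay : SL2) ^ 2 = -1 := by
  rw [pow_two]
  apply Subtype.ext
  rw [Matrix.SpecialLinearGroup.coe_mul]
  ext i j
  fin_cases i <;> fin_cases j <;> simp [Matrix.mul_apply, Fin.sum_univ_two]

lemma jay_inv : (jay : SL2)⁻¹ = -jay :=
  inv_eq_of_mul_eq_one_right (by rw [mul_neg, ← pow_two, jay_sq, neg_neg])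

lemma neg_one_ne_one [NeZero (2 : F)] : (-1 : SL2) ≠ 1 := by
  intro h
  have := congrFun (congrFun (congrArg Subtype.val h) 0) 0
  simp at this
  exact two_ne_zero (α := F) (by linear_combination -this)

lemma orderOf_of_sq [NeZero (2 : F)] {A : SL2} (h : A ^ 2 = -1) : orderOf A = 4 := by
  refine orderOf_eq_prime_pow (p := 2) (n := 1) ?_ ?_
  · rw [pow_one, h]; exact neg_one_ne_one
  · rw [show 2 ^ (1 + 1) = 2 * 2 by norm_num, pow_mul, h, pow_two, neg_mul_neg, one_mul]

lemma mem_normalizer_jay [Finite F] [NeZero (2 : F)] (g : SL2) :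
    g ∈ Subgroup.normalizer ((Subgroup.zpowers (jay : SL2) : Subgroup SL2) : Set SL2) ↔ g ∈ Set.range (norJay (F := F)) := by
  haveI : Finite SL2 := inferInstance
  constructor
  · intro hg
    have h1 : g * jay * g⁻¹ ∈ Subgroup.zpowers (jay : SL2) := (Subgroup.mem_normalizer_iff.1 hg jay).1 (Subgroup.mem_zpowers _)
    rw [mem_zpowers_iff_mem_range_orderOf, orderOf_of_sq jay_sq] at h1
    obtain ⟨k, hk, e⟩ := Finset.mem_image.1 h1
    have ho : orderOf (g * jay * g⁻¹) = 4 := by
      rw [show g * jay * g⁻¹ = (MulAut.conj g).toMonoidHom jay by simp, orderOf_injective (MulAut.conj g).toMonoidHom (MulEquiv.injective _)]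
      exact orderOf_of_sq jay_sq
    rw [Finset.mem_range] at hk
    rw [← e] at ho
    interval_cases k
    · rw [pow_zero, orderOf_one] at ho; omega
    · rw [pow_one] at e
      obtain ⟨p, hp⟩ := (comm_iff g).1 (by conv_rhs => rw [e, inv_mul_cancel_right])
      exact ⟨_, hp⟩
    · rw [jay_sq] at ho
      have : orderOf (-1 : SL2) ∣ 2 := orderOf_dvd_of_pow_eq_one (by rw [pow_two, neg_mul_neg, one_mul])
      rw [ho] at this; omega
    · rw [show (jay : SL2) ^ 3 = -jay by rw [pow_succ, jay_sq, neg_mul, one_mul]] at e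
      obtain ⟨p, hp⟩ := (anti_iff g).1 (by rw [← neg_mul, e, inv_mul_cancel_right])
      exact ⟨_, hp⟩
  · have key : ∀ g : SL2, g ∈ Set.range (norJay (F := F)) → ∀ x ∈ Subgroup.zpowers (jay : SL2), g * x * g⁻¹ ∈ Subgroup.zpowers (jay : SL2) := by
      rintro g ⟨s, rfl⟩ _ ⟨k, rfl⟩
      have h1 : norJay s * jay * (norJay s)⁻¹ ∈ Subgroup.zpowers (jay : SL2) := by
        rcases s with p | p
        · rw [(comm_iff _).2 ⟨p, rfl⟩, mul_inv_cancel_right]; exact Subgroup.mem_zpowers _
        · rw [(anti_iff _).2 ⟨p, rfl⟩, neg_mul, mul_inv_cancel_right, ← jay_inv]; exact inv_mem (Subgroup.mem_zpowers _)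
      have := Subgroup.zpow_mem _ h1 k
      rwa [show norJay s * jay * (norJay s)⁻¹ = MulAut.conj (norJay s) jay by simp, ← map_zpow] at this
    intro hg
    have : (Subgroup.zpowers (jay : SL2)).map (MulAut.conj g).toMonoidHom = Subgroup.zpowers (jay : SL2) := by
      refine Subgroup.eq_of_le_of_card_ge (by rintro _ ⟨x, hx, rfl⟩; exact key g hg x hx) ?_
      rw [Subgroup.card_map_of_injective (MulEquiv.injective _)]
    rw [Subgroup.mem_normalizer_iff]
    intro x
    refine ⟨key g hg x, fun hx => ?_⟩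
    rw [← this] at hx
    obtain ⟨y, hy, e⟩ := hx
    rwa [show x = y from (MulAut.conj g).injective (by simpa using e.symm)]

lemma card_normalizer_jay [Finite F] [NeZero (2 : F)] :
    Nat.card (Subgroup.normalizer ((Subgroup.zpowers (jay : SL2) : Subgroup SL2) : Set SL2)) = 2 * Nat.card (Circ F 1) := by
  have h : ((Subgroup.normalizer ((Subgroup.zpowers (jay : SL2) : Subgroup SL2) : Set SL2) : Subgroup SL2) : Set SL2) = Set.range (norJay (F := F)) :=
    Set.ext mem_normalizer_jay
  rw [← SetLike.coe_sort_coe, h, Nat.card_range_of_injective norJay_injective, Nat.card_sum, card_circ_neg, two_mul]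

/-- Subgroups of order four of `SL(2, F)` are conjugate to `⟨jay⟩`. -/
theorem exists_conj_zpowers_jay [Finite F] [NeZero (2 : F)] (A : Subgroup SL2) (hA : Nat.card A = 4) :
    ∃ M : SL2, A = (Subgroup.zpowers (jay : SL2)).map (MulAut.conj M).toMonoidHom := by
  obtain ⟨x, hx, hx2⟩ : ∃ x ∈ A, x ^ 2 = -1 := by
    by_contra h
    push Not at h
    have hsub : (A : Set SL2) ⊆ {1, -1} := fun x hx => by
      have h4 : x ^ 4 = 1 := by
        have := orderOf_dvd_of_pow_eq_one (congrArg Subtype.val (pow_card_eq_one' (x := (⟨x, hx⟩ : A))) : x ^ Nat.card A = 1)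
        rw [hA] at this
        exact orderOf_dvd_iff_pow_eq_one.1 this
      rcases sq_cases (x ^ 2) (by rw [← pow_mul]; exact h4) with e | e
      · exact sq_cases x e
      · exact absurd e (h x hx)
    have := Set.ncard_le_ncard hsub
    rw [← Nat.card_coe_set_eq] at this
    simp only [SetLike.coe_sort_coe, hA] at this
    have h2 : ({1, -1} : Set SL2).ncard ≤ 2 := by
      calc _ ≤ ({-1} : Set SL2).ncard + 1 := Set.ncard_insert_le _ _
        _ = 2 := by rw [Set.ncard_singleton]
    omega
  obtain ⟨M, hM⟩ := conj_jay x hx2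
  refine ⟨M, (Subgroup.eq_of_le_of_card_ge ?_ ?_).symm⟩
  · rintro _ ⟨_, ⟨k, rfl⟩, rfl⟩
    have : MulAut.conj M jay = x := by rw [MulAut.conj_apply, ← hM, mul_inv_cancel_right]
    show MulAut.conj M (jay ^ k) ∈ A
    rw [map_zpow, this]
    exact zpow_mem hx k
  · rw [Subgroup.card_map_of_injective (MulEquiv.injective _), Nat.card_zpowers, orderOf_of_sq jay_sq, hA]

/-! ### Projective group -/

lemma card_center_two [Fintype F] [NeZero (2 : F)] : Nat.card (Subgroup.center SL2) = 2 := by
  have h : ((Subgroup.center SL2 : Subgroup SL2) : Set SL2) = {1, -1} := by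
    ext x
    simp only [SetLike.mem_coe, Set.mem_insert_iff, Set.mem_singleton_iff]
    exact ⟨eq_of_mem_center, fun h => h.elim (fun e => e ▸ one_mem _) (fun e => e ▸ neg_one_mem_center)⟩
  rw [← SetLike.coe_sort_coe, h, Nat.card_coe_set_eq, Set.ncard_pair neg_one_ne_one.symm]

lemma card_preimage [Fintype F] [NeZero (2 : F)] (S : Set PSL2) :
    Nat.card ↥((π) ⁻¹' S) = 2 * Nat.card S := by
  have h := Nat.card_congr (QuotientGroup.preimageMkEquivSubgroupProdSet (Subgroup.center SL2) S)
  rw [Nat.card_prod, card_center_two] at h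
  exact h

lemma mk_eq_mk_iff (A B : SL2) : π A = π B ↔ A = B ∨ A = -B := by
  rw [QuotientGroup.mk'_eq_mk']
  constructor
  · rintro ⟨z, hz, rfl⟩
    rcases eq_of_mem_center hz with rfl | rfl
    · left; rw [mul_one]
    · right; rw [mul_neg, mul_one, neg_neg]
  · rintro (rfl | rfl)
    · exact ⟨1, one_mem _, mul_one _⟩
    · exact ⟨-1, neg_one_mem_center, by rw [mul_neg, mul_one, neg_neg]⟩

lemma orderOf_mk_eq_two [NeZero (2 : F)] (A : SL2) : orderOf (π A) = 2 ↔ A ^ 2 = -1 := by
  rw [orderOf_eq_prime_iff (p := 2), ← map_pow]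
  constructor
  · rintro ⟨h1, h2⟩
    rw [← map_one (π), mk_eq_mk_iff] at h1
    rcases h1 with h1 | h1
    · refine absurd ?_ h2
      rw [← map_one (π), mk_eq_mk_iff]
      rcases sq_cases A h1 with h | h
      · exact Or.inl h
      · exact Or.inr h
    · exact h1
  · intro h
    refine ⟨by rw [h, ← map_one (π), mk_eq_mk_iff]; exact Or.inr rfl, fun h1 => ?_⟩
    rw [← map_one (π), mk_eq_mk_iff] at h1
    rcases h1 with rfl | rfl <;> simp [neg_one_ne_one.symm, pow_two] at h

/-- Ordered pairs of distinct commuting involutions. -/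
abbrev Pairs (G : Type*) [Group G] : Type _ :=
  {p : G × G // orderOf p.1 = 2 ∧ orderOf p.2 = 2 ∧ p.1 ≠ p.2 ∧ p.1 * p.2 = p.2 * p.1}

theorem card_pairs [Fintype F] [NeZero (2 : F)] : 2 * Nat.card (Pairs PSL2) = Nat.card PSL2 := by
  set x0 : PSL2 := π jay with hx0
  have ho : orderOf x0 = 2 := (orderOf_mk_eq_two _).2 jay_sq
  let I := {x : PSL2 // orderOf x = 2}
  let Y : Set PSL2 := {y | orderOf y = 2 ∧ x0 ≠ y ∧ x0 * y = y * x0}
  have hc : ∀ x : I, ∃ c : PSL2, c * x0 * c⁻¹ = x.1 := fun x => _root_.isConj_iff.1 (isConj_involutions x0 x.1 ho x.2)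
  choose c hc using hc
  have hord : ∀ g y : PSL2, orderOf (g * y * g⁻¹) = orderOf y := fun g y => by
    rw [← MulAut.conj_apply]; exact orderOf_injective (MulAut.conj g).toMonoidHom (MulEquiv.injective _) y
  -- pairs
  let e1 : Pairs PSL2 ≃ I × Y :=
    { toFun := fun p => (⟨p.1.1, p.2.1⟩, ⟨(c ⟨p.1.1, p.2.1⟩)⁻¹ * p.1.2 * c ⟨p.1.1, p.2.1⟩, by
        obtain ⟨h1, h2, h3, h4⟩ := p.2
        set d := c ⟨p.1.1, h1⟩
        have hd : d * x0 * d⁻¹ = p.1.1 := hc _
        refine ⟨?_, ?_, ?_⟩
        · rw [← hord d, show d * (d⁻¹ * p.1.2 * d) * d⁻¹ = p.1.2 by group]; exact h2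
        · intro h; exact h3 (by rw [← hd, h]; group)
        · refine (MulAut.conj d).injective ?_
          simp only [map_mul, MulAut.conj_apply, hd]
          simpa [mul_assoc] using h4⟩)
      invFun := fun q => ⟨(q.1.1, c q.1 * q.2.1 * (c q.1)⁻¹), by
        obtain ⟨h2, h3, h4⟩ := q.2.2
        refine ⟨q.1.2, by rw [hord]; exact h2, ?_, ?_⟩
        · intro h
          refine h3 ((MulAut.conj (c q.1)).injective ?_)
          simp only [MulAut.conj_apply, hc]
          exact h
        · have := congrArg (MulAut.conj (c q.1)) h4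
          simp only [map_mul, MulAut.conj_apply, hc] at this
          exact this⟩
      left_inv := fun p => Subtype.ext (Prod.ext rfl (by simp [mul_assoc]))
      right_inv := fun q => Prod.ext rfl (Subtype.ext (by simp [mul_assoc])) }
  -- involutions
  let C : Set PSL2 := {g | g * x0 = x0 * g}
  let e2 : PSL2 ≃ I × C :=
    { toFun := fun g => (⟨g * x0 * g⁻¹, by rw [hord]; exact ho⟩,
        ⟨(c ⟨g * x0 * g⁻¹, by rw [hord]; exact ho⟩)⁻¹ * g, by
          set d := c ⟨g * x0 * g⁻¹, by rw [hord]; exact ho⟩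
          have hd : d * x0 * d⁻¹ = g * x0 * g⁻¹ := hc _
          show d⁻¹ * g * x0 = x0 * (d⁻¹ * g)
          calc d⁻¹ * g * x0 = d⁻¹ * (g * x0 * g⁻¹) * g := by group
            _ = x0 * (d⁻¹ * g) := by rw [← hd]; group⟩)
      invFun := fun q => c q.1 * q.2.1
      left_inv := fun g => by simp
      right_inv := fun q => by
        have hq : q.2.1 * x0 * q.2.1⁻¹ = x0 := by rw [show q.2.1 * x0 = x0 * q.2.1 from q.2.2, mul_inv_cancel_right]
        have e : c q.1 * q.2.1 * x0 * (c q.1 * q.2.1)⁻¹ = q.1.1 := by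
          rw [← hc q.1]
          calc _ = c q.1 * (q.2.1 * x0 * q.2.1⁻¹) * (c q.1)⁻¹ := by group
            _ = _ := by rw [hq]
        refine Prod.ext (Subtype.ext e) (Subtype.ext ?_)
        show (c _)⁻¹ * (c q.1 * q.2.1) = _
        rw [show (⟨_, _⟩ : I) = q.1 from Subtype.ext e, inv_mul_cancel_left] }
  have hY : (π) ⁻¹' Y = Set.range (fun p : Circ F (-1) => norJay (Sum.inr p)) := by
    ext g
    constructor
    · rintro ⟨h1, h2, h3⟩
      rw [orderOf_mk_eq_two] at h1
      rw [← map_mul, ← map_mul, mk_eq_mk_iff] at h3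
      rcases h3 with h3 | h3
      · exfalso
        obtain ⟨p, hp⟩ := (comm_iff g).1 h3.symm
        apply h2
        rw [hx0, mk_eq_mk_iff]
        have e00 := congrFun (congrFun (congrArg Subtype.val h1) 0) 0
        have e10 := congrFun (congrFun (congrArg Subtype.val h1) 1) 0
        rw [← hp] at e00 e10
        simp [pow_two, Matrix.mul_apply, Fin.sum_univ_two] at e00 e10
        have hpp := p.2
        have ha : p.1.1 = 0 := by
          have h2' : (2 : F) ≠ 0 := two_ne_zero
          have : (2 : F) * p.1.1 ^ 2 = 0 := by linear_combination e00 + hpp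
          exact sq_eq_zero_iff.1 ((mul_eq_zero.1 this).resolve_left h2')
        have hb : p.1.2 = 1 ∨ p.1.2 = -1 := sq_eq_one_iff.1 (by rw [ha] at hpp; linear_combination hpp)
        rcases hb with hb | hb
        · left; rw [← hp]; apply Subtype.ext; ext i j
          fin_cases i <;> fin_cases j <;> simp [ha, hb]
        · right; rw [← hp]; apply Subtype.ext; ext i j
          fin_cases i <;> fin_cases j <;> simp [ha, hb]
      · exact (anti_iff g).1 (by rw [h3, neg_neg])
    · rintro ⟨p, rfl⟩
      refine ⟨?_, ?_, ?_⟩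
      · rw [orderOf_mk_eq_two]
        apply Subtype.ext
        rw [pow_two, Matrix.SpecialLinearGroup.coe_mul]
        have hpp := p.2
        ext i j
        fin_cases i <;> fin_cases j <;> simp [Matrix.mul_apply, Fin.sum_univ_two] <;>
          (first | linear_combination hpp | ring)
      · intro h
        rw [hx0, mk_eq_mk_iff] at h
        have h2' : (2 : F) ≠ 0 := two_ne_zero
        rcases h with h | h
        all_goals
          have e01 := congrFun (congrFun (congrArg Subtype.val h) 0) 1
          have e10 := congrFun (congrFun (congrArg Subtype.val h) 1) 0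
          simp at e01 e10
          first
            | exact h2' (by linear_combination e10 - e01)
            | exact h2' (by linear_combination e01 - e10)
            | exact h2' (by linear_combination e01 + e10)
            | exact h2' (by linear_combination -e01 - e10)
      · rw [hx0, ← map_mul, ← map_mul, mk_eq_mk_iff]
        exact Or.inr (by rw [(anti_iff _).2 ⟨p, rfl⟩, neg_neg])
  have hC : (π) ⁻¹' C = Set.range (norJay (F := F)) := by
    ext g
    show π g * x0 = x0 * π g ↔ _
    rw [hx0, ← map_mul, ← map_mul, mk_eq_mk_iff, comm_iff, anti_iff]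
    exact ⟨fun h => h.elim (fun ⟨p, h⟩ => ⟨_, h⟩) (fun ⟨p, h⟩ => ⟨_, h⟩),
      fun ⟨s, h⟩ => by rcases s with p | p; exacts [Or.inl ⟨p, h⟩, Or.inr ⟨p, h⟩]⟩
  have cY := card_preimage (F := F) Y
  rw [hY, Nat.card_range_of_injective (f := fun p : Circ F (-1) => norJay (Sum.inr p)) (norJay_injective.comp Sum.inr_injective), card_circ_neg] at cY
  have cC := card_preimage (F := F) C
  rw [hC, Nat.card_range_of_injective norJay_injective, Nat.card_sum, card_circ_neg, cY] at cC
  rw [Nat.card_congr e1, Nat.card_congr e2, Nat.card_prod, Nat.card_prod, mul_left_comm]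
  congr 1
  omega

/-- The subgroup `{1, x, y, x y}`. -/
def four {G : Type*} [Group G] {x y : G} (hx : x * x = 1) (hy : y * y = 1) (hc : x * y = y * x) : Subgroup G where
  carrier := {1, x, y, x * y}
  one_mem' := by simp
  inv_mem' {a} ha := by
    have ix : x⁻¹ = x := inv_eq_of_mul_eq_one_right hx
    have iy : y⁻¹ = y := inv_eq_of_mul_eq_one_right hy
    rcases ha with rfl | rfl | rfl | rfl <;> simp [ix, iy, hc]
  mul_mem' {a b} ha hb := by
    have hxy : x * (x * y) = y := by rw [← mul_assoc, hx, one_mul]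
    have hyx : y * (y * x) = x := by rw [← mul_assoc, hy, one_mul]
    rcases ha with rfl | rfl | rfl | rfl <;> rcases hb with rfl | rfl | rfl | rfl <;>
      simp [hx, hy, hxy, hyx, hc, mul_assoc] <;> simp [← hc, hx, hy, hxy, hyx, ← mul_assoc]

/-- Klein four subgroups against pairs of commuting involutions. -/
theorem card_klein_mul_six (G : Type*) [Group G] [Finite G] :
    6 * Nat.card {V : Subgroup G // IsKleinFour V} = Nat.card (Pairs G) := by
  let S := {V : Subgroup G // IsKleinFour V}
  let T := fun V : S => {p : V.1 × V.1 // p.1 ≠ 1 ∧ p.2 ≠ 1 ∧ p.1 ≠ p.2}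
  have hT : ∀ V : S, Nat.card (T V) = 6 := by
    intro V
    haveI := V.2
    haveI := Fintype.ofFinite V.1
    rw [show T V = {p : V.1 × V.1 // p.1 ≠ 1 ∧ p.2 ≠ 1 ∧ p.1 ≠ p.2} from rfl, Nat.card_eq_fintype_card,
      Fintype.card_of_subtype (((Finset.univ : Finset V.1).erase 1).offDiag) (fun p => by simp [Finset.mem_offDiag, and_assoc]),
      Finset.offDiag_card, Finset.card_erase_of_mem (Finset.mem_univ _), Finset.card_univ, ← Nat.card_eq_fintype_card, IsKleinFour.card_four]
  have key : ∀ (V : S) (p : T V), orderOf (p.1.1 : G) = 2 ∧ orderOf (p.1.2 : G) = 2 ∧ (p.1.1 : G) ≠ p.1.2 ∧ (p.1.1 : G) * p.1.2 = p.1.2 * p.1.1 := by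
    intro V p
    haveI := V.2
    refine ⟨?_, ?_, fun h => p.2.2.2 (Subtype.ext h), ?_⟩
    · rw [Subgroup.orderOf_coe]
      exact orderOf_eq_prime (IsKleinFour.exponent_two (G := V.1) ▸ Monoid.pow_exponent_eq_one _) p.2.1
    · rw [Subgroup.orderOf_coe]
      exact orderOf_eq_prime (IsKleinFour.exponent_two (G := V.1) ▸ Monoid.pow_exponent_eq_one _) p.2.2.1
    · exact congrArg Subtype.val (mul_comm_of_exponent_two IsKleinFour.exponent_two p.1.1 p.1.2)
  let φ : (Σ V : S, T V) → Pairs G := fun s => ⟨((s.2.1.1 : G), (s.2.1.2 : G)), key s.1 s.2⟩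
  have hfour : ∀ (V : S) (p : T V) (h1 : (p.1.1 : G) * p.1.1 = 1) (h2 : (p.1.2 : G) * p.1.2 = 1) (h3 : (p.1.1 : G) * p.1.2 = p.1.2 * p.1.1),
      V.1 = four h1 h2 h3 := by
    intro V p h1 h2 h3
    haveI := V.2
    refine (Subgroup.eq_of_le_of_card_ge ?_ ?_).symm
    · intro z hz
      rcases hz with rfl | rfl | rfl | rfl
      exacts [one_mem _, p.1.1.2, p.1.2.2, mul_mem p.1.1.2 p.1.2.2]
    · rw [IsKleinFour.card_four]
      obtain ⟨o1, o2, o3, -⟩ := key V p
      have a1 : (p.1.1 : G) ≠ 1 := fun h => by rw [h, orderOf_one] at o1; omega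
      have a2 : (p.1.2 : G) ≠ 1 := fun h => by rw [h, orderOf_one] at o2; omega
      rw [← SetLike.coe_sort_coe, Nat.card_coe_set_eq]
      show 4 ≤ ({1, (p.1.1 : G), (p.1.2 : G), (p.1.1 : G) * p.1.2} : Set G).ncard
      rw [Set.ncard_insert_of_notMem, Set.ncard_insert_of_notMem, Set.ncard_pair]
      · exact fun h => a1 (by simpa using h.symm)
      · simp only [Set.mem_insert_iff, Set.mem_singleton_iff, not_or]
        exact ⟨o3, fun h => a2 (mul_left_cancel (a := (p.1.1 : G)) (by rw [mul_one]; exact h.symm))⟩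
      · simp only [Set.mem_insert_iff, Set.mem_singleton_iff, not_or]
        exact ⟨a1.symm, a2.symm, fun h => o3 (by rw [← mul_right_inj (p.1.1 : G), h1]; exact h.trans rfl)⟩
  have hφ : Function.Bijective φ := by
    constructor
    · rintro ⟨V, p⟩ ⟨W, r⟩ h
      have e1 : (p.1.1 : G) = r.1.1 := congrArg (fun z : Pairs G => z.1.1) h
      have e2 : (p.1.2 : G) = r.1.2 := congrArg (fun z : Pairs G => z.1.2) h
      obtain rfl : V = W := by
        obtain ⟨o1, o2, -, o4⟩ := key V p
        have s1 := orderOf_dvd_iff_pow_eq_one.1 (dvd_of_eq o1)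
        have s2 := orderOf_dvd_iff_pow_eq_one.1 (dvd_of_eq o2)
        rw [pow_two] at s1 s2
        apply Subtype.ext
        rw [hfour V p s1 s2 o4, hfour W r (e1 ▸ s1) (e2 ▸ s2) (e1 ▸ e2 ▸ o4)]
        simp only [e1, e2]
      exact congrArg (Sigma.mk V) (Subtype.ext (Prod.ext (Subtype.ext e1) (Subtype.ext e2)))
    · rintro ⟨⟨x, y⟩, hx, hy, hne, hc⟩
      have s1 : x * x = 1 := by rw [← pow_two, ← hx, pow_orderOf_eq_one]
      have s2 : y * y = 1 := by rw [← pow_two, ← hy, pow_orderOf_eq_one]
      have a1 : x ≠ 1 := fun h => by rw [show x = 1 from h, orderOf_one] at hx; omega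
      have a2 : y ≠ 1 := fun h => by rw [show y = 1 from h, orderOf_one] at hy; omega
      have hcard : Nat.card (four s1 s2 hc) = 4 := by
        rw [← SetLike.coe_sort_coe, Nat.card_coe_set_eq]
        show ({1, x, y, x * y} : Set G).ncard = 4
        rw [Set.ncard_insert_of_notMem, Set.ncard_insert_of_notMem, Set.ncard_pair]
        · simpa using a1
        · simpa using ⟨hne, a2⟩
        · simp only [Set.mem_insert_iff, Set.mem_singleton_iff, not_or]
          exact ⟨a1.symm, a2.symm, fun h => hne (by rw [← mul_right_inj x, s1]; exact h.trans rfl)⟩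
      have hexp : ∀ z : four s1 s2 hc, z ^ 2 = 1 := by
        rintro ⟨z, hz⟩
        apply Subtype.ext
        show z ^ 2 = 1
        rcases hz with rfl | rfl | rfl | rfl
        · simp
        · rw [pow_two, s1]
        · rw [pow_two, s2]
        · rw [(show Commute x y from hc).mul_pow, pow_two, pow_two, s1, s2, one_mul]
      haveI hK : IsKleinFour (four s1 s2 hc) := ⟨hcard, by
        rcases (Nat.dvd_prime Nat.prime_two).1 (Monoid.exponent_dvd_of_forall_pow_eq_one hexp) with h | h
        · haveI := Monoid.exp_eq_one_iff.1 h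
          rw [Nat.card_of_subsingleton (1 : four s1 s2 hc)] at hcard
          omega
        · exact h⟩
      refine ⟨⟨⟨four s1 s2 hc, hK⟩, ⟨(⟨x, Or.inr (Or.inl rfl)⟩, ⟨y, Or.inr (Or.inr (Or.inl rfl))⟩),
        fun h => a1 (congrArg Subtype.val h), fun h => a2 (congrArg Subtype.val h), fun h => hne (congrArg Subtype.val h)⟩⟩, rfl⟩
  haveI : ∀ V : S, Finite (T V) := fun V => inferInstanceAs (Finite {p : V.1 × V.1 // _})
  haveI := Fintype.ofFinite S
  rw [← Nat.card_eq_of_bijective φ hφ, Nat.card_sigma, Finset.sum_congr rfl (fun V _ => hT V), Finset.sum_const,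
    smul_eq_mul, Finset.card_univ, Nat.card_eq_fintype_card, mul_comm]

end Cfsg.Lib.PSLTwoOdd
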