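import Mathlib
import Cfsg.Prelude.Def_GeometricClasses
import Cfsg.Agent.Lib.Classical.SymplecticMatrix

/-!
Primitivity on points, perfectness and simplicity for the symplectic groups.
-/

set_option autoImplicit false

namespace Cfsg.Lib.Classical.SpSimple

open Matrix
open scoped LinearAlgebra.Projectivization commutatorElement Pointwise

variable {F : Type*} [Field F] {m : ℕ}

set_option quotPrecheck false in
local notation "V" => (Fin m ⊕ Fin m → F)
set_option quotPrecheck false in
local notation "G" => (↥(Cfsg.spGL m F))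
set_option quotPrecheck false in
local notation "ω" => sympBilin F m

lemma exists_eq_one {v : V} (hv : v ≠ 0) : ∃ z, ω v z = 1 := by
  obtain ⟨z, -, hz⟩ := nondegOn_top (sympBilin_nondegenerate F m) v Submodule.mem_top hv
  exact ⟨(ω v z)⁻¹ • z, by simp [hz]⟩

lemma swap (u v : V) : ω v u = - ω u v := alt_swap (sympBilin_isAlt F m) u v

lemma self (u : V) : ω u u = 0 := sympBilin_isAlt F m u

lemma exists_ne_zero_ne_zero {u v : V} (hu : u ≠ 0) (hv : v ≠ 0) : ∃ z, ω u z ≠ 0 ∧ ω v z ≠ 0 := by
  obtain ⟨z, -, h⟩ := (nondegOn_top (sympBilin_nondegenerate F m)).exists_two (u := u) (v := v)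
    Submodule.mem_top Submodule.mem_top hu hv
  exact ⟨z, h⟩

/-- A transvection as an element of `spGL`. -/
noncomputable def T (v : V) (c : F) : G :=
  ⟨sTGL ω (sympBilin_isAlt F m) v c, sTGL_mem_spGL v c⟩

@[simp] lemma T_mulVec (v : V) (c : F) (x : V) :
    ((T v c : G) : GL (Fin m ⊕ Fin m) F).1 *ᵥ x = x + (c * ω x v) • v := sTGL_mulVec _ _ _ _ _

lemma ext' {g h : G} (hx : ∀ x, (g : GL (Fin m ⊕ Fin m) F).1 *ᵥ x = (h : GL (Fin m ⊕ Fin m) F).1 *ᵥ x) :
    g = h := Subtype.ext (gl_ext hx)

lemma mul_mulVec (g h : G) (x : V) : ((g * h : G) : GL (Fin m ⊕ Fin m) F).1 *ᵥ x =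
    (g : GL (Fin m ⊕ Fin m) F).1 *ᵥ ((h : GL (Fin m ⊕ Fin m) F).1 *ᵥ x) := by
  simp [mulVec_mulVec]

lemma T_add (v : V) (c d : F) : T v c * T v d = T v (c + d) := Subtype.ext (sTGL_mul _ _ v c d)

lemma T_zero (v : V) : T v 0 = 1 := Subtype.ext (sTGL_zero _ _ v)

lemma T_smul (v : V) (a c : F) : T (a • v) c = T v (a * a * c) := Subtype.ext (sTGL_smul _ _ v a c)

lemma conj_T (g : G) (v : V) (c : F) : g * T v c * g⁻¹ = T ((g : GL (Fin m ⊕ Fin m) F).1 *ᵥ v) c :=
  Subtype.ext (conj_sTGL_iso _ _ g.1 (mem_spGL_iff.1 g.2) v c)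

lemma eq_top_of_T_mem (H : Subgroup G) (h : ∀ v c, T v c ∈ H) : H = ⊤ := by
  refine eq_top_iff.2 fun g _ => ?_
  obtain ⟨x, hx, he⟩ := spGL_le_of_sTGL_mem (H := H.map (Cfsg.spGL m F).subtype)
    (fun v c => ⟨_, h v c, rfl⟩) g.2
  rwa [← Subtype.ext he]

/-- An isometry moving `u` to `v` when `u` and `v` are not orthogonal, fixing what is orthogonal to
`v - u`. -/
lemma move {u v : V} (h : ω u v ≠ 0) : ∃ g : G, (g : GL (Fin m ⊕ Fin m) F).1 *ᵥ u = v ∧
    ∀ y, ω y (v - u) = 0 → (g : GL (Fin m ⊕ Fin m) F).1 *ᵥ y = y := by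
  refine ⟨T (v - u) (ω u v)⁻¹, ?_, fun y hy => by simp [hy]⟩
  rw [T_mulVec, map_sub, self u, sub_zero, inv_mul_cancel₀ h, one_smul, add_sub_cancel]

lemma exists_map {u v : V} (hu : u ≠ 0) (hv : v ≠ 0) :
    ∃ g : G, (g : GL (Fin m ⊕ Fin m) F).1 *ᵥ u = v := by
  obtain ⟨z, h1, h2⟩ := exists_ne_zero_ne_zero hu hv
  obtain ⟨a, ha, -⟩ := move h1
  obtain ⟨b, hb, -⟩ := move (u := z) (v := v) (by rwa [swap v z, neg_ne_zero])
  exact ⟨b * a, by rw [mul_mulVec, ha, hb]⟩

/-- Three independent pairwise orthogonal vectors when `3 ≤ m`, two when `2 ≤ m`. -/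
theorem commutator_eq_top (h : 3 ≤ m ∨ (m = 2 ∧ ∃ a : F, a ≠ 0 ∧ a ≠ 1) ∨
    ∃ a : F, a ≠ 0 ∧ a ^ 2 ≠ 1) : commutator G = ⊤ := by
  refine eq_top_of_T_mem _ fun v c => ?_
  let φ : G →* Abelianization G := Abelianization.of
  suffices hs : φ (T v c) = 1 by
    rw [← Abelianization.ker_of]; exact hs
  rcases eq_or_ne v 0 with rfl | hv
  · have : T (0 : V) c = 1 := Subtype.ext (sTGL_zero_left _ _ c)
    rw [this, map_one]
  have key : ∀ w : V, w ≠ 0 → ∀ d, φ (T w d) = φ (T v d) := by
    intro w hw d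
    obtain ⟨g, hg⟩ := exists_map hv hw
    rw [← hg, ← conj_T, map_mul, map_mul, map_inv, mul_comm (φ g), mul_inv_cancel_right]
  have hadd : ∀ d e, φ (T v (d + e)) = φ (T v d) * φ (T v e) := fun d e => by
    rw [← T_add, map_mul]
  have hsq : ∀ a : F, a ≠ 0 → ∀ d, φ (T v (a * a * d)) = φ (T v d) := fun a ha d => by
    rw [← T_smul, key _ (smul_ne_zero ha hv)]
  have big : (∃ a : F, a ≠ 0 ∧ a ^ 2 ≠ 1) → φ (T v c) = 1 := by
    rintro ⟨a, ha, ha2⟩
    have h1 := hsq a ha (c / (a ^ 2 - 1))
    have h2 : a * a * (c / (a ^ 2 - 1)) = c + c / (a ^ 2 - 1) := by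
      have := sub_ne_zero.2 ha2; field_simp; ring
    rwa [h2, hadd, mul_eq_right] at h1
  rcases h with hm | ⟨hm, a, ha, ha1⟩ | hbig
  · let e : Fin 3 → V := fun i => Pi.single (Sum.inl ⟨i, by omega⟩) 1
    have hij : ∀ i j, ω (e i) (e j) = 0 := fun i j => by
      rw [sympBilin_apply, sympForm_eq_sum]
      simp [e]
    have hne : ∀ x : Fin 3 → F, (∃ i, x i ≠ 0) → ∑ i, x i • e i ≠ 0 := by
      rintro x ⟨i, hi⟩ h0
      refine hi ?_
      have := congrFun h0 (Sum.inl ⟨i, by omega⟩)
      simp only [Fin.sum_univ_three, e, Pi.add_apply, Pi.smul_apply, Pi.single_apply, Sum.inl.injEq, Fin.ext_iff, Pi.zero_apply] at this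
      fin_cases i <;> simpa using this
    have h3 : e 0 + e 1 + e 2 ≠ 0 := by simpa [Fin.sum_univ_three] using hne ![1, 1, 1] ⟨0, by simp⟩
    have h01 : e 0 + e 1 ≠ 0 := by simpa [Fin.sum_univ_three] using hne ![1, 1, 0] ⟨0, by simp⟩
    have h02 : e 0 + e 2 ≠ 0 := by simpa [Fin.sum_univ_three] using hne ![1, 0, 1] ⟨0, by simp⟩
    have h12 : e 1 + e 2 ≠ 0 := by simpa [Fin.sum_univ_three] using hne ![0, 1, 1] ⟨1, by simp⟩
    have h0 : ∀ i, e i ≠ 0 := fun i => by simp [e]
    have hid : T (e 0 + e 1 + e 2) c * T (e 0) c * T (e 1) c * T (e 2) c =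
        T (e 0 + e 1) c * T (e 0 + e 2) c * T (e 1 + e 2) c := by
      refine ext' fun x => ?_
      simp only [mul_mulVec, T_mulVec, map_add, LinearMap.add_apply, map_smul, LinearMap.smul_apply,
        hij, smul_zero, add_zero, smul_eq_mul, mul_zero]
      module
    have := congrArg φ hid
    simp only [map_mul, key _ h3, key _ h01, key _ h02, key _ h12, key _ (h0 _)] at this
    simpa using this
  · by_cases h2 : (2 : F) = 0
    · refine big ⟨a, ha, fun h => ha1 ?_⟩
      have : (a - 1) ^ 2 = 0 := by linear_combination h - (a - 1) * h2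
      exact sub_eq_zero.1 (pow_eq_zero_iff two_ne_zero |>.1 this)
    let e : Fin 2 → V := fun i => Pi.single (Sum.inl ⟨i, by omega⟩) 1
    have hij : ∀ i j, ω (e i) (e j) = 0 := fun i j => by
      rw [sympBilin_apply, sympForm_eq_sum]
      simp [e]
    have h0 : ∀ i, e i ≠ 0 := fun i => by simp [e]
    have hp : e 0 + e 1 ≠ 0 := fun h => by
      simpa [e, Pi.single_apply, Fin.ext_iff] using congrFun h (Sum.inl ⟨0, by omega⟩)
    have hn : e 0 - e 1 ≠ 0 := fun h => by
      simpa [e, Pi.single_apply, Fin.ext_iff] using congrFun h (Sum.inl ⟨0, by omega⟩)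
    have hid : ∀ d, T (e 0 + e 1) d * T (e 0 - e 1) d = T (e 0) (d + d) * T (e 1) (d + d) := by
      intro d
      refine ext' fun x => ?_
      simp only [mul_mulVec, T_mulVec, map_add, map_sub, LinearMap.add_apply, LinearMap.sub_apply, map_smul, LinearMap.smul_apply,
        hij, smul_zero, add_zero, sub_zero, smul_eq_mul, mul_zero]
      module
    have := congrArg φ (hid (c / 2))
    simp only [map_mul, key _ hp, key _ hn, key _ (h0 _), hadd] at this
    rwa [← hadd, show c / 2 + c / 2 = c by field_simp; ring, right_eq_mul] at this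
  · exact big hbig

/-- A projective point is fixed exactly when the line is. -/
lemma smul_mk (g : G) (v : V) (hv : v ≠ 0) (w : V) (hw : w ≠ 0) (a : F)
    (h : (g : GL (Fin m ⊕ Fin m) F).1 *ᵥ v = a • w) :
    g • Projectivization.mk F v hv = Projectivization.mk F w hw := by
  rw [Subgroup.smul_def]
  exact (Projectivization.mk_eq_mk_iff' F _ _ _ _).2 ⟨a, h.symm⟩

theorem isPreprimitive : MulAction.IsPreprimitive G (ℙ F V) := by
  have : MulAction.IsPretransitive G (ℙ F V) := ⟨fun p q => by
    induction p with | _ u hu =>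
    induction q with | _ v hv =>
    obtain ⟨g, hg⟩ := exists_map hu hv
    exact ⟨g, smul_mk g u hu v hv 1 (by rw [hg, one_smul])⟩⟩
  refine ⟨fun {B} hB => ?_⟩
  by_cases hs : B.Subsingleton
  · exact Or.inl hs
  obtain ⟨p₀, hp₀, q₀, hq₀, hne₀⟩ := Set.not_subsingleton_iff.1 hs
  refine Or.inr (Set.eq_univ_of_forall fun r₀ => ?_)
  -- an element fixing `p ∈ B` keeps `B` invariant
  have hinv : ∀ (g : G) (a b : ℙ F V), a ∈ B → g • a = a → b ∈ B → g • b ∈ B := by
    intro g a b ha hga hb
    have := hB.smul_eq_of_mem ha (hga.symm ▸ ha)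
    rw [← this]
    exact Set.smul_mem_smul_set hb
  have htrans : ∀ (u v : V) (hu : u ≠ 0) (hv : v ≠ 0), Projectivization.mk F u hu ∈ B →
      Projectivization.mk F v hv ∈ B → ∃ g : G, g • Projectivization.mk F u hu = Projectivization.mk F v hv ∧ g • B = B := by
    intro u v hu hv hB1 hB2
    obtain ⟨g, hg⟩ := exists_map hu hv
    have hg' := smul_mk g u hu v hv 1 (by rw [hg, one_smul])
    exact ⟨g, hg', hB.smul_eq_of_mem hB1 (hg'.symm ▸ hB2)⟩
  induction p₀ with | _ p hp =>
  induction q₀ with | _ q hq =>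
  induction r₀ with | _ r hr =>
  by_cases hpq : ω p q = 0
  · -- perp neighbours
    have hperp : ∀ (z : V) (hz : z ≠ 0), ω p z = 0 → (∀ a : F, z ≠ a • p) →
        Projectivization.mk F z hz ∈ B := by
      intro z hz hpz hind
      have hqind : ∀ a : F, q ≠ a • p := fun a h => hne₀ (((Projectivization.mk_eq_mk_iff' F _ _ _ _).2 ⟨a, h.symm⟩).symm)
      have hsep : ∀ t : V, (∀ a : F, t ≠ a • p) → ∃ w, ω p w = 0 ∧ ω t w ≠ 0 := by
        intro t ht
        obtain ⟨w0, hw0⟩ := exists_eq_one hp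
        have h1 : t - (ω t w0) • p ≠ 0 := sub_ne_zero.2 (ht _)
        obtain ⟨s, hs⟩ := exists_eq_one h1
        refine ⟨s - (ω p s) • w0, by simp [hw0], ?_⟩
        simp only [map_sub, map_smul, LinearMap.sub_apply, LinearMap.smul_apply, smul_eq_mul] at hs ⊢
        intro h
        exact one_ne_zero (by linear_combination h - hs)
      obtain ⟨w1, hw1, hw1'⟩ := hsep q hqind
      obtain ⟨w2, hw2, hw2'⟩ := hsep z hind
      obtain ⟨w, hpw, hqw, hzw⟩ : ∃ w, ω p w = 0 ∧ ω q w ≠ 0 ∧ ω z w ≠ 0 := by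
        by_cases h1 : ω z w1 = 0
        · by_cases h2 : ω q w2 = 0
          · exact ⟨w1 + w2, by simp [hw1, hw2], by simp [h2, hw1'], by simp [h1, hw2']⟩
          · exact ⟨w2, hw2, h2, hw2'⟩
        · exact ⟨w1, hw1, hw1', h1⟩
      obtain ⟨a, ha, hafix⟩ := move hqw
      obtain ⟨b, hb, hbfix⟩ := move (u := w) (v := z) (by rwa [swap z w, neg_ne_zero])
      have hfp : ((b * a : G) : GL (Fin m ⊕ Fin m) F).1 *ᵥ p = p := by
        rw [mul_mulVec, hafix p (by simp [hpw, hpq]), hbfix p (by simp [hpw, hpz])]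
      have h1 := hinv (b * a) _ (Projectivization.mk F q hq) hp₀
        (smul_mk (b * a) p hp p hp 1 (by rw [hfp, one_smul])) hq₀
      rwa [smul_mk (b * a) q hq z hz 1 (by rw [mul_mulVec, ha, hb, one_smul])] at h1
    -- every point is joined to `p` through perp neighbours
    by_cases hpr : ω p r = 0
    · by_cases hind : ∀ a : F, r ≠ a • p
      · exact hperp r hr hpr hind
      · push Not at hind
        obtain ⟨a, ha⟩ := hind
        rwa [(Projectivization.mk_eq_mk_iff' F r p hr hp).2 ⟨a, ha.symm⟩]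
    · -- a point orthogonal to both, from `q`
      let s : V := q - (ω r q / ω r p) • p
      have hrp : ω r p ≠ 0 := by rwa [swap p r, neg_ne_zero]
      have hps : ω p s = 0 := by simp [s, hpq, self p]
      have hrs : ω r s = 0 := by simp [s, hrp]
      have hind : ∀ a : F, s ≠ a • p := by
        intro a h
        refine hne₀ ((Projectivization.mk_eq_mk_iff' F q p hq hp).2 ⟨a + ω r q / ω r p, ?_⟩).symm
        rw [add_smul, ← h]; simp [s]
      have hs0 : s ≠ 0 := by simpa using hind 0
      obtain ⟨g, hg, hgB⟩ := htrans p s hp hs0 hp₀ (hperp s hs0 hps hind)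
      -- pull back along `g`
      let r' : V := (g⁻¹ : G).1.1 *ᵥ r
      have hgr : g.1.1 *ᵥ r' = r := mulVec_inv_mulVec g.1 r
      have hr' : r' ≠ 0 := fun h => hr (by rw [← hgr, h, mulVec_zero])
      have hgp : ∃ a : F, g.1.1 *ᵥ p = a • s := by
        rw [Subgroup.smul_def] at hg
        obtain ⟨a, ha⟩ := (Projectivization.mk_eq_mk_iff' F _ _ _ _).1 hg
        exact ⟨a, ha.symm⟩
      obtain ⟨a, ha⟩ := hgp
      have hpr' : ω p r' = 0 := by
        rw [← mem_spGL_iff.1 g.2, hgr, ha, map_smul, LinearMap.smul_apply, swap r s, hrs, neg_zero, smul_zero]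
      have hind' : ∀ b : F, r' ≠ b • p := by
        intro b h
        refine hpr ?_
        rw [← hgr, h, mulVec_smul, ha, map_smul, map_smul, hps, smul_zero, smul_zero]
      have h1 := Set.smul_mem_smul_set (a := g) (hperp r' hr' hpr' hind')
      rw [hgB, smul_mk g r' hr' r hr 1 (by rw [hgr, one_smul])] at h1
      exact h1
  · -- non-perp neighbours
    have hnp : ∀ (u : V) (hu : u ≠ 0) (z : V) (hz : z ≠ 0),
        Projectivization.mk F u hu ∈ B → ω u z ≠ 0 →
        ∀ (w : V) (hw : w ≠ 0), Projectivization.mk F w hw ∈ B → ω u w ≠ 0 →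
        Projectivization.mk F z hz ∈ B := by
      intro u hu z hz huB huz w hw hwB huw
      obtain ⟨h, hh, hhu, hhw⟩ := exists_move_pair ω (sympBilin_isAlt F m) ⊤
        (nondegOn_top (sympBilin_nondegenerate F m)) (u := u) (v := (ω u w)⁻¹ • w) (u' := u)
        (v' := (ω u z)⁻¹ • z) Submodule.mem_top Submodule.mem_top Submodule.mem_top Submodule.mem_top
        (by simp [huw]) (by simp [huz])
      let g : G := ⟨(glEquiv _ F).symm h, mem_spGL_iff.2 fun x y => by
        rw [glEquiv_symm_mulVec, glEquiv_symm_mulVec]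
        exact tvClosure_le_isoGroup _ _ _ hh x y⟩
      have hgv : ∀ x, g.1.1 *ᵥ x = h x := fun x => glEquiv_symm_mulVec h x
      have h1 := hinv g _ (Projectivization.mk F w hw) huB
        (smul_mk g u hu u hu 1 (by rw [hgv, hhu, one_smul])) hwB
      rwa [smul_mk g w hw z hz (ω u w * (ω u z)⁻¹) (by
        have h2 : h w = ω u w • h ((ω u w)⁻¹ • w) := by rw [← map_smul, smul_inv_smul₀ huw]
        rw [hgv, h2, hhw, smul_smul])] at h1
    obtain ⟨s, hs1, hs2⟩ := exists_ne_zero_ne_zero hp hr
    have hs0 : s ≠ 0 := fun h => hs1 (by simp [h])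
    have hsB := hnp p hp s hs0 hp₀ hs1 q hq hq₀ hpq
    exact hnp s hs0 r hr hsB (by rwa [swap r s, neg_ne_zero]) p hp hp₀ (by rwa [swap p s, neg_ne_zero])

theorem center_or_top (N : Subgroup G) [N.Normal] (hperf : commutator G = ⊤) :
    N = ⊤ ∨ N ≤ Subgroup.center G := by
  have := (isPreprimitive (F := F) (m := m))
  let S : MulAction.IwasawaStructure G (ℙ F V) :=
    { T := fun p => MonoidHom.range
        ({ toFun := fun c => T p.rep c.toAdd
           map_one' := T_zero _
           map_mul' := fun c d => (T_add _ _ _).symm } : Multiplicative F →* G)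
      is_comm := fun p => ⟨⟨by
        rintro ⟨_, c, rfl⟩ ⟨_, d, rfl⟩
        exact Subtype.ext (by change T _ _ * T _ _ = T _ _ * T _ _; rw [T_add, T_add, add_comm])⟩⟩
      is_conj := fun g p => by
        obtain ⟨a, ha⟩ : ∃ a : F, a • (g • p).rep = g.1.1 *ᵥ p.rep := by
          refine (Projectivization.mk_eq_mk_iff' F _ _ ?_ (Projectivization.rep_nonzero _)).1 ?_
          · intro h
            have h2 := congrArg (fun x => (g⁻¹ : G).1.1 *ᵥ x) h
            simp only [mulVec_zero] at h2
            rw [Subgroup.coe_inv, mulVec_mulVec, Units.inv_mul, one_mulVec] at h2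
            exact p.rep_nonzero h2
          · rw [Projectivization.mk_rep]
            conv_rhs => rw [← Projectivization.mk_rep p, Subgroup.smul_def]
            rfl
        have ha0 : a ≠ 0 := by
          rintro rfl
          rw [zero_smul] at ha
          have h2 := congrArg (fun x => (g⁻¹ : G).1.1 *ᵥ x) ha
          simp only [mulVec_zero] at h2
          rw [Subgroup.coe_inv, mulVec_mulVec, Units.inv_mul, one_mulVec] at h2
          exact p.rep_nonzero h2.symm
        have key : ∀ c, T (g • p).rep (a * a * c) = g * T p.rep c * g⁻¹ := fun c => by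
          rw [← T_smul, ha, ← conj_T]
        ext x
        constructor
        · rintro ⟨c, rfl⟩
          refine ⟨T p.rep (c.toAdd / (a * a)), ⟨Multiplicative.ofAdd (c.toAdd / (a * a)), rfl⟩, ?_⟩
          change g * T p.rep (c.toAdd / (a * a)) * g⁻¹ = T (g • p).rep c.toAdd
          rw [← key]
          congr 1
          field_simp
        · rintro ⟨_, ⟨c, rfl⟩, rfl⟩
          exact ⟨Multiplicative.ofAdd (a * a * c.toAdd), key c.toAdd⟩
      is_generator := eq_top_of_T_mem _ fun v c => by
        rcases eq_or_ne v 0 with rfl | hv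
        · rw [show T (0 : V) c = 1 from Subtype.ext (sTGL_zero_left _ _ c)]
          exact one_mem _
        refine Subgroup.mem_iSup_of_mem (Projectivization.mk F v hv) ?_
        obtain ⟨a, ha⟩ := Projectivization.exists_smul_eq_mk_rep F v hv
        refine ⟨Multiplicative.ofAdd (c / ((a : F) * a)), ?_⟩
        change T (Projectivization.mk F v hv).rep (c / ((a : F) * a)) = T v c
        rw [← ha, Units.smul_def, T_smul]
        congr 1
        field_simp }
  by_cases hfix : MulAction.fixedPoints N (ℙ F V) = Set.univ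
  · refine Or.inr fun n hn => Subgroup.mem_center_iff.2 fun g => ?_
    have hscal : ∀ v : V, v ≠ 0 → ∃ a : F, n.1.1 *ᵥ v = a • v := by
      intro v hv
      have h : n • Projectivization.mk F v hv = Projectivization.mk F v hv :=
        Set.eq_univ_iff_forall.1 hfix _ ⟨n, hn⟩
      rw [Subgroup.smul_def] at h
      obtain ⟨a, ha⟩ := (Projectivization.mk_eq_mk_iff' F _ _ _ _).1 h
      exact ⟨a, ha.symm⟩
    -- commute with every transvection
    have hT : ∀ v c, T v c * n = n * T v c := by
      intro v c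
      rcases eq_or_ne v 0 with rfl | hv
      · rw [show T (0 : V) c = 1 from Subtype.ext (sTGL_zero_left _ _ c)]
        simp
      obtain ⟨a, ha⟩ := hscal v hv
      obtain ⟨z, hz⟩ := exists_eq_one hv
      have hz0 : z ≠ 0 := fun h => by simp [h] at hz
      have hvz : v + z ≠ 0 := fun h => by
        have := congrArg (fun x => ω v x) h
        simp [hz, self v] at this
      obtain ⟨b, hb⟩ := hscal z hz0
      obtain ⟨e, he⟩ := hscal _ hvz
      rw [mulVec_add, ha, hb] at he
      have h1 := congrArg (fun x => ω v x) he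
      have h2 := congrArg (fun x => ω x z) he
      have h3 : ω (n.1.1 *ᵥ v) (n.1.1 *ᵥ z) = ω v z := mem_spGL_iff.1 n.2 v z
      simp [hz, self v, self z] at h1 h2
      simp [ha, hb, hz] at h3
      have h4 := conj_T n v c
      rw [ha, T_smul, show a * a * c = c by subst h1 h2; linear_combination c * h3] at h4
      rw [mul_inv_eq_iff_eq_mul] at h4
      exact h4.symm
    have := eq_top_of_T_mem (Subgroup.centralizer {n}) fun v c => by
      rw [Subgroup.mem_centralizer_iff]
      rintro _ rfl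
      exact (hT v c).symm
    have hg : g ∈ Subgroup.centralizer ({n} : Set G) := by rw [this]; exact Subgroup.mem_top g
    exact (Subgroup.mem_centralizer_iff.1 hg n rfl).symm
  · exact Or.inl (top_le_iff.1 (hperf ▸ S.commutator_le N hfix))

end Cfsg.Lib.Classical.SpSimple

namespace Cfsg.Lib.Classical.SpSimple

variable {F : Type*} [Field F] {m : ℕ}

lemma exists_big [Fintype F] (h : 4 ≤ Fintype.card F) : ∃ a : F, a ≠ 0 ∧ a ^ 2 ≠ 1 := by
  classical
  by_contra! hh
  have : (Finset.univ : Finset F) ⊆ {0, 1, -1} := fun a _ => by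
    simp only [Finset.mem_insert, Finset.mem_singleton]
    rcases eq_or_ne a 0 with h0 | h0
    · exact Or.inl h0
    · exact Or.inr (sq_eq_one_iff.1 (hh a h0))
  have := (Finset.card_le_card this).trans Finset.card_le_three
  rw [Finset.card_univ] at this
  omega

theorem perfect_symplecticGroup [Fintype F]
    (h : 3 ≤ m ∨ (m = 2 ∧ 3 ≤ Fintype.card F) ∨ 4 ≤ Fintype.card F) :
    commutator (Matrix.symplecticGroup (Fin m) F) = ⊤ := by
  have h' := commutator_eq_top (F := F) (m := m) (by
    rcases h with h | ⟨h, hq⟩ | h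
    · exact Or.inl h
    · obtain ⟨a, ha, hb⟩ : ∃ a : F, a ≠ 0 ∧ a ≠ 1 := by
        classical
        by_contra! hh
        have : (Finset.univ : Finset F) ⊆ {0, 1} := fun a _ => by
          simp only [Finset.mem_insert, Finset.mem_singleton]
          exact or_iff_not_imp_left.2 (hh a)
        have := (Finset.card_le_card this).trans Finset.card_le_two
        rw [Finset.card_univ] at this
        omega
      exact Or.inr (Or.inl ⟨h, a, ha, hb⟩)
    · exact Or.inr (Or.inr (exists_big h)))
  have h2 := congrArg (Subgroup.map (spEquiv (F := F) (m := m)).symm.toMonoidHom) h'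
  rwa [commutator_def, Subgroup.map_commutator, Subgroup.map_top_of_surjective _ (MulEquiv.surjective _)] at h2

end Cfsg.Lib.Classical.SpSimple
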