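import Mathlib

/-!
Derangements in transitive groups: elements of prime order without fixed points, and the counting bound.
-/

set_option autoImplicit false

namespace Cfsg.Lib.Classical.PermCount

open MulAction

variable {G Ω : Type*} [Group G] [Finite G] [MulAction G Ω] [Fintype Ω]

lemma dvd_index_stabilizer (htr : IsPretransitive G Ω) (P : Subgroup G) (ω : Ω) :
    Fintype.card Ω ∣ (stabilizer P ω).index * P.index := by
  rw [← Subgroup.index_map_subtype, ← Nat.card_eq_fintype_card,
    ← index_stabilizer_of_transitive G ω]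
  refine Subgroup.index_dvd_of_le ?_
  rintro _ ⟨x, hx, rfl⟩
  exact hx

lemma index_stabilizer_le (P : Subgroup G) (ω : Ω) : (stabilizer P ω).index ≤ Fintype.card Ω := by
  rw [index_stabilizer, ← Nat.card_eq_fintype_card, ← Set.ncard_univ]
  exact Set.ncard_le_ncard (Set.subset_univ _)

variable [FaithfulSMul G Ω]

/-- Transitive of prime-power degree. -/
lemma exists_derangement_pow (htr : IsPretransitive G Ω) {p k : ℕ} (hp : p.Prime) (hk : 1 ≤ k)
    (hΩ : Fintype.card Ω = p ^ k) : ∃ g : G, orderOf g = p ∧ ∀ ω : Ω, g • ω ≠ ω := by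
  classical
  have : Fact p.Prime := ⟨hp⟩
  obtain ⟨P⟩ : Nonempty (Sylow p G) := inferInstance
  have hidx : ∀ ω : Ω, (stabilizer (P : Subgroup G) ω).index = p ^ k := by
    intro ω
    refine le_antisymm (hΩ ▸ index_stabilizer_le _ ω) (Nat.le_of_dvd (Nat.pos_of_ne_zero
      Subgroup.index_ne_zero_of_finite) ?_)
    have h1 := dvd_index_stabilizer htr (P : Subgroup G) ω
    rw [hΩ] at h1
    exact (Nat.Coprime.pow_left k ((hp.coprime_iff_not_dvd).2 P.not_dvd_index)).dvd_of_dvd_mul_right h1
  have hne : Nonempty Ω := Fintype.card_pos_iff.1 (hΩ ▸ pow_pos hp.pos k)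
  have hnt : Nontrivial (P : Subgroup G) := by
    obtain ⟨ω⟩ := hne
    by_contra h
    rw [not_nontrivial_iff_subsingleton] at h
    have h1 := hidx ω
    have h2 : (stabilizer (P : Subgroup G) ω).index = 1 :=
      Subgroup.index_eq_one.2 (Subsingleton.elim _ _)
    rw [h2] at h1
    exact (one_lt_pow₀ hp.one_lt (by omega)).ne h1
  have hz : p ∣ Nat.card (Subgroup.center (P : Subgroup G)) := by
    have hnc := P.2.center_nontrivial
    obtain ⟨j, hj⟩ := IsPGroup.iff_card.1 (P.2.to_subgroup (Subgroup.center (P : Subgroup G)))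
    rw [hj]
    refine dvd_pow_self p fun e => ?_
    rw [e, pow_zero, Nat.card_eq_one_iff_unique] at hj
    exact not_subsingleton _ hj.1
  obtain ⟨⟨z, hzc⟩, hz⟩ := exists_prime_orderOf_dvd_card' p hz
  rw [Subgroup.orderOf_mk] at hz
  refine ⟨z, by rw [Subgroup.orderOf_coe]; exact hz, fun ω hω => ?_⟩
  have hall : ∀ ω' : Ω, (z : G) • ω' = ω' := by
    intro ω'
    have h3 : orbit (P : Subgroup G) ω = Set.univ := by
      refine Set.eq_of_subset_of_ncard_le (Set.subset_univ _) ?_
      rw [Set.ncard_univ, Nat.card_eq_fintype_card, hΩ, ← hidx ω, index_stabilizer]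
    obtain ⟨y, rfl⟩ : ω' ∈ orbit (P : Subgroup G) ω := h3 ▸ Set.mem_univ _
    change (z : G) • (y : G) • ω = (y : G) • ω
    rw [smul_smul, ← Subgroup.coe_mul, ← Subgroup.mem_center_iff.1 hzc y, Subgroup.coe_mul, mul_smul, hω]
  have h4 : (z : G) = 1 := eq_of_smul_eq_smul (α := Ω) (by simpa using hall)
  rw [← Subgroup.orderOf_coe, h4, orderOf_one] at hz
  exact hp.one_lt.ne hz

/-- Transitive of degree `m p` with `m < p`. -/
lemma exists_derangement_mul (htr : IsPretransitive G Ω) {p m : ℕ} (hp : p.Prime) (hm : 1 ≤ m)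
    (hmp : m < p) (hΩ : Fintype.card Ω = m * p) :
    ∃ g : G, orderOf g = p ∧ ∀ ω : Ω, g • ω ≠ ω := by
  classical
  have : Fact p.Prime := ⟨hp⟩
  have : Fintype G := Fintype.ofFinite G
  obtain ⟨P⟩ : Nonempty (Sylow p G) := inferInstance
  set S := (P : Subgroup G)
  have hidx : ∀ ω : Ω, (stabilizer S ω).index = p := by
    intro ω
    obtain ⟨j, hj⟩ := P.2.index (stabilizer S ω)
    have h1 := dvd_index_stabilizer htr S ω
    rw [hΩ] at h1
    have h2 : p ∣ p ^ j := hj ▸ ((hp.coprime_iff_not_dvd).2 P.not_dvd_index).dvd_of_dvd_mul_right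
      (dvd_trans (dvd_mul_left p m) h1)
    have h3 : p ^ j ≤ m * p := hj ▸ hΩ ▸ index_stabilizer_le S ω
    have h4 : m * p < p ^ 2 := by rw [pow_two]; exact Nat.mul_lt_mul_of_pos_right hmp hp.pos
    have h5 : j < 2 := (Nat.pow_lt_pow_iff_right hp.one_lt).1 (h3.trans_lt h4)
    have h6 : j ≠ 0 := fun e => by rw [e, pow_zero, Nat.dvd_one] at h2; exact hp.ne_one h2
    rw [hj, show j = 1 by omega, pow_one]
  have hnorm : ∀ ω : Ω, (stabilizer S ω).Normal := by
    intro ω
    refine Subgroup.normal_of_index_eq_minFac_card ?_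
    obtain ⟨j, hj⟩ := IsPGroup.iff_card.1 P.2
    have h6 : j ≠ 0 := fun e => by
      have := hidx ω ▸ Subgroup.index_dvd_card (stabilizer S ω)
      rw [hj, e, pow_zero, Nat.dvd_one] at this
      exact hp.ne_one this
    rw [hidx, hj, Nat.pow_minFac h6, hp.minFac_eq]
  have hfix : ∀ (x : S) (ω : Ω), x • ω = ω → ∀ y : S, x • y • ω = y • ω := by
    intro x ω hx y
    have h1 : y⁻¹ * x * y ∈ stabilizer S ω := by
      simpa using (hnorm ω).conj_mem x hx y⁻¹
    have h2 : (y⁻¹ * x * y) • ω = ω := h1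
    rwa [mul_smul, mul_smul, inv_smul_eq_iff] at h2
  obtain ⟨x, hx⟩ : ∃ x : S, ∀ ω : Ω, x • ω ≠ ω := by
    by_contra! hall
    have lower : Fintype.card S * p ≤ ∑ x : S, (Finset.univ.filter fun ω : Ω => x • ω = ω).card := by
      rw [← smul_eq_mul, ← Finset.card_univ, ← Finset.sum_const]
      refine Finset.sum_le_sum fun x _ => ?_
      obtain ⟨ω, hω⟩ := hall x
      rw [← hidx ω, index_stabilizer, ← Set.ncard_coe_finset]
      refine Set.ncard_le_ncard ?_
      rintro _ ⟨y, rfl⟩
      simpa using hfix x ω hω y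
    have upper : ∑ x : S, (Finset.univ.filter fun ω : Ω => x • ω = ω).card = m * Fintype.card S := by
      simp only [Finset.card_filter]
      rw [Finset.sum_comm]
      have h1 : ∀ ω : Ω, (∑ x : S, if x • ω = ω then 1 else 0) * p = Fintype.card S := by
        intro ω
        rw [← Finset.card_filter, ← Fintype.card_subtype, ← Nat.card_eq_fintype_card]
        nth_rewrite 1 [← hidx ω]
        rw [← Nat.card_eq_fintype_card (α := S), ← Subgroup.card_mul_index (stabilizer S ω)]
        rfl
      refine Nat.eq_of_mul_eq_mul_right hp.pos ?_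
      rw [Finset.sum_mul, Finset.sum_congr rfl fun ω _ => h1 ω, Finset.sum_const, Finset.card_univ, hΩ,
        smul_eq_mul]
      ring
    rw [upper] at lower
    exact absurd lower (by
      have : 0 < Fintype.card S := Fintype.card_pos
      rw [mul_comm (Fintype.card S)]
      exact not_le.2 (Nat.mul_lt_mul_of_pos_right hmp this))
  refine ⟨x, orderOf_eq_prime ?_ fun e => ?_, hx⟩
  · refine eq_of_smul_eq_smul (α := Ω) fun ω => ?_
    have h1 := @Subgroup.pow_index_mem _ _ (stabilizer S ω) (hnorm ω) x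
    rw [hidx ω] at h1
    rw [one_smul]
    exact h1
  · obtain ⟨ω⟩ : Nonempty Ω := Fintype.card_pos_iff.1 (hΩ ▸ Nat.mul_pos hm hp.pos)
    exact hx ω (by change (x : G) • ω = ω; rw [e, one_smul])

omit [FaithfulSMul G Ω] in
lemma sum_fixed (htr : IsPretransitive G Ω) [Fintype G] [DecidableEq Ω] [Nonempty Ω] :
    ∑ g : G, (Finset.univ.filter fun ω : Ω => g • ω = ω).card = Fintype.card G := by
  classical
  have : Subsingleton (Quotient (orbitRel G Ω)) := (pretransitive_iff_subsingleton_quotient G Ω).1 htr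
  have h := sum_card_fixedBy_eq_card_orbits_mul_card_group G Ω
  rw [Fintype.card_eq_one_iff.2 ⟨⟦Classical.arbitrary Ω⟧, fun _ => Subsingleton.elim _ _⟩, one_mul] at h
  refine (Finset.sum_congr rfl fun g _ => ?_).trans h
  rw [← Fintype.card_subtype]
  exact Fintype.card_congr (Equiv.refl _)

omit [FaithfulSMul G Ω] in
lemma two_mul_card_le_sum_fixed_sq [Fintype G] [DecidableEq Ω] [Nontrivial Ω] :
    2 * Fintype.card G ≤ ∑ g : G, (Finset.univ.filter fun ω : Ω => g • ω = ω).card ^ 2 := by
  classical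
  have h := sum_card_fixedBy_eq_card_orbits_mul_card_group G (Ω × Ω)
  have hr : 2 ≤ Fintype.card (Quotient (orbitRel G (Ω × Ω))) := by
    obtain ⟨a, b, hab⟩ := exists_pair_ne Ω
    refine Fintype.one_lt_card_iff.2 ⟨⟦(a, a)⟧, ⟦(a, b)⟧, fun e => ?_⟩
    obtain ⟨g, hg⟩ := Quotient.exact e
    simp [Prod.ext_iff] at hg
    exact hab (MulAction.injective g (hg.1.trans hg.2.symm))
  calc 2 * Fintype.card G ≤ _ := Nat.mul_le_mul_right _ hr
    _ = _ := h.symm
    _ = _ := Finset.sum_congr rfl fun g _ => by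
      rw [pow_two, ← Finset.card_product]
      refine Fintype.card_of_finset' _ fun x => ?_
      simp [mem_fixedBy, Prod.ext_iff]

/-- The derangement bound, with the equality case. -/
lemma derangement_bound (htr : IsPretransitive G Ω) (hn : 3 ≤ Fintype.card Ω) :
    ((IsPretransitive G Ω ∧ (∃ g : G, g ≠ 1 ∧ ∃ ω : Ω, g • ω = ω) ∧
      ∀ g : G, g ≠ 1 → Nat.card (fixedBy Ω g) ≤ 1) ∧
      Nat.card G = Fintype.card Ω * (Fintype.card Ω - 1) ∧
      Fintype.card Ω * Nat.card {g : G // ∀ ω : Ω, g • ω ≠ ω} = Nat.card G) ∨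
    Nat.card G < Fintype.card Ω * Nat.card {g : G // ∀ ω : Ω, g • ω ≠ ω} := by
  classical
  have : Fintype G := Fintype.ofFinite G
  have : Nontrivial Ω := Fintype.one_lt_card_iff_nontrivial.1 (by omega)
  set n := Fintype.card Ω with hndef
  let f : G → ℕ := fun g => (Finset.univ.filter fun ω : Ω => g • ω = ω).card
  have hfle : ∀ g, f g ≤ n := fun g => Finset.card_le_univ _
  have hf0 : ∀ g : G, (∀ ω : Ω, g • ω ≠ ω) ↔ f g = 0 := fun g => by
    simp [f, Finset.filter_eq_empty_iff]
  have hfn : ∀ g, f g = n → g = 1 := fun g hg => eq_of_smul_eq_smul (α := Ω) fun ω => by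
    rw [one_smul]
    simpa using Finset.eq_univ_iff_forall.1 (Finset.eq_univ_of_card _ hg) ω
  have hfix : ∀ g, Nat.card (fixedBy Ω g) = f g := fun g => by
    rw [Nat.card_coe_set_eq]
    change _ = Finset.card _
    rw [← Set.ncard_coe_finset]
    congr 1
    ext ω
    simp [mem_fixedBy]
  have hD : Nat.card {g : G // ∀ ω : Ω, g • ω ≠ ω} = (Finset.univ.filter fun g : G => f g = 0).card := by
    rw [Nat.card_eq_fintype_card, Fintype.card_subtype]
    exact congrArg Finset.card (Finset.filter_congr fun g _ => hf0 g)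
  rw [hD, Nat.card_eq_fintype_card]
  set D := (Finset.univ.filter fun g : G => f g = 0).card
  have h1 : ∑ g : G, f g = Fintype.card G := sum_fixed htr
  have h2 : 2 * Fintype.card G ≤ ∑ g : G, f g ^ 2 := two_mul_card_le_sum_fixed_sq
  let t : G → ℤ := fun g => (if f g = 0 then (n : ℤ) else 0) - ((f g : ℤ) - 1) * ((f g : ℤ) - n)
  have ht : ∀ g, 0 ≤ t g := by
    intro g
    by_cases hg : f g = 0
    · simp [t, hg]
    · have a1 : (1 : ℤ) ≤ f g := by omega
      have a2 : (f g : ℤ) ≤ n := by exact_mod_cast hfle g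
      simp only [t, hg, if_false]
      nlinarith
  have hsum : ∑ g : G, t g = (n : ℤ) * D - (((∑ g : G, f g ^ 2 : ℕ) : ℤ) - Fintype.card G) := by
    have e1 : ∀ g, t g = (if f g = 0 then (n : ℤ) else 0) -
        (((f g : ℤ)) ^ 2 - ((n : ℤ) + 1) * (f g : ℤ) + n) := fun g => by simp only [t]; ring
    simp only [e1, Finset.sum_sub_distrib, Finset.sum_add_distrib, ← Finset.mul_sum, Finset.sum_const,
      Finset.card_univ, nsmul_eq_mul]
    rw [Finset.sum_ite, Finset.sum_const_zero, add_zero, Finset.sum_const, nsmul_eq_mul]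
    have e2 : ((∑ g : G, f g : ℕ) : ℤ) = Fintype.card G := by exact_mod_cast h1
    push_cast at e2 ⊢
    rw [e2]
    ring
  have hpos : 0 ≤ ∑ g : G, t g := Finset.sum_nonneg fun g _ => ht g
  have h2' : (2 : ℤ) * Fintype.card G ≤ ((∑ g : G, f g ^ 2 : ℕ) : ℤ) := by exact_mod_cast h2
  rcases lt_or_ge (Fintype.card G) (n * D) with h | h
  · exact Or.inr h
  refine Or.inl ?_
  have h' : (n : ℤ) * D ≤ Fintype.card G := by exact_mod_cast h
  have hz : ∑ g : G, t g = 0 := by omega
  have heq : n * D = Fintype.card G := by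
    have : (n : ℤ) * D = Fintype.card G := by omega
    exact_mod_cast this
  have hg : ∀ g, g ≠ 1 → f g ≤ 1 := by
    intro g hg1
    by_contra hlt
    push Not at hlt
    have := (Finset.sum_eq_zero_iff_of_nonneg fun g _ => ht g).1 hz g (Finset.mem_univ _)
    simp only [t, show f g ≠ 0 by omega, if_false, zero_sub, neg_eq_zero, mul_eq_zero] at this
    rcases this with h | h
    · omega
    · exact hg1 (hfn g (by omega))
  have hone : f 1 = n := by simp [f, hndef]
  have hcount : Fintype.card G + D + 1 = n + Fintype.card G := by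
    have e1 : (∑ g : G, f g) + D + 1 = (∑ g : G, (1 : ℕ)) + n := by
      have e2 : ∀ g : G, f g + (if f g = 0 then 1 else 0) + (if g = 1 then 1 else 0) =
          1 + (if g = 1 then n else 0) := by
        intro g
        by_cases h1 : g = 1
        · subst h1
          rw [hone, if_neg (show n ≠ 0 by omega), if_pos rfl, if_pos rfl]
          omega
        · have := hg g h1
          rw [if_neg h1, if_neg h1]
          by_cases h0 : f g = 0
          · rw [if_pos h0, h0]
          · rw [if_neg h0]; omega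
      have e3 := Finset.sum_congr rfl (fun g (_ : g ∈ (Finset.univ : Finset G)) => e2 g)
      simpa [Finset.sum_add_distrib, ← Finset.card_filter, Finset.sum_ite_eq'] using e3
    rw [h1] at e1
    simpa [add_comm n] using e1
  have hDn : D = n - 1 := by omega
  refine ⟨⟨htr, ?_, fun g hg1 => by rw [hfix]; exact hg g hg1⟩, ?_, heq⟩
  · by_contra! hcon
    have hDG : D + 1 = Fintype.card G := by
      have e1 : (Finset.univ.filter fun g : G => f g = 0) = Finset.univ.erase 1 := by
        ext g
        rcases eq_or_ne g 1 with rfl | h1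
        · simp [hone]; omega
        · simp [h1, ← hf0, hcon g h1]
      have hc : 0 < Fintype.card G := Fintype.card_pos
      change (Finset.univ.filter fun g : G => f g = 0).card + 1 = _
      rw [e1, Finset.card_erase_of_mem (Finset.mem_univ _), Finset.card_univ]
      omega
    rw [hDn] at heq hDG
    have : 3 * (n - 1) ≤ n * (n - 1) := Nat.mul_le_mul_right _ hn
    omega
  · rw [← hDn, heq]

end Cfsg.Lib.Classical.PermCount
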