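import Mathlib
import Cfsg.Agent.Lib.Classical.PrimeToCharSL2
import Cfsg.Agent.Lib.Classical.SLTwoSub
import Cfsg.Agent.Lib.Classical.TwoDimTorusSylow
import Cfsg.Agent.Lib.Classical.QuatTwo

/-! Subgroups of `PSL(2, p)` containing `A4`: everything, or order 12, 24, 60. -/

set_option autoImplicit false
set_option linter.unusedSectionVars false
set_option linter.unusedSimpArgs false

namespace Cfsg.Lib.Classical.Polyhedral

open Matrix Cfsg.Lib.PStable Cfsg.Lib.PSLTwoOdd Cfsg.Lib.QuatTwo Cfsg.Lib.SLTwoSub Cfsg.Lib.Fusion.PSLTwo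
open scoped MatrixGroups

variable {F : Type*} [Field F] [Fintype F] {p : ℕ} [Fact p.Prime] [CharP F p]

local notation "SL2" => Matrix.SpecialLinearGroup (Fin 2) F
local notation "PSL2" => Matrix.ProjectiveSpecialLinearGroup (Fin 2) F
local notation "π" => QuotientGroup.mk' (Subgroup.center (Matrix.SpecialLinearGroup (Fin 2) F))

theorem overgroup_coprime (hp2 : p ≠ 2) (K : Subgroup PSL2) {x y w : PSL2} (hR : Rel x y w)
    (hx : x ∈ K) (hw : w ∈ K) (hpM : ¬ p ∣ Nat.card (K.comap π)) : Nat.card K = 12 ∨ Nat.card K = 24 ∨ Nat.card K = 60 := by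
  classical
  have h2 : (2 : F) ≠ 0 := Ring.two_ne_zero (by rw [ringChar.eq F p]; exact hp2)
  haveI : NeZero (2 : F) := ⟨h2⟩
  set M := K.comap π with hMd
  have hneg : (-1 : SL2) ∈ M := by
    show π (-1) ∈ K
    rw [show π (-1 : SL2) = 1 from (QuotientGroup.eq_one_iff _).2 neg_one_mem_center]
    exact K.one_mem
  have hcard : Nat.card M = 2 * Nat.card K := card_preimage (K : Set PSL2)
  obtain ⟨X, hX⟩ := QuotientGroup.mk'_surjective _ x
  obtain ⟨W, hW⟩ := QuotientGroup.mk'_surjective _ w
  have hXM : X ∈ M := show π X ∈ K by rw [hX]; exact hx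
  have hWM : W ∈ M := show π W ∈ K by rw [hW]; exact hw
  have hss : ∀ z : M, z ∉ scSet M → trc (z : SL2) ^ 2 ≠ 4 := fun z hz ht => by
    have key : ∀ v : M, trc (v : SL2) = 2 → v = 1 := fun v hv => by
      have hvp : v ^ p = 1 := Subtype.ext (by rw [SubmonoidClass.coe_pow, pow_char_of_trc_two hv]; rfl)
      have h1 : orderOf v ∣ p := orderOf_dvd_of_pow_eq_one hvp
      rcases (Nat.dvd_prime Fact.out).1 h1 with e | e
      · exact orderOf_eq_one_iff.1 e
      · exact absurd (e ▸ orderOf_dvd_natCard v) hpM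
    have hsc : ∀ v : M, (v : SL2) = 1 ∨ (v : SL2) = -1 → v ∈ scSet M := fun v hv => (isScalar2_iff _).2 hv
    rcases eq_or_eq_neg_of_sq_eq_sq (trc (z : SL2)) 2 (by rw [ht]; norm_num) with h | h
    · exact hz (hsc z (Or.inl (by rw [key z h]; rfl)))
    · have := key (⟨-1, hneg⟩ * z) (by
        show trc ((-1 : SL2) * (z : SL2)) = 2
        rw [neg_one_mul]
        simp only [trc, neg_entry] at h ⊢
        linear_combination -h)
      have h' : -(z : SL2) = 1 := by simpa using congrArg Subtype.val this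
      exact hz (hsc z (Or.inr (by rw [← h', neg_neg])))
  rcases Cfsg.Lib.Classical.PrimeToChar.small_types hneg h2 hss with ⟨C, hC, hsq, -, -⟩ | h | h | h
  · exfalso
    have hwC : ∀ v : M, (π (v : SL2)) ^ 3 = 1 → ∃ c ∈ C, π (c : SL2) = π (v : SL2) := fun v hv => by
      refine ⟨(v * v) * (v * v), C.mul_mem (hsq v) (hsq v), ?_⟩
      rw [Subgroup.coe_mul, Subgroup.coe_mul, map_mul, map_mul]
      calc π (v : SL2) * π (v : SL2) * (π (v : SL2) * π (v : SL2)) = π (v : SL2) ^ 3 * π (v : SL2) := by
            rw [pow_succ, pow_two]; simp only [mul_assoc]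
        _ = π (v : SL2) := by rw [hv, one_mul]
    obtain ⟨c1, hc1, e1⟩ := hwC ⟨W, hWM⟩ (by rw [show π ((⟨W, hWM⟩ : M) : SL2) = w from hW]; exact hR.hw)
    obtain ⟨c2, hc2, e2⟩ := hwC ⟨X * W * X⁻¹, M.mul_mem (M.mul_mem hXM hWM) (M.inv_mem hXM)⟩ (by
      show (π (X * W * X⁻¹)) ^ 3 = 1
      rw [map_mul, map_mul, map_inv, conj_pow, hX, hW, hR.hw, mul_one, mul_inv_cancel])
    have hcom := congrArg (fun z : M => π (z : SL2)) (hC c1 hc1 c2 hc2)
    simp only [Subgroup.coe_mul, map_mul, e1, e2, map_inv, hX, hW] at hcom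
    rw [inv_eq_of_mul_eq_one_right hR.hx] at hcom
    have hwx : w * x = y * w := by rw [← hR.hwx, inv_mul_cancel_right]
    have hwy : w * y = x * y * w := by rw [← hR.hwy, inv_mul_cancel_right]
    have e : y * (x * y) * (w * w) = x * y * (w * w) := by
      calc y * (x * y) * (w * w) = y * (w * y) * w := by rw [hwy]; simp only [mul_assoc]
        _ = y * w * (w * x) := by rw [hwx]; simp only [mul_assoc]
        _ = w * x * (w * x) := by rw [hwx]
        _ = w * (x * w * x) := by simp only [mul_assoc]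
        _ = x * w * x * w := hcom
        _ = x * (w * x) * w := by simp only [mul_assoc]
        _ = x * y * (w * w) := by rw [hwx]; simp only [mul_assoc]
    exact hR.hy1 (mul_eq_right.1 (mul_right_cancel e))
  all_goals omega

theorem overgroup (hF : Fintype.card F = p) (hp2 : p ≠ 2) (K : Subgroup PSL2) {x y w : PSL2} (hR : Rel x y w)
    (hx : x ∈ K) (hw : w ∈ K) : K = ⊤ ∨ Nat.card K = 12 ∨ Nat.card K = 24 ∨ Nat.card K = 60 := by
  classical
  have h2 : (2 : F) ≠ 0 := Ring.two_ne_zero (by rw [ringChar.eq F p]; exact hp2)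
  haveI : NeZero (2 : F) := ⟨h2⟩
  set M := K.comap π with hMd
  have hneg : (-1 : SL2) ∈ M := by
    show π (-1) ∈ K
    rw [show π (-1 : SL2) = 1 from (QuotientGroup.eq_one_iff _).2 neg_one_mem_center]
    exact K.one_mem
  have hcard : Nat.card M = 2 * Nat.card K := card_preimage (K : Set PSL2)
  obtain ⟨X, hX⟩ := QuotientGroup.mk'_surjective _ x
  obtain ⟨W, hW⟩ := QuotientGroup.mk'_surjective _ w
  have hXM : X ∈ M := show π X ∈ K by rw [hX]; exact hx
  have hWM : W ∈ M := show π W ∈ K by rw [hW]; exact hw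
  -- a commutator of square minus one
  set g := W * X * W⁻¹ * X⁻¹ with hg
  have hgπ : π g = y * x := by
    have hxi : x⁻¹ = x := inv_eq_of_mul_eq_one_right hR.hx
    rw [hg, map_mul, map_mul, map_mul, map_inv, map_inv, hX, hW, hR.hwx, hxi]
  have hord : orderOf (π g) = 2 := by
    rw [hgπ]
    refine orderOf_eq_prime ?_ fun e => hR.hxy ?_
    · rw [pow_two, show y * x * (y * x) = y * (x * y) * x by simp only [mul_assoc], hR.hc,
        show y * (y * x) * x = y * y * (x * x) by simp only [mul_assoc], hR.hy, hR.hx, one_mul]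
    · rw [← inv_eq_of_mul_eq_one_right e, inv_eq_of_mul_eq_one_right hR.hy]
  have hg2 : g * g = -1 := by rw [← pow_two]; exact (orderOf_mk_eq_two g).1 hord
  obtain ⟨i1, i2, i3, i4⟩ := inv_entries g
  have hginv : g⁻¹ = -g := inv_eq_of_mul_eq_one_right (by rw [mul_neg, hg2, neg_neg])
  have htr : g 0 0 + g 1 1 = 0 := by
    have := i1
    rw [hginv, neg_entry] at this
    linear_combination -this
  have hgns : ¬ IsScalar2 g := fun hs => by
    rcases (isScalar2_iff g).1 hs with e | e <;> rw [e] at hg2 <;> simp at hg2 <;> exact neg_one_ne_one hg2.symm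
  by_cases hpM : p ∣ Nat.card M
  · left
    rcases Nat.lt_or_ge 1 (Nat.card (Sylow p M)) with hS | hS
    · obtain ⟨ψ, hψ, hψr⟩ := exists_sl_two (p := p) hp2 M hS
      have hψtop : ψ.range = ⊤ := Subgroup.eq_top_of_card_eq _ (by
        rw [← Nat.card_congr (MonoidHom.ofInjective hψ).toEquiv, Cfsg.Lib.Classical.TwoDim.card_SL, Cfsg.Lib.Classical.TwoDim.card_SL, ZMod.card, hF])
      rw [hψtop, top_le_iff] at hψr
      rw [← Subgroup.map_comap_eq_self_of_surjective (QuotientGroup.mk'_surjective _) K, ← hMd, hψr,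
        Subgroup.map_top_of_surjective _ (QuotientGroup.mk'_surjective _)]
    · exfalso
      obtain ⟨u, hu⟩ := exists_prime_orderOf_dvd_card' p hpM
      haveI : Subsingleton (Sylow p M) := Finite.card_le_one_iff_subsingleton.1 hS
      let S : Sylow p M := Classical.arbitrary _
      haveI : (S : Subgroup M).Normal := Sylow.normal_of_subsingleton S
      have hle : Subgroup.zpowers u ≤ (S : Subgroup M) := by
        obtain ⟨S', hS'⟩ := (IsPGroup.of_card (show Nat.card (Subgroup.zpowers u) = p ^ 1 by rw [Nat.card_zpowers, hu, pow_one])).exists_le_sylow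
        rwa [Subsingleton.elim S' S] at hS'
      have hSc : Nat.card (S : Subgroup M) = p := by
        obtain ⟨k, hk⟩ := IsPGroup.iff_card.1 S.isPGroup'
        have hk1 : 1 ≤ k := by
          by_contra h0
          have h1 := Subgroup.card_dvd_of_le hle
          rw [Nat.card_zpowers, hu, hk, show k = 0 by omega, pow_zero, Nat.dvd_one] at h1
          exact (Fact.out : p.Prime).one_lt.ne' h1
        have hd : p ^ k ∣ p * ((p + 1) * (p - 1)) := by
          rw [← hk]
          have hc := Cfsg.Lib.Classical.TwoDim.card_SL (F := F)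
          rw [hF] at hc
          rw [← hc]
          exact (Subgroup.card_subgroup_dvd_card _).trans (Subgroup.card_subgroup_dvd_card M)
        have hk2 : k < 2 := by
          by_contra h2'
          have hpp := (Nat.pow_dvd_pow p (show 2 ≤ k by omega)).trans hd
          rw [pow_two, Nat.mul_dvd_mul_iff_left (Fact.out : p.Prime).pos] at hpp
          have h3 := (Fact.out : p.Prime).two_le
          rcases (Fact.out : p.Prime).dvd_mul.1 hpp with h | h
          · have h4 := (Nat.dvd_add_right dvd_rfl).1 h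
            exact (Fact.out : p.Prime).one_lt.ne' (Nat.dvd_one.1 h4)
          · exact absurd (Nat.le_of_dvd (by omega) h) (by omega)
        rw [hk, show k = 1 by omega, pow_one]
      have hSz : Subgroup.zpowers u = (S : Subgroup M) :=
        Subgroup.eq_of_le_of_card_ge hle (by rw [hSc, Nat.card_zpowers, hu])
      have hconj : ∀ h : M, ∃ i : ℤ, h * u * h⁻¹ = u ^ i := fun h => by
        have := Subgroup.Normal.conj_mem (inferInstance : (S : Subgroup M).Normal) u (hle (Subgroup.mem_zpowers u)) h
        rw [← hSz] at this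
        obtain ⟨i, hi⟩ := this
        exact ⟨i, hi.symm⟩
      let W' : M := ⟨W, hWM⟩
      let X' : M := ⟨X, hXM⟩
      obtain ⟨i, hi⟩ := hconj W'
      obtain ⟨j, hj⟩ := hconj X'
      have hcomm : W' * X' * W'⁻¹ * X'⁻¹ * u * (W' * X' * W'⁻¹ * X'⁻¹)⁻¹ = u := by
        have a1 : W' * X' * u * (W' * X')⁻¹ = u ^ (i * j) := by
          rw [show W' * X' * u * (W' * X')⁻¹ = W' * (X' * u * X'⁻¹) * W'⁻¹ by group, hj, ← conj_zpow, hi, ← _root_.zpow_mul]
        have a2 : X' * W' * u * (X' * W')⁻¹ = u ^ (i * j) := by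
          rw [show X' * W' * u * (X' * W')⁻¹ = X' * (W' * u * W'⁻¹) * X'⁻¹ by group, hi, ← conj_zpow, hj, ← _root_.zpow_mul, mul_comm]
        have hv := Subgroup.Normal.conj_mem (inferInstance : (S : Subgroup M).Normal) u (hle (Subgroup.mem_zpowers u)) (X' * W')⁻¹
        rw [inv_inv, ← hSz] at hv
        obtain ⟨l, hl⟩ := hv
        simp only at hl
        calc _ = (W' * X') * ((X' * W')⁻¹ * u * (X' * W')) * (W' * X')⁻¹ := by group
          _ = (W' * X') * u ^ l * (W' * X')⁻¹ := by rw [hl]
          _ = (u ^ (i * j)) ^ l := by rw [← conj_zpow, a1]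
          _ = (X' * W') * u ^ l * (X' * W')⁻¹ := by rw [← a2, conj_zpow]
          _ = u := by rw [hl]; group
      have hgu : (u : SL2) * g = g * (u : SL2) := by
        have := congrArg Subtype.val hcomm
        change g * (u : SL2) * g⁻¹ = u at this
        nth_rewrite 1 [← this]
        rw [inv_mul_cancel_right]
      obtain ⟨α, β, a1, a2, a3, a4⟩ := exists_linear_of_commute hgns hgu
      have hup : ((u : SL2) : Matrix (Fin 2) (Fin 2) F) ^ p = 1 := by
        have := congrArg (fun z : M => ((z : SL2) : Matrix (Fin 2) (Fin 2) F)) (hu ▸ pow_orderOf_eq_one u : u ^ p = 1)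
        simpa using this
      have hnil : IsNilpotent (((u : SL2) : Matrix (Fin 2) (Fin 2) F) - 1) := ⟨p, by
        haveI : CharP (Matrix (Fin 2) (Fin 2) F) p := charP_of_injective_algebraMap (algebraMap F (Matrix (Fin 2) (Fin 2) F)).injective p
        rw [sub_pow_char_of_commute p (Commute.one_right _), hup, one_pow, sub_self]⟩
      have ht := (Matrix.isNilpotent_trace_of_isNilpotent hnil).eq_zero
      rw [Matrix.trace_fin_two, Matrix.sub_apply, Matrix.sub_apply, Matrix.one_apply_eq, Matrix.one_apply_eq, a1, a4] at ht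
      have hβ : β = 1 := mul_left_cancel₀ h2 (by linear_combination ht - α * htr)
      have hdu := det_eq (g := (u : SL2))
      have hdg := det_eq (g := g)
      rw [a1, a2, a3, a4, hβ] at hdu
      have hα : α = 0 := mul_self_eq_zero.1 (by linear_combination hdu - α * α * hdg - α * htr)
      have hu1 : u = 1 := Subtype.ext (Matrix.SpecialLinearGroup.ext _ _ fun i j => by
        fin_cases i <;> fin_cases j <;> simp [a1, a2, a3, a4, hα, hβ])
      rw [hu1, orderOf_one] at hu
      exact (Fact.out : p.Prime).one_lt.ne hu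
  · exact Or.inr (overgroup_coprime hp2 K hR hx hw hpM)

end Cfsg.Lib.Classical.Polyhedral
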