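import Cfsg.Agent.Lib.Classical.ProjLineCosets
import Cfsg.Agent.Lib.Characters.Induction

/-! Inner products of the principal series of `GL₂` and `SL₂`. -/

set_option autoImplicit false

namespace Cfsg.Lib.Classical.ProjLine

open Matrix
open scoped ComplexConjugate
open Cfsg.Lib.Characters

variable {F : Type*} [Field F] [Fintype F] [DecidableEq F]

lemma conj_mulChar (χ : MulChar F ℂ) (a : Fˣ) : conj (χ (a : F)) = χ ((a⁻¹ : Fˣ) : F) := by
  have h := (isIrrCharacter_linear χ.toUnitHom).isCharacter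
  have h1 := char_inv_eq_conj h a
  simp only [MulChar.coe_toUnitHom] at h1
  exact h1.symm

lemma sum_pair_char (χ ψ : MulChar F ℂ) :
    ∑ a : Fˣ, χ (a : F) * conj (ψ (a : F)) = if χ = ψ then (Nat.card Fˣ : ℂ) else 0 := by
  have h : ∀ a : Fˣ, χ (a : F) * conj (ψ (a : F)) = (χ * ψ⁻¹) (a : F) := fun a => by
    rw [conj_mulChar, MulChar.mul_apply, MulChar.inv_apply', Units.val_inv_eq_inv_val]
  rw [Finset.sum_congr rfl fun a _ => h a]
  split
  case isTrue e =>
    subst e
    simp [Nat.card_eq_fintype_card]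
  case isFalse e =>
    have h0 := MulChar.sum_eq_zero_of_ne_one (χ := χ * ψ⁻¹) (fun e' => e (mul_inv_eq_one.1 e'))
    rw [← Fintype.sum_subtype_add_sum_subtype (fun a : F => a ≠ 0)] at h0
    have h2 : ∑ a : {a : F // ¬ a ≠ 0}, (χ * ψ⁻¹) (a : F) = 0 := Finset.sum_eq_zero fun a _ => by
      rw [not_not.1 a.2, MulChar.map_zero]
    rw [h2, add_zero] at h0
    rw [← h0]
    exact Fintype.sum_equiv unitsEquivNeZero _ _ fun a => rfl

/-- The Borel subgroup of `GL₂` as a product. -/
noncomputable def bGL : Fˣ × Fˣ × F ≃ Cfsg.upperTriangularGL 2 F :=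
  Equiv.ofBijective
    (fun p => ⟨⟨!![(p.1 : F), p.2.2; 0, (p.2.1 : F)], !![((p.1⁻¹ : Fˣ) : F), -((p.1⁻¹ : Fˣ) : F) * p.2.2 * ((p.2.1⁻¹ : Fˣ) : F); 0, ((p.2.1⁻¹ : Fˣ) : F)],
      by ext i j; fin_cases i <;> fin_cases j <;> simp [Matrix.mul_apply, Fin.sum_univ_two]; field_simp; ring,
      by ext i j; fin_cases i <;> fin_cases j <;> simp [Matrix.mul_apply, Fin.sum_univ_two]⟩,
      mem_upper.2 rfl⟩)
    ⟨fun p p' h => by
      have h' := fun i j => congrFun (congrFun (congrArg (fun x : Cfsg.upperTriangularGL 2 F => ((x : GL (Fin 2) F) : Matrix (Fin 2) (Fin 2) F)) h) i) j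
      have h00 := h' 0 0
      have h01 := h' 0 1
      have h11 := h' 1 1
      simp at h00 h01 h11
      exact Prod.ext (Units.ext h00) (Prod.ext (Units.ext h11) h01),
    fun b => by
      have h10 := mem_upper.1 b.2
      have hd : (((b : GL (Fin 2) F) : Matrix (Fin 2) (Fin 2) F) 0 0) * (((b : GL (Fin 2) F) : Matrix (Fin 2) (Fin 2) F) 1 1) ≠ 0 := by
        have h := Matrix.GeneralLinearGroup.det_ne_zero (b : GL (Fin 2) F)
        rwa [Matrix.det_fin_two, h10, mul_zero, sub_zero] at h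
      refine ⟨(Units.mk0 _ (left_ne_zero_of_mul hd), Units.mk0 _ (right_ne_zero_of_mul hd), ((b : GL (Fin 2) F) : Matrix (Fin 2) (Fin 2) F) 0 1), Subtype.ext (Units.ext ?_)⟩
      ext i j
      fin_cases i <;> fin_cases j <;> simp [h10]⟩

lemma coe_bGL (p : Fˣ × Fˣ × F) :
    ((bGL p : GL (Fin 2) F) : Matrix (Fin 2) (Fin 2) F) = !![(p.1 : F), p.2.2; 0, (p.2.1 : F)] := rfl

/-- The character of the Borel subgroup of `GL₂` attached to `(α, β)`. -/
noncomputable def thGL (α β : MulChar F ℂ) : Cfsg.upperTriangularGL 2 F → ℂ :=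
  fun b => α (((b : GL (Fin 2) F) : Matrix (Fin 2) (Fin 2) F) 0 0) * β (((b : GL (Fin 2) F) : Matrix (Fin 2) (Fin 2) F) 1 1)

lemma thGL_mul (α β : MulChar F ℂ) (x y : Cfsg.upperTriangularGL 2 F) : thGL α β (x * y) = thGL α β x * thGL α β y := by
  have hx := mem_upper.1 x.2
  have hy := mem_upper.1 y.2
  simp only [thGL, Subgroup.coe_mul, Units.val_mul, Matrix.mul_apply, Fin.sum_univ_two, hx, hy, mul_zero, zero_mul, add_zero, zero_add, map_mul]
  ring

lemma isCharacter_thGL (α β : MulChar F ℂ) : IsCharacter (Cfsg.upperTriangularGL 2 F) (thGL α β) := by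
  have h1 : thGL α β 1 = 1 := by simp [thGL]
  let l : Cfsg.upperTriangularGL 2 F →* ℂˣ :=
    { toFun := fun b => ⟨thGL α β b, thGL α β b⁻¹, by rw [← thGL_mul, mul_inv_cancel, h1], by rw [← thGL_mul, inv_mul_cancel, h1]⟩
      map_one' := Units.ext h1
      map_mul' := fun x y => Units.ext (thGL_mul α β x y) }
  exact (isIrrCharacter_linear l).isCharacter

lemma indFun_thGL (α β : MulChar F ℂ) (g : GL (Fin 2) F) :
    Cfsg.indFun (Cfsg.upperTriangularGL 2 F) (thGL α β) g =
      (if (g : Matrix (Fin 2) (Fin 2) F) 1 0 = 0 then α ((g : Matrix (Fin 2) (Fin 2) F) 0 0) * β ((g : Matrix (Fin 2) (Fin 2) F) 1 1) else 0) +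
      ∑ t : F, (if (g : Matrix (Fin 2) (Fin 2) F) 1 0 * t ^ 2 + ((g : Matrix (Fin 2) (Fin 2) F) 1 1 - (g : Matrix (Fin 2) (Fin 2) F) 0 0) * t - (g : Matrix (Fin 2) (Fin 2) F) 0 1 = 0
        then α ((g : Matrix (Fin 2) (Fin 2) F) 1 0 * t + (g : Matrix (Fin 2) (Fin 2) F) 1 1) * β ((g : Matrix (Fin 2) (Fin 2) F) 0 0 - t * (g : Matrix (Fin 2) (Fin 2) F) 1 0) else 0) := by
  classical
  set B := Cfsg.upperTriangularGL 2 F
  set θ := thGL α β
  have hext : ∀ y : GL (Fin 2) F, Cfsg.extendByZero B θ y =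
      if (y : Matrix (Fin 2) (Fin 2) F) 1 0 = 0 then α ((y : Matrix (Fin 2) (Fin 2) F) 0 0) * β ((y : Matrix (Fin 2) (Fin 2) F) 1 1) else 0 := by
    intro y
    by_cases hy : (y : Matrix (Fin 2) (Fin 2) F) 1 0 = 0
    · rw [if_pos hy, extendByZero_mem θ (mem_upper.2 hy)]; rfl
    · rw [if_neg hy, extendByZero_not_mem θ (fun h => hy (mem_upper.1 h))]
  have hconj : ∀ (b : B) (y : GL (Fin 2) F),
      Cfsg.extendByZero B θ ((b : GL (Fin 2) F)⁻¹ * y * b) = Cfsg.extendByZero B θ y := by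
    intro b y
    by_cases hy : y ∈ B
    · rw [extendByZero_mem θ (mul_mem (mul_mem (inv_mem b.2) hy) b.2), extendByZero_mem θ hy,
        show (⟨(b : GL (Fin 2) F)⁻¹ * y * b, mul_mem (mul_mem (inv_mem b.2) hy) b.2⟩ : B) = b⁻¹ * ⟨y, hy⟩ * b from rfl]
      show thGL α β (b⁻¹ * ⟨y, hy⟩ * b) = thGL α β ⟨y, hy⟩
      rw [thGL_mul, thGL_mul, mul_right_comm, ← thGL_mul, inv_mul_cancel]
      simp [thGL]
    · rw [extendByZero_not_mem θ hy, extendByZero_not_mem θ]
      intro h
      exact hy (by simpa [mul_assoc] using mul_mem (mul_mem b.2 h) (inv_mem b.2))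
  have hbij : Function.Bijective (fun p : Option F × B => rGL p.1 * (p.2 : GL (Fin 2) F)) := by
    refine ⟨fun p p' h => ?_, fun x => ?_⟩
    · dsimp only at h
      have ho : p.1 = p'.1 := rGL_bij.1 (by
        have := congrArg (QuotientGroup.mk (s := B)) h
        simpa using this)
      refine Prod.ext ho (Subtype.ext ?_)
      rw [ho] at h
      exact mul_left_cancel h
    · obtain ⟨o, ho⟩ := rGL_bij.2 (x : GL (Fin 2) F ⧸ B)
      exact ⟨(o, ⟨(rGL o)⁻¹ * x, QuotientGroup.eq.1 ho⟩), by simp⟩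
  unfold Cfsg.indFun
  rw [← Equiv.sum_comp (Equiv.ofBijective _ hbij), Fintype.sum_prod_type]
  have hin : ∀ o : Option F, ∑ b : B, Cfsg.extendByZero B θ ((Equiv.ofBijective _ hbij (o, b))⁻¹ * g * Equiv.ofBijective _ hbij (o, b)) =
      (Nat.card B : ℂ) * Cfsg.extendByZero B θ ((rGL o)⁻¹ * g * rGL o) := by
    intro o
    rw [Finset.sum_congr rfl fun b _ => show _ = Cfsg.extendByZero B θ ((rGL o)⁻¹ * g * rGL o) from ?_, Finset.sum_const,
      Finset.card_univ, Nat.card_eq_fintype_card, nsmul_eq_mul]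
    conv_rhs => rw [← hconj b]
    simp [mul_assoc]
  rw [Finset.sum_congr rfl fun o _ => hin o, ← Finset.mul_sum, ← mul_assoc,
    inv_mul_cancel₀ (Nat.cast_ne_zero.2 Nat.card_pos.ne'), one_mul, Fintype.sum_option]
  congr 1
  · simp [hext, rGL]
  · refine Finset.sum_congr rfl fun t _ => ?_
    rw [hext, conj_rGL]
    simp only [neg_eq_zero]
    congr 2
    all_goals congr 1
    all_goals
      simp only [Units.val_mul, (coe_rGL t).1, (coe_rGL t).2, Matrix.mul_apply, Fin.sum_univ_two]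
      simp <;> ring

/-- The inner products of the principal series of `GL₂`. -/
theorem inner_GL (α β α' β' : MulChar F ℂ) :
    classInner (Cfsg.indFun (Cfsg.upperTriangularGL 2 F) (thGL α β)) (Cfsg.indFun (Cfsg.upperTriangularGL 2 F) (thGL α' β')) =
      (if α = α' ∧ β = β' then 1 else 0) + (if α = β' ∧ β = α' then 1 else 0) := by
  classical
  rw [classInner_indFun _ _ (isClassFunction_indFun _ _)]
  unfold classInner
  have hcard : (Nat.card (Cfsg.upperTriangularGL 2 F) : ℂ) = (Nat.card Fˣ : ℂ) * (Nat.card Fˣ : ℂ) * (Fintype.card F : ℂ) := by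
    rw [← Nat.card_congr (bGL (F := F)), Nat.card_prod, Nat.card_prod, Nat.card_eq_fintype_card (α := F), Nat.cast_mul, Nat.cast_mul]
    ring
  rw [← Equiv.sum_comp bGL, Fintype.sum_prod_type]
  simp only [Fintype.sum_prod_type, thGL, indFun_thGL, coe_bGL]
  simp only [Matrix.of_apply, Matrix.cons_val', Matrix.cons_val_zero, Matrix.cons_val_one, Matrix.empty_val', Matrix.cons_val_fin_one,
    zero_mul, zero_add, mul_zero, sub_zero, if_true, map_add, mul_add, Finset.sum_add_distrib]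
  rw [hcard]
  congr 1
  · simp only [Finset.sum_const, Finset.card_univ, nsmul_eq_mul, map_mul, ← Finset.mul_sum]
    have e : ∀ a d : Fˣ, α (a : F) * β (d : F) * (conj (α' (a : F)) * conj (β' (d : F))) = (α (a : F) * conj (α' (a : F))) * (β (d : F) * conj (β' (d : F))) :=
      fun a d => by ring
    simp only [e, ← Finset.mul_sum]
    rw [← Finset.sum_mul]
    rw [sum_pair_char, sum_pair_char]
    have h1 : (Nat.card Fˣ : ℂ) ≠ 0 := Nat.cast_ne_zero.2 Nat.card_pos.ne'
    have h2 : (Fintype.card F : ℂ) ≠ 0 := Nat.cast_ne_zero.2 Fintype.card_ne_zero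
    by_cases e1 : α = α' <;> by_cases e2 : β = β' <;> simp [e1, e2]
    field_simp
  · have hswap : ∀ a d : Fˣ, ∑ x : F, α (a : F) * β (d : F) * conj (∑ t : F, if ((d : F) - (a : F)) * t - x = 0 then α' (d : F) * β' (a : F) else 0) =
        (Fintype.card F : ℂ) * ((α (a : F) * conj (β' (a : F))) * (β (d : F) * conj (α' (d : F)))) := by
      intro a d
      rw [← Finset.mul_sum, ← map_sum, Finset.sum_comm]
      have hone : ∀ t : F, (∑ x : F, if ((d : F) - (a : F)) * t - x = 0 then α' (d : F) * β' (a : F) else 0) = α' (d : F) * β' (a : F) := by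
        intro t
        rw [Finset.sum_eq_single (((d : F) - (a : F)) * t)]
        · simp
        · intro x _ hx
          rw [if_neg]
          intro h
          exact hx (sub_eq_zero.1 h).symm
        · simp
      simp only [hone, Finset.sum_const, Finset.card_univ, nsmul_eq_mul, map_mul, map_natCast]
      ring
    rw [Finset.sum_congr rfl fun a _ => Finset.sum_congr rfl fun d _ => hswap a d]
    simp only [← Finset.mul_sum]
    rw [← Finset.sum_mul, sum_pair_char, sum_pair_char]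
    have h1 : (Nat.card Fˣ : ℂ) ≠ 0 := Nat.cast_ne_zero.2 Nat.card_pos.ne'
    have h2 : (Fintype.card F : ℂ) ≠ 0 := Nat.cast_ne_zero.2 Fintype.card_ne_zero
    by_cases e1 : α = β' <;> by_cases e2 : β = α' <;> simp [e1, e2]
    field_simp

/-- The Borel subgroup of `SL₂` as a product. -/
noncomputable def bSL : Fˣ × F ≃ (Cfsg.upperTriangularGL 2 F).comap (SpecialLinearGroup.toGL (n := Fin 2) (R := F)) :=
  Equiv.ofBijective (fun p => ⟨⟨!![(p.1 : F), p.2; 0, ((p.1⁻¹ : Fˣ) : F)], by simp⟩, mem_upperSL.2 rfl⟩)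
    ⟨fun p p' h => by
      have h' := fun i j => congrFun (congrFun (congrArg (fun x : (Cfsg.upperTriangularGL 2 F).comap (SpecialLinearGroup.toGL (n := Fin 2) (R := F)) => ((x : SpecialLinearGroup (Fin 2) F) : Matrix (Fin 2) (Fin 2) F)) h) i) j
      have h00 := h' 0 0
      have h01 := h' 0 1
      simp at h00 h01
      exact Prod.ext (Units.ext h00) h01,
    fun b => by
      have h10 := mem_upperSL.1 b.2
      have hd := (b : SpecialLinearGroup (Fin 2) F).2
      rw [Matrix.det_fin_two, h10, mul_zero, sub_zero] at hd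
      refine ⟨(Units.mk0 _ (left_ne_zero_of_mul_eq_one hd), ((b : SpecialLinearGroup (Fin 2) F) : Matrix (Fin 2) (Fin 2) F) 0 1), Subtype.ext (Subtype.ext ?_)⟩
      ext i j
      fin_cases i <;> fin_cases j <;> simp [h10]
      exact (eq_inv_of_mul_eq_one_right hd).symm⟩

lemma coe_bSL (p : Fˣ × F) :
    ((bSL p : SpecialLinearGroup (Fin 2) F) : Matrix (Fin 2) (Fin 2) F) = !![(p.1 : F), p.2; 0, ((p.1⁻¹ : Fˣ) : F)] := rfl

/-- The character of the Borel subgroup of `SL₂` attached to `α`. -/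
noncomputable def thSL (α : MulChar F ℂ) : (Cfsg.upperTriangularGL 2 F).comap (SpecialLinearGroup.toGL (n := Fin 2) (R := F)) → ℂ :=
  fun b => α (((b : SpecialLinearGroup (Fin 2) F) : Matrix (Fin 2) (Fin 2) F) 0 0)

lemma isCharacter_thSL (α : MulChar F ℂ) : IsCharacter _ (thSL α) := by
  have hm : ∀ x y, thSL α (x * y) = thSL α x * thSL α y := by
    intro x y
    have hx := mem_upperSL.1 x.2
    have hy := mem_upperSL.1 y.2
    simp [thSL, Matrix.mul_apply, Fin.sum_univ_two, hy]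
  have h1 : thSL α 1 = 1 := by simp [thSL]
  let l : (Cfsg.upperTriangularGL 2 F).comap (SpecialLinearGroup.toGL (n := Fin 2) (R := F)) →* ℂˣ :=
    { toFun := fun b => ⟨thSL α b, thSL α b⁻¹, by rw [← hm, mul_inv_cancel, h1], by rw [← hm, inv_mul_cancel, h1]⟩
      map_one' := Units.ext h1
      map_mul' := fun x y => Units.ext (hm x y) }
  exact (isIrrCharacter_linear l).isCharacter

/-- The inner products of the principal series of `SL₂`. -/
theorem inner_SL (α α' : MulChar F ℂ) :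
    classInner (Cfsg.indFun _ (thSL α)) (Cfsg.indFun _ (thSL α')) =
      (if α = α' then 1 else 0) + (if α = α'⁻¹ then 1 else 0) := by
  classical
  rw [classInner_indFun _ _ (isClassFunction_indFun _ _)]
  unfold classInner
  have hcard : (Nat.card ((Cfsg.upperTriangularGL 2 F).comap (SpecialLinearGroup.toGL (n := Fin 2) (R := F))) : ℂ) = (Nat.card Fˣ : ℂ) * (Fintype.card F : ℂ) := by
    rw [← Nat.card_congr (bSL (F := F)), Nat.card_prod, Nat.card_eq_fintype_card (α := F), Nat.cast_mul]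
  rw [← Equiv.sum_comp bSL, Fintype.sum_prod_type]
  unfold thSL
  simp only [indFun_eq, coe_bSL]
  simp only [Matrix.of_apply, Matrix.cons_val', Matrix.cons_val_zero, Matrix.cons_val_one, Matrix.empty_val', Matrix.cons_val_fin_one,
    zero_mul, zero_add, if_true, map_add, mul_add, Finset.sum_add_distrib]
  rw [hcard]
  have h1 : (Nat.card Fˣ : ℂ) ≠ 0 := Nat.cast_ne_zero.2 Nat.card_pos.ne'
  have h2 : (Fintype.card F : ℂ) ≠ 0 := Nat.cast_ne_zero.2 Fintype.card_ne_zero
  congr 1
  · simp only [Finset.sum_const, Finset.card_univ, nsmul_eq_mul, ← Finset.mul_sum]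
    rw [sum_pair_char]
    by_cases e1 : α = α' <;> simp [e1]
    field_simp
  · have hswap : ∀ a : Fˣ, ∑ x : F, α (a : F) * conj (∑ t : F, if (((a⁻¹ : Fˣ) : F) - (a : F)) * t - x = 0 then α' ((a⁻¹ : Fˣ) : F) else 0) =
        (Fintype.card F : ℂ) * (α (a : F) * conj (α'⁻¹ (a : F))) := by
      intro a
      rw [← Finset.mul_sum, ← map_sum, Finset.sum_comm]
      have hone : ∀ t : F, (∑ x : F, if (((a⁻¹ : Fˣ) : F) - (a : F)) * t - x = 0 then α' ((a⁻¹ : Fˣ) : F) else 0) = α' ((a⁻¹ : Fˣ) : F) := by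
        intro t
        rw [Finset.sum_eq_single ((((a⁻¹ : Fˣ) : F) - (a : F)) * t)]
        · simp
        · intro x _ hx
          rw [if_neg]
          intro h
          exact hx (sub_eq_zero.1 h).symm
        · simp
      rw [Finset.sum_congr rfl fun t _ => hone t]
      simp only [Finset.sum_const, Finset.card_univ, nsmul_eq_mul, map_mul, map_natCast, MulChar.inv_apply', Units.val_inv_eq_inv_val]
      ring
    rw [Finset.sum_congr rfl fun a _ => hswap a, ← Finset.mul_sum, sum_pair_char]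
    by_cases e1 : α = α'⁻¹ <;> simp [e1]
    field_simp

end Cfsg.Lib.Classical.ProjLine
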