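import Cfsg.Prelude.Def_ParabolicCharacters
import Cfsg.Prelude.Def_Characters
import Mathlib

/-! Coset representatives of the upper triangular subgroup of `GL₂` and `SL₂`. -/

set_option autoImplicit false

namespace Cfsg.Lib.Classical.ProjLine

variable {F : Type*} [Field F]

open Matrix

lemma mem_upper {g : GL (Fin 2) F} :
    g ∈ Cfsg.upperTriangularGL 2 F ↔ (g : Matrix (Fin 2) (Fin 2) F) 1 0 = 0 := by
  refine ⟨fun h => h (by decide), fun h => ?_⟩
  intro i j hij
  fin_cases i <;> fin_cases j <;> simp_all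

/-- Representatives of `GL₂ / B`. -/
def rGL : Option F → GL (Fin 2) F
  | none => 1
  | some t => ⟨!![t, 1; 1, 0], !![0, 1; 1, -t], by ext i j; fin_cases i <;> fin_cases j <;> simp [Matrix.mul_apply],
      by ext i j; fin_cases i <;> fin_cases j <;> simp [Matrix.mul_apply]⟩

lemma coe_rGL (t : F) : ((rGL (some t) : GL (Fin 2) F) : Matrix (Fin 2) (Fin 2) F) = !![t, 1; 1, 0] ∧
    (((rGL (some t))⁻¹ : GL (Fin 2) F) : Matrix (Fin 2) (Fin 2) F) = !![0, 1; 1, -t] := ⟨rfl, rfl⟩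

lemma conj_rGL (g : GL (Fin 2) F) (t : F) :
    (((rGL (some t))⁻¹ * g * rGL (some t) : GL (Fin 2) F) : Matrix (Fin 2) (Fin 2) F) 1 0 =
      -((g : Matrix (Fin 2) (Fin 2) F) 1 0 * t ^ 2 + ((g : Matrix (Fin 2) (Fin 2) F) 1 1 - (g : Matrix (Fin 2) (Fin 2) F) 0 0) * t - (g : Matrix (Fin 2) (Fin 2) F) 0 1) := by
  simp only [Units.val_mul, (coe_rGL t).1, (coe_rGL t).2, Matrix.mul_apply, Fin.sum_univ_two]
  simp
  ring

lemma rGL_bij : Function.Bijective (fun o : Option F => (rGL o : GL (Fin 2) F ⧸ Cfsg.upperTriangularGL 2 F)) := by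
  refine ⟨fun o o' h => ?_, fun q => ?_⟩
  · rw [QuotientGroup.eq, mem_upper] at h
    rcases o with _ | t <;> rcases o' with _ | u <;>
      simp [rGL, Matrix.mul_apply, Fin.sum_univ_two] at h ⊢
    linear_combination -h
  · induction q using QuotientGroup.induction_on with | H x => ?_
    by_cases hx : (x : Matrix (Fin 2) (Fin 2) F) 1 0 = 0
    · exact ⟨none, QuotientGroup.eq.2 (by rw [mem_upper]; simpa [rGL] using hx)⟩
    · refine ⟨some ((x : Matrix (Fin 2) (Fin 2) F) 0 0 / (x : Matrix (Fin 2) (Fin 2) F) 1 0), QuotientGroup.eq.2 ?_⟩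
      rw [mem_upper]
      simp [rGL, Matrix.mul_apply, Fin.sum_univ_two]
      field_simp
      ring

/-- The number of fixed points of `g` on the projective line. -/
lemma fixedPointCharacter_eq [Fintype F] [DecidableEq F] (g : GL (Fin 2) F) :
    Cfsg.fixedPointCharacter (Cfsg.upperTriangularGL 2 F) g =
      (((if (g : Matrix (Fin 2) (Fin 2) F) 1 0 = 0 then 1 else 0) +
        (Finset.univ.filter fun t : F => (g : Matrix (Fin 2) (Fin 2) F) 1 0 * t ^ 2 + ((g : Matrix (Fin 2) (Fin 2) F) 1 1 - (g : Matrix (Fin 2) (Fin 2) F) 0 0) * t - (g : Matrix (Fin 2) (Fin 2) F) 0 1 = 0).card : ℕ) : ℂ) := by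
  set e := Equiv.ofBijective _ (rGL_bij (F := F))
  have h : Nat.card (MulAction.fixedBy (GL (Fin 2) F ⧸ Cfsg.upperTriangularGL 2 F) g) =
      Nat.card {o : Option F // ((rGL o)⁻¹ * g * rGL o : GL (Fin 2) F) ∈ Cfsg.upperTriangularGL 2 F} := by
    refine Nat.card_congr (e.subtypeEquiv (fun o => ?_)).symm
    show _ ↔ g • ((rGL o : GL (Fin 2) F) : GL (Fin 2) F ⧸ Cfsg.upperTriangularGL 2 F) = _
    rw [MulAction.Quotient.smul_coe, eq_comm]
    refine Iff.trans ?_ QuotientGroup.eq.symm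
    simp [mul_assoc]
  unfold Cfsg.fixedPointCharacter
  congr 1
  classical
  rw [h, Nat.card_eq_fintype_card, Fintype.card_subtype, Finset.card_filter, Fintype.sum_option, Finset.card_filter]
  congr 1
  · simp [mem_upper, rGL]
  · refine Finset.sum_congr rfl fun t _ => ?_
    rw [mem_upper, conj_rGL]
    simp only [neg_eq_zero]

/-- Representatives of `SL₂ / B`. -/
def rSL : Option F → SpecialLinearGroup (Fin 2) F
  | none => 1
  | some t => ⟨!![t, -1; 1, 0], by simp⟩

lemma coe_rSL (t : F) : ((rSL (some t) : SpecialLinearGroup (Fin 2) F) : Matrix (Fin 2) (Fin 2) F) = !![t, -1; 1, 0] ∧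
    (((rSL (some t))⁻¹ : SpecialLinearGroup (Fin 2) F) : Matrix (Fin 2) (Fin 2) F) = !![0, 1; -1, t] := by
  refine ⟨rfl, ?_⟩
  rw [Matrix.SpecialLinearGroup.coe_inv]
  simp [rSL, Matrix.adjugate_fin_two]

lemma mem_upperSL {g : SpecialLinearGroup (Fin 2) F} :
    g ∈ (Cfsg.upperTriangularGL 2 F).comap SpecialLinearGroup.toGL ↔ (g : Matrix (Fin 2) (Fin 2) F) 1 0 = 0 := by
  rw [Subgroup.mem_comap, mem_upper]
  rfl

lemma conj_rSL (g : SpecialLinearGroup (Fin 2) F) (t : F) :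
    (((rSL (some t))⁻¹ * g * rSL (some t) : SpecialLinearGroup (Fin 2) F) : Matrix (Fin 2) (Fin 2) F) 1 0 =
        (g : Matrix (Fin 2) (Fin 2) F) 1 0 * t ^ 2 + ((g : Matrix (Fin 2) (Fin 2) F) 1 1 - (g : Matrix (Fin 2) (Fin 2) F) 0 0) * t - (g : Matrix (Fin 2) (Fin 2) F) 0 1 ∧
    (((rSL (some t))⁻¹ * g * rSL (some t) : SpecialLinearGroup (Fin 2) F) : Matrix (Fin 2) (Fin 2) F) 0 0 =
        (g : Matrix (Fin 2) (Fin 2) F) 1 0 * t + (g : Matrix (Fin 2) (Fin 2) F) 1 1 := by
  constructor <;>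
    simp only [Matrix.SpecialLinearGroup.coe_mul, (coe_rSL t).1, (coe_rSL t).2, Matrix.mul_apply, Fin.sum_univ_two] <;>
    simp <;> ring

lemma rSL_bij : Function.Bijective
    (fun o : Option F => (rSL o : SpecialLinearGroup (Fin 2) F ⧸ (Cfsg.upperTriangularGL 2 F).comap SpecialLinearGroup.toGL)) := by
  refine ⟨fun o o' h => ?_, fun q => ?_⟩
  · rw [QuotientGroup.eq, mem_upperSL] at h
    rcases o with _ | t <;> rcases o' with _ | u
    · rfl
    · rw [show rSL (none : Option F) = 1 from rfl, inv_one, one_mul, (coe_rSL u).1] at h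
      simp at h
    · rw [show rSL (none : Option F) = 1 from rfl, mul_one, (coe_rSL t).2] at h
      simp at h
    · rw [Matrix.SpecialLinearGroup.coe_mul, (coe_rSL t).2, (coe_rSL u).1] at h
      simp at h
      exact congrArg some (by linear_combination h)
  · induction q using QuotientGroup.induction_on with | H x => ?_
    by_cases hx : (x : Matrix (Fin 2) (Fin 2) F) 1 0 = 0
    · exact ⟨none, QuotientGroup.eq.2 (by rw [mem_upperSL]; simpa [rSL] using hx)⟩
    · refine ⟨some ((x : Matrix (Fin 2) (Fin 2) F) 0 0 / (x : Matrix (Fin 2) (Fin 2) F) 1 0), QuotientGroup.eq.2 ?_⟩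
      rw [mem_upperSL, Matrix.SpecialLinearGroup.coe_mul, (coe_rSL _).2, Matrix.mul_apply, Fin.sum_univ_two]
      simp
      field_simp
      ring

/-- Induction from the Borel subgroup of `SL₂` as a sum over the projective line. -/
lemma indFun_eq {F : Type*} [Field F] [Fintype F] [DecidableEq F] (α : MulChar F ℂ) (g : SpecialLinearGroup (Fin 2) F) :
    Cfsg.indFun ((Cfsg.upperTriangularGL 2 F).comap SpecialLinearGroup.toGL)
        (fun b => α (((b : SpecialLinearGroup (Fin 2) F) : Matrix (Fin 2) (Fin 2) F) 0 0)) g =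
      (if (g : Matrix (Fin 2) (Fin 2) F) 1 0 = 0 then α ((g : Matrix (Fin 2) (Fin 2) F) 0 0) else 0) +
      ∑ t : F, (if (g : Matrix (Fin 2) (Fin 2) F) 1 0 * t ^ 2 + ((g : Matrix (Fin 2) (Fin 2) F) 1 1 - (g : Matrix (Fin 2) (Fin 2) F) 0 0) * t - (g : Matrix (Fin 2) (Fin 2) F) 0 1 = 0
        then α ((g : Matrix (Fin 2) (Fin 2) F) 1 0 * t + (g : Matrix (Fin 2) (Fin 2) F) 1 1) else 0) := by
  classical
  set B := (Cfsg.upperTriangularGL 2 F).comap SpecialLinearGroup.toGL with hB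
  set θ : B → ℂ := fun b => α (((b : SpecialLinearGroup (Fin 2) F) : Matrix (Fin 2) (Fin 2) F) 0 0) with hθ
  have hext : ∀ y, Cfsg.extendByZero B θ y =
      if (y : Matrix (Fin 2) (Fin 2) F) 1 0 = 0 then α ((y : Matrix (Fin 2) (Fin 2) F) 0 0) else 0 := by
    intro y
    unfold Cfsg.extendByZero
    by_cases hy : (y : Matrix (Fin 2) (Fin 2) F) 1 0 = 0
    · rw [if_pos hy, show y = ((⟨y, mem_upperSL.2 hy⟩ : B) : SpecialLinearGroup (Fin 2) F) from rfl,
        Subtype.val_injective.extend_apply]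
    · rw [if_neg hy, Function.extend_apply' _ _ _ (by rintro ⟨⟨z, hz⟩, rfl⟩; exact hy (mem_upperSL.1 hz))]
      rfl
  have hconj : ∀ (b : B) (y : SpecialLinearGroup (Fin 2) F),
      Cfsg.extendByZero B θ ((b : SpecialLinearGroup (Fin 2) F)⁻¹ * y * b) = Cfsg.extendByZero B θ y := by
    rintro ⟨b, hb⟩ y
    rw [hext, hext]
    have hb0 : (b : Matrix (Fin 2) (Fin 2) F) 1 0 = 0 := mem_upperSL.1 hb
    have hd := b.2
    rw [Matrix.det_fin_two, hb0, mul_zero, sub_zero] at hd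
    have h00 : (b : Matrix (Fin 2) (Fin 2) F) 0 0 ≠ 0 := fun e => by simp [e] at hd
    have hd1 : (b : Matrix (Fin 2) (Fin 2) F) 1 1 * (b : Matrix (Fin 2) (Fin 2) F) 0 0 = 1 := by linear_combination hd
    have e10 : ((b⁻¹ * y * b : SpecialLinearGroup (Fin 2) F) : Matrix (Fin 2) (Fin 2) F) 1 0 =
        (b : Matrix (Fin 2) (Fin 2) F) 0 0 ^ 2 * (y : Matrix (Fin 2) (Fin 2) F) 1 0 := by
      simp only [Matrix.SpecialLinearGroup.coe_mul, Matrix.SpecialLinearGroup.coe_inv, Matrix.adjugate_fin_two, Matrix.mul_apply, Fin.sum_univ_two]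
      simp [hb0]
      ring
    by_cases hy : (y : Matrix (Fin 2) (Fin 2) F) 1 0 = 0
    · have e00 : ((b⁻¹ * y * b : SpecialLinearGroup (Fin 2) F) : Matrix (Fin 2) (Fin 2) F) 0 0 = (y : Matrix (Fin 2) (Fin 2) F) 0 0 := by
        simp only [Matrix.SpecialLinearGroup.coe_mul, Matrix.SpecialLinearGroup.coe_inv, Matrix.adjugate_fin_two, Matrix.mul_apply, Fin.sum_univ_two]
        simp [hb0, hy]
        linear_combination (y : Matrix (Fin 2) (Fin 2) F) 0 0 * hd1
      rw [if_pos (by rw [e10, hy, mul_zero]), if_pos hy, e00]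
    · rw [if_neg (by rw [e10]; exact mul_ne_zero (pow_ne_zero 2 h00) hy), if_neg hy]
  have hbij : Function.Bijective (fun p : Option F × B => rSL p.1 * (p.2 : SpecialLinearGroup (Fin 2) F)) := by
    refine ⟨fun p p' h => ?_, fun x => ?_⟩
    · dsimp only at h
      have ho : p.1 = p'.1 := rSL_bij.1 (by
        have := congrArg (QuotientGroup.mk (s := B)) h
        simpa using this)
      refine Prod.ext ho (Subtype.ext ?_)
      rw [ho] at h
      exact mul_left_cancel h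
    · obtain ⟨o, ho⟩ := rSL_bij.2 (x : SpecialLinearGroup (Fin 2) F ⧸ B)
      exact ⟨(o, ⟨(rSL o)⁻¹ * x, QuotientGroup.eq.1 ho⟩), by simp⟩
  unfold Cfsg.indFun
  rw [← Equiv.sum_comp (Equiv.ofBijective _ hbij), Fintype.sum_prod_type]
  have hin : ∀ o : Option F, ∑ b : B, Cfsg.extendByZero B θ ((Equiv.ofBijective _ hbij (o, b))⁻¹ * g * Equiv.ofBijective _ hbij (o, b)) =
      (Nat.card B : ℂ) * Cfsg.extendByZero B θ ((rSL o)⁻¹ * g * rSL o) := by
    intro o
    rw [Finset.sum_congr rfl fun b _ => show _ = Cfsg.extendByZero B θ ((rSL o)⁻¹ * g * rSL o) from ?_, Finset.sum_const,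
      Finset.card_univ, Nat.card_eq_fintype_card, nsmul_eq_mul]
    conv_rhs => rw [← hconj b]
    simp [mul_assoc]
  rw [Finset.sum_congr rfl fun o _ => hin o, ← Finset.mul_sum, ← mul_assoc,
    inv_mul_cancel₀ (Nat.cast_ne_zero.2 Nat.card_pos.ne'), one_mul, Fintype.sum_option]
  congr 1
  · simp [hext, rSL]
  · refine Finset.sum_congr rfl fun t _ => ?_
    rw [hext, (conj_rSL g t).1, (conj_rSL g t).2]

end Cfsg.Lib.Classical.ProjLine
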