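-- Helper library: semisimple elements of SL(2, F) with the same trace are conjugate in SL(2, F).
import Mathlib

set_option autoImplicit false

open Matrix
open scoped MatrixGroups

namespace Cfsg.Lib.SLTwoConj

variable {F : Type*} [Field F]

/-- The companion element. -/
def comp (t : F) : SL(2, F) := ⟨!![0, -1; 1, t], by rw [Matrix.det_fin_two_of]; ring⟩

theorem exists_vec [Finite F] (h2 : (2 : F) ≠ 0) (a b c d : F) (hdet : a * d - b * c = 1) (ht : (a + d) ^ 2 ≠ 4) :
    ∃ v w : F, c * v ^ 2 + (d - a) * v * w - b * w ^ 2 = 1 := by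
  classical
  haveI := Fintype.ofFinite F
  set D := (a + d) ^ 2 - 4 with hD
  have hD0 : D ≠ 0 := sub_ne_zero.2 ht
  by_cases hc : c = 0
  · subst hc
    have hda : d - a ≠ 0 := fun e => hD0 (by rw [hD]; linear_combination (d - a) * e + 4 * hdet)
    exact ⟨(1 + b) / (d - a), 1, by field_simp; ring⟩
  · obtain ⟨x, w, hxw⟩ := FiniteField.exists_root_sum_quadratic (R := F) (f := Polynomial.C 1 * Polynomial.X ^ 2)
      (g := Polynomial.C (-D) * Polynomial.X ^ 2 + Polynomial.C (-4 * c))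
      (by rw [Polynomial.degree_C_mul_X_pow 2 one_ne_zero]; rfl)
      (by
        rw [Polynomial.degree_add_eq_left_of_degree_lt] <;> rw [Polynomial.degree_C_mul_X_pow 2 (neg_ne_zero.2 hD0)]
        · rfl
        · exact Polynomial.degree_C_le.trans_lt (by norm_num))
      (by
        rcases Nat.mod_two_eq_zero_or_one (Fintype.card F) with h0 | h0
        · exact absurd (by
            haveI : CharP F 2 := (FiniteField.even_card_iff_char_two.2 h0) ▸ ringChar.charP F
            exact CharTwo.two_eq_zero) h2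
        · exact h0)
    simp only [Polynomial.eval_mul, Polynomial.eval_C, Polynomial.eval_pow, Polynomial.eval_X, Polynomial.eval_add, one_mul] at hxw
    refine ⟨(x - (d - a) * w) / (2 * c), w, ?_⟩
    field_simp
    linear_combination hxw + 4 * w ^ 2 * hdet + (hD - hD) * 0

/-- An element with trace `t`, `t² ≠ 4`, is conjugate to the companion element. -/
theorem exists_conj_comp [Finite F] (h2 : (2 : F) ≠ 0) (A : SL(2, F)) {t : F} (htr : A 0 0 + A 1 1 = t) (ht : t ^ 2 ≠ 4) :
    ∃ P : SL(2, F), A * P = P * comp t := by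
  have hd := A.det_coe
  rw [Matrix.det_fin_two] at hd
  obtain ⟨v, w, h⟩ := exists_vec h2 _ _ _ _ hd (by rw [htr]; exact ht)
  refine ⟨⟨!![v, A 0 0 * v + A 0 1 * w; w, A 1 0 * v + A 1 1 * w], by rw [Matrix.det_fin_two_of]; linear_combination h⟩, ?_⟩
  apply Subtype.ext
  show (A : Matrix (Fin 2) (Fin 2) F) * !![v, A 0 0 * v + A 0 1 * w; w, A 1 0 * v + A 1 1 * w] =
    !![v, A 0 0 * v + A 0 1 * w; w, A 1 0 * v + A 1 1 * w] * (comp t : SL(2, F)).1
  ext i j
  fin_cases i <;> fin_cases j <;> simp [comp, Matrix.mul_apply, Fin.sum_univ_two, ← htr]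
  · linear_combination -v * hd
  · linear_combination -w * hd

/-- Elements with the same trace are conjugate. -/
theorem isConj_of_trace [Finite F] (h2 : (2 : F) ≠ 0) (A B : SL(2, F)) (h : A 0 0 + A 1 1 = B 0 0 + B 1 1) (ht : (A 0 0 + A 1 1) ^ 2 ≠ 4) :
    ∃ P : SL(2, F), P⁻¹ * A * P = B := by
  obtain ⟨P, hP⟩ := exists_conj_comp h2 A rfl ht
  obtain ⟨Q, hQ⟩ := exists_conj_comp h2 B h.symm ht
  refine ⟨P * Q⁻¹, ?_⟩
  rw [show (P * Q⁻¹)⁻¹ * A * (P * Q⁻¹) = Q * (P⁻¹ * (A * P)) * Q⁻¹ by group, hP, inv_mul_cancel_left, ← hQ, mul_inv_cancel_right]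

end Cfsg.Lib.SLTwoConj
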