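import Cfsg.Agent.Lib.Classical.TwoDimSLFacts
import Cfsg.Agent.Lib.Classical.SLTwoConj

/-! The split and non-split tori of `SL₂` in odd characteristic. -/

set_option autoImplicit false
set_option linter.unusedSectionVars false

namespace Cfsg.Lib.Classical.TwoDim

open Matrix

/-- Classes of a group with an abelian subgroup of index two inverted outside. -/
theorem card_classes_of_inverting {N : Type*} [Group N] [Finite N] (T : Subgroup N) (z : N)
    (hT : ∀ x ∈ T, ∀ y ∈ T, x * y = y * x) (hzT : z ∈ T) (hz1 : z ≠ 1) (hzz : z * z = 1)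
    (hsq : ∀ x ∈ T, x * x = 1 → x = 1 ∨ x = z)
    (hout : ∀ h : N, h ∉ T → h * h = z ∧ ∀ x ∈ T, h * x * h⁻¹ = x⁻¹)
    (hmul : ∀ h k : N, h ∉ T → k ∉ T → h * k ∈ T) {h₀ : N} (hh₀ : h₀ ∉ T) :
    Nat.card N = 2 * Nat.card T ∧ 2 * Nat.card (ConjClasses N) = Nat.card T + 6 := by
  classical
  have := Fintype.ofFinite N
  have hidx : T.index = 2 := by
    refine Subgroup.index_eq_two_iff.2 ⟨h₀, fun b => ?_⟩
    by_cases hb : b ∈ T
    · exact Or.inr ⟨hb, fun h => hh₀ ((T.mul_mem_cancel_left hb).1 h)⟩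
    · exact Or.inl ⟨hmul b h₀ hb hh₀, hb⟩
  have hcard : Nat.card N = 2 * Nat.card T := by rw [← T.card_mul_index, hidx, mul_comm]
  refine ⟨hcard, ?_⟩
  have hzc : ∀ x : N, z * x = x * z := by
    intro x
    by_cases hx : x ∈ T
    · exact hT z hzT x hx
    · have h := (hout x hx).2 z hzT
      rw [inv_eq_of_mul_eq_one_right hzz, mul_inv_eq_iff_eq_mul] at h
      exact h.symm
  have hC : ∀ g : N, Nat.card {x : N // Commute g x} =
      if g ∈ T then (if g = 1 ∨ g = z then Nat.card N else Nat.card T) else 4 := by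
    intro g
    split_ifs with hg h1
    · refine Nat.card_congr (Equiv.subtypeUnivEquiv fun x => ?_)
      rcases h1 with h | h <;> rw [h]
      · exact Commute.one_left x
      · exact hzc x
    · refine Nat.card_congr (Equiv.subtypeEquivRight fun x => ⟨fun hc => ?_, fun hx => hT g hg x hx⟩)
      by_contra hx
      apply h1
      have h := (hout x hx).2 g hg
      rw [← hc.eq, mul_inv_cancel_right] at h
      exact hsq g hg (by nth_rewrite 1 [h]; exact inv_mul_cancel g)
    · have hset : ∀ x : N, Commute g x ↔ x ∈ ({1, z, g, g * z} : Finset N) := by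
        intro x
        simp only [Finset.mem_insert, Finset.mem_singleton]
        refine ⟨fun hc => ?_, ?_⟩
        · have key : ∀ y ∈ T, Commute g y → y = 1 ∨ y = z := by
            intro y hy hgy
            have h := (hout g hg).2 y hy
            rw [hgy.eq, mul_inv_cancel_right] at h
            exact hsq y hy (by nth_rewrite 1 [h]; exact inv_mul_cancel y)
          by_cases hx : x ∈ T
          · rcases key x hx hc with h | h
            · exact Or.inl h
            · exact Or.inr (Or.inl h)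
          · have hgg : g⁻¹ = g * z := by
              rw [inv_eq_iff_mul_eq_one, ← mul_assoc, (hout g hg).1, hzz]
            rcases key (g * x) (hmul g x hg hx) ((Commute.refl g).mul_right hc) with h | h
            · exact Or.inr (Or.inr (Or.inr (by rw [← hgg]; exact eq_inv_of_mul_eq_one_right h)))
            · refine Or.inr (Or.inr (Or.inl ?_))
              rw [← inv_mul_cancel_left g x, h, hgg, mul_assoc, hzz, mul_one]
        · rintro (h | h | h | h) <;> rw [h]
          all_goals first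
            | exact Commute.one_right g
            | exact (hzc g).symm
            | exact (Commute.refl g).mul_right (hzc g).symm
      rw [Nat.card_congr (Equiv.subtypeEquivRight hset), Nat.card_eq_finsetCard]
      have e1 : (1 : N) ≠ g := fun h => hg (h ▸ one_mem T)
      have e2 : z ≠ g := fun h => hg (h ▸ hzT)
      have e3 : (1 : N) ≠ g * z := fun h => hg (by
        rw [show g = z⁻¹ from eq_inv_of_mul_eq_one_left h.symm]; exact inv_mem hzT)
      have e4 : z ≠ g * z := fun h => e1 (mul_right_cancel ((one_mul z).trans h))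
      have e5 : g ≠ g * z := fun h => hz1 (mul_left_cancel ((mul_one g).trans h)).symm
      simp [hz1.symm, e1, e2, e3, e4, e5]
  have hpairs : Nat.card {p : N × N // Commute p.1 p.2} = ∑ g : N, Nat.card {x : N // Commute g x} := by
    rw [Nat.card_congr (Equiv.subtypeProdEquivSigmaSubtype fun g x => Commute g x), Nat.card_sigma]
  rw [card_comm_eq_card_conjClasses_mul_card] at hpairs
  have hTc : (Finset.univ.filter fun g : N => g ∈ T).card = Nat.card T := by
    rw [Nat.card_eq_fintype_card, ← Fintype.card_subtype]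
  have hT2 : ((Finset.univ.filter fun g : N => g ∈ T).filter fun g => g = 1 ∨ g = z).card = 2 := by
    rw [show ((Finset.univ.filter fun g : N => g ∈ T).filter fun g => g = 1 ∨ g = z) = {1, z} by
      ext g
      simp only [Finset.mem_filter, Finset.mem_univ, true_and, Finset.mem_insert, Finset.mem_singleton]
      exact ⟨And.right, fun h => ⟨by rcases h with rfl | rfl <;> simp [hzT], h⟩⟩]
    exact Finset.card_pair hz1.symm
  have hT3 := Finset.card_filter_add_card_filter_not (s := Finset.univ.filter fun g : N => g ∈ T) (fun g => g = 1 ∨ g = z)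
  have hT4 := Finset.card_filter_add_card_filter_not (s := (Finset.univ : Finset N)) (fun g => g ∈ T)
  simp only [hC] at hpairs
  rw [Finset.sum_ite, Finset.sum_ite, Finset.sum_const, Finset.sum_const, Finset.sum_const, smul_eq_mul, smul_eq_mul,
    smul_eq_mul, hT2] at hpairs
  rw [Finset.card_univ, ← Nat.card_eq_fintype_card] at hT4
  rw [hT2, hTc] at hT3
  rw [hTc] at hT4
  set t := Nat.card T
  rw [hcard] at hpairs hT4
  have h1 : (Finset.univ.filter fun g : N => ¬ g ∈ T).card = t := by omega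
  rw [h1] at hpairs
  obtain ⟨k, hk⟩ : ∃ k, t = k + 2 := ⟨_, (hT3.symm.trans (add_comm _ _))⟩
  have h2 : ((Finset.univ.filter fun g : N => g ∈ T).filter fun g => ¬(g = 1 ∨ g = z)).card = k := by omega
  rw [h2] at hpairs
  rw [hk] at hpairs ⊢
  apply Nat.eq_of_mul_eq_mul_right (show 0 < k + 2 by omega)
  linear_combination hpairs

variable {F : Type*} [Field F]

lemma eq_one_or_neg_one_of_inv_eq (h2 : (2 : F) ≠ 0) {A : SpecialLinearGroup (Fin 2) F} (h : A * A = 1) :
    A = 1 ∨ A = -1 := by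
  have hi : A⁻¹ = A := inv_eq_of_mul_eq_one_right h
  have e00 := congrArg (fun z : SpecialLinearGroup (Fin 2) F => (z : Matrix (Fin 2) (Fin 2) F) 0 0) hi
  have e01 := congrArg (fun z : SpecialLinearGroup (Fin 2) F => (z : Matrix (Fin 2) (Fin 2) F) 0 1) hi
  have e10 := congrArg (fun z : SpecialLinearGroup (Fin 2) F => (z : Matrix (Fin 2) (Fin 2) F) 1 0) hi
  simp [adjugate_fin_two] at e00 e01 e10
  have b0 : (A : Matrix (Fin 2) (Fin 2) F) 0 1 = 0 :=
    (mul_eq_zero.1 (show (2 : F) * (A : Matrix (Fin 2) (Fin 2) F) 0 1 = 0 by linear_combination -e01)).resolve_left h2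
  have c0 : (A : Matrix (Fin 2) (Fin 2) F) 1 0 = 0 :=
    (mul_eq_zero.1 (show (2 : F) * (A : Matrix (Fin 2) (Fin 2) F) 1 0 = 0 by linear_combination -e10)).resolve_left h2
  have hd := A.2
  rw [det_fin_two, b0, zero_mul, sub_zero, e00] at hd
  rcases mul_self_eq_one_iff.1 hd with h | h
  · exact Or.inl (Subtype.ext (by ext i j; fin_cases i <;> fin_cases j <;> simp [b0, c0, e00, h]))
  · exact Or.inr (Subtype.ext (by ext i j; fin_cases i <;> fin_cases j <;> simp [b0, c0, e00, h]))

lemma neg_one_ne' (h2 : (2 : F) ≠ 0) : (-1 : SpecialLinearGroup (Fin 2) F) ≠ 1 := fun h => h2 (by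
  have h' := congrArg (fun z : SpecialLinearGroup (Fin 2) F => (z : Matrix (Fin 2) (Fin 2) F) 0 0) h
  simp at h'
  linear_combination -h')

/-- A torus: an abelian subgroup with a coset of elements of square `-1`. -/
structure TorusData (T : Subgroup (SpecialLinearGroup (Fin 2) F)) (W : Set (SpecialLinearGroup (Fin 2) F)) : Prop where
  comm : ∀ x ∈ T, ∀ y ∈ T, x * y = y * x
  neg_mem : (-1 : SpecialLinearGroup (Fin 2) F) ∈ T
  sqW : ∀ w ∈ W, w * w = -1
  disj : ∀ w ∈ W, w ∉ T
  neW : W.Nonempty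
  mulT : ∀ w ∈ W, ∀ x ∈ T, w * x ∈ W
  norm : ∀ g X, X ∈ T → X ≠ 1 → X ≠ -1 → g * X * g⁻¹ ∈ T → g ∈ T ∨ g ∈ W

namespace TorusData

variable {T : Subgroup (SpecialLinearGroup (Fin 2) F)} {W : Set (SpecialLinearGroup (Fin 2) F)}

lemma inv_conj (D : TorusData T W) {w x : SpecialLinearGroup (Fin 2) F} (hw : w ∈ W) (hx : x ∈ T) :
    w * x * w⁻¹ = x⁻¹ := by
  have h1 : w * x * (w * x) = w * w := by rw [D.sqW _ (D.mulT w hw x hx), D.sqW w hw]
  have h2 : x * w * x = w := by
    rw [show w * x * (w * x) = w * (x * w * x) by group] at h1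
    exact mul_left_cancel h1
  calc w * x * w⁻¹ = x⁻¹ * (x * w * x) * w⁻¹ := by group
    _ = x⁻¹ := by rw [h2, mul_inv_cancel_right]

lemma centralizer_elem (D : TorusData T W) (h2 : (2 : F) ≠ 0) {X : SpecialLinearGroup (Fin 2) F} (hX : X ∈ T) (h1 : X ≠ 1) (hn : X ≠ -1) :
    Subgroup.centralizer ({X} : Set (SpecialLinearGroup (Fin 2) F)) = T := by
  refine le_antisymm (fun g hg => ?_) fun g hg => Subgroup.mem_centralizer_singleton_iff.2 (D.comm g hg X hX)
  rw [Subgroup.mem_centralizer_singleton_iff] at hg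
  have hgX : g * X * g⁻¹ = X := by rw [hg, mul_inv_cancel_right]
  refine (D.norm g X hX h1 hn (by rwa [hgX])).resolve_right fun hgW => ?_
  have := D.inv_conj hgW hX
  rw [hgX] at this
  rcases eq_one_or_neg_one_of_inv_eq h2 (show X * X = 1 by nth_rewrite 1 [this]; exact inv_mul_cancel X) with h | h
  · exact h1 h
  · exact hn h

lemma mem_normalizer (D : TorusData T W) {X : SpecialLinearGroup (Fin 2) F} (hX : X ∈ T) (h1 : X ≠ 1) (hn : X ≠ -1)
    (g : SpecialLinearGroup (Fin 2) F) :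
    g ∈ Subgroup.normalizer (T : Set (SpecialLinearGroup (Fin 2) F)) ↔ g ∈ T ∨ g ∈ W := by
  refine ⟨fun h => D.norm g X hX h1 hn ((Subgroup.mem_normalizer_iff.1 h X).1 hX), fun h => Subgroup.mem_normalizer_iff.2 fun x => ?_⟩
  rcases h with h | h
  · exact ⟨fun hx => T.mul_mem (T.mul_mem h hx) (T.inv_mem h), fun hx => by
      have := T.mul_mem (T.mul_mem (T.inv_mem h) hx) h
      simpa [mul_assoc] using this⟩
  · refine ⟨fun hx => by rw [D.inv_conj h hx]; exact T.inv_mem hx, fun hx => ?_⟩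
    have h' : g⁻¹ ∈ W := by
      have : g⁻¹ = g * -1 := by rw [inv_eq_iff_mul_eq_one, ← mul_assoc, D.sqW g h]; simp
      rw [this]; exact D.mulT g h _ D.neg_mem
    have := D.inv_conj h' hx
    simp only [inv_inv, mul_assoc, inv_mul_cancel, mul_one, inv_mul_cancel_left] at this
    rw [this]
    exact T.inv_mem (by simpa [mul_assoc] using hx)

/-- The normalizer of a torus: order and class number. -/
theorem normalizer_facts [Finite F] (D : TorusData T W) (h2 : (2 : F) ≠ 0) {X : SpecialLinearGroup (Fin 2) F} (hX : X ∈ T) (h1 : X ≠ 1) (hn : X ≠ -1) :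
    Nat.card (Subgroup.normalizer (T : Set (SpecialLinearGroup (Fin 2) F))) = 2 * Nat.card T ∧
    2 * Nat.card (ConjClasses (Subgroup.normalizer (T : Set (SpecialLinearGroup (Fin 2) F)))) = Nat.card T + 6 ∧
    ∀ g ∈ Subgroup.normalizer (T : Set (SpecialLinearGroup (Fin 2) F)), g ∉ T → g * g = -1 := by
  classical
  set N := Subgroup.normalizer (T : Set (SpecialLinearGroup (Fin 2) F))
  have hW : ∀ g ∈ N, g ∉ T → g ∈ W := fun g hg hgT => ((D.mem_normalizer hX h1 hn g).1 hg).resolve_left hgT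
  obtain ⟨w, hw⟩ := D.neW
  have hwN : w ∈ N := (D.mem_normalizer hX h1 hn w).2 (Or.inr hw)
  have hTN : T ≤ N := fun g hg => (D.mem_normalizer hX h1 hn g).2 (Or.inl hg)
  obtain ⟨hc1, hc2⟩ := card_classes_of_inverting (T.subgroupOf N) ⟨-1, hTN D.neg_mem⟩
    (fun x hx y hy => Subtype.ext (D.comm _ hx _ hy)) D.neg_mem
    (fun h => neg_one_ne' h2 (congrArg Subtype.val h)) (Subtype.ext (by simp))
    (fun x _ hxx => (eq_one_or_neg_one_of_inv_eq h2 (congrArg Subtype.val hxx)).imp Subtype.ext Subtype.ext)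
    (fun h hh => ⟨Subtype.ext (D.sqW _ (hW _ h.2 hh)), fun x hx => Subtype.ext (D.inv_conj (hW _ h.2 hh) hx)⟩)
    (fun h k hh hk => by
      show (h : SpecialLinearGroup (Fin 2) F) * k ∈ T
      by_contra hc
      have hkW := hW _ k.2 hk
      have e := D.mulT _ (hW _ h.2 hh) 1 T.one_mem
      have hhk : (h : SpecialLinearGroup (Fin 2) F) * k ∈ W := hW _ (N.mul_mem h.2 k.2) hc
      have i1 := D.inv_conj (hW _ h.2 hh) hX
      have i2 := D.inv_conj hkW hX
      have i3 := D.inv_conj hhk hX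
      rw [show (h : SpecialLinearGroup (Fin 2) F) * k * X * ((h : SpecialLinearGroup (Fin 2) F) * k)⁻¹ =
        h * (k * X * (k : SpecialLinearGroup (Fin 2) F)⁻¹) * (h : SpecialLinearGroup (Fin 2) F)⁻¹ by group, i2,
        D.inv_conj (hW _ h.2 hh) (T.inv_mem hX), inv_inv] at i3
      rcases eq_one_or_neg_one_of_inv_eq h2 (show X * X = 1 by nth_rewrite 1 [i3]; exact inv_mul_cancel X) with h' | h'
      · exact h1 h'
      · exact hn h')
    (h₀ := ⟨w, hwN⟩) (D.disj w hw)
  rw [Nat.card_congr (Subgroup.subgroupOfEquivOfLe hTN).toEquiv] at hc1 hc2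
  exact ⟨hc1, hc2, fun g hg hgT => D.sqW g (hW g hg hgT)⟩

end TorusData

/-- The diagonal torus. -/
def diagTorus : Subgroup (SpecialLinearGroup (Fin 2) F) where
  carrier := {g | (g : Matrix (Fin 2) (Fin 2) F) 0 1 = 0 ∧ (g : Matrix (Fin 2) (Fin 2) F) 1 0 = 0}
  one_mem' := by simp
  mul_mem' := fun {a b} ha hb => by simp [Matrix.mul_apply, Fin.sum_univ_two, ha.1, ha.2, hb.1, hb.2]
  inv_mem' := fun {a} ha => by simp [SpecialLinearGroup.coe_inv, adjugate_fin_two, ha.1, ha.2]

lemma mem_diagTorus {g : SpecialLinearGroup (Fin 2) F} :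
    g ∈ diagTorus ↔ (g : Matrix (Fin 2) (Fin 2) F) 0 1 = 0 ∧ (g : Matrix (Fin 2) (Fin 2) F) 1 0 = 0 := Iff.rfl

/-- The non-split torus of a non-square. -/
def nsTorus (ε : F) : Subgroup (SpecialLinearGroup (Fin 2) F) where
  carrier := {g | (g : Matrix (Fin 2) (Fin 2) F) 0 0 = (g : Matrix (Fin 2) (Fin 2) F) 1 1 ∧
    (g : Matrix (Fin 2) (Fin 2) F) 0 1 = ε * (g : Matrix (Fin 2) (Fin 2) F) 1 0}
  one_mem' := by simp
  mul_mem' := fun {a b} ha hb => by
    constructor <;> simp [Matrix.mul_apply, Fin.sum_univ_two, ha.1, ha.2, hb.1, hb.2] <;> ring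
  inv_mem' := fun {a} ha => by simp [SpecialLinearGroup.coe_inv, adjugate_fin_two, ha.1, ha.2]

lemma mem_nsTorus {ε : F} {g : SpecialLinearGroup (Fin 2) F} :
    g ∈ nsTorus ε ↔ (g : Matrix (Fin 2) (Fin 2) F) 0 0 = (g : Matrix (Fin 2) (Fin 2) F) 1 1 ∧
    (g : Matrix (Fin 2) (Fin 2) F) 0 1 = ε * (g : Matrix (Fin 2) (Fin 2) F) 1 0 := Iff.rfl

lemma diag_ne {X : SpecialLinearGroup (Fin 2) F} (hX : X ∈ diagTorus) (h1 : X ≠ 1) (hn : X ≠ -1) :
    (X : Matrix (Fin 2) (Fin 2) F) 0 0 ≠ (X : Matrix (Fin 2) (Fin 2) F) 1 1 := by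
  intro h
  have hd := X.2
  rw [det_fin_two, hX.1, zero_mul, sub_zero, ← h] at hd
  rcases mul_self_eq_one_iff.1 hd with e | e
  · exact h1 (Subtype.ext (by ext i j; fin_cases i <;> fin_cases j <;> simp [hX.1, hX.2, ← h, e]))
  · exact hn (Subtype.ext (by ext i j; fin_cases i <;> fin_cases j <;> simp [hX.1, hX.2, ← h, e]))

lemma diag_data (h2 : (2 : F) ≠ 0) : TorusData (diagTorus (F := F))
    {g | (g : Matrix (Fin 2) (Fin 2) F) 0 0 = 0 ∧ (g : Matrix (Fin 2) (Fin 2) F) 1 1 = 0} where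
  comm := fun x hx y hy => Subtype.ext (by
    ext i j; fin_cases i <;> fin_cases j <;> simp [Matrix.mul_apply, Fin.sum_univ_two, hx.1, hx.2, hy.1, hy.2, mul_comm])
  neg_mem := by simp [mem_diagTorus]
  sqW := fun w hw => by
    have hd := w.2
    rw [det_fin_two, hw.1, zero_mul, zero_sub] at hd
    refine Subtype.ext ?_
    ext i j
    fin_cases i <;> fin_cases j <;> simp [Matrix.mul_apply, Fin.sum_univ_two, hw.1, hw.2] <;> linear_combination -hd
  disj := fun w hw hwT => by
    have hd := w.2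
    rw [det_fin_two, hw.1, hwT.1] at hd
    simp at hd
  neW := ⟨⟨!![0, 1; -1, 0], by simp [det_fin_two]⟩, ⟨rfl, rfl⟩⟩
  mulT := fun w hw x hx => by simp [Matrix.mul_apply, Fin.sum_univ_two, hw.1, hw.2, hx.1, hx.2]
  norm := fun g X hX h1 hn hY => by
    set Y := g * X * g⁻¹ with hYdef
    have h : Y * g = g * X := by rw [hYdef, inv_mul_cancel_right]
    have hne := diag_ne hX h1 hn
    have e00 := congrArg (fun z : SpecialLinearGroup (Fin 2) F => (z : Matrix (Fin 2) (Fin 2) F) 0 0) h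
    have e01 := congrArg (fun z : SpecialLinearGroup (Fin 2) F => (z : Matrix (Fin 2) (Fin 2) F) 0 1) h
    have e10 := congrArg (fun z : SpecialLinearGroup (Fin 2) F => (z : Matrix (Fin 2) (Fin 2) F) 1 0) h
    have e11 := congrArg (fun z : SpecialLinearGroup (Fin 2) F => (z : Matrix (Fin 2) (Fin 2) F) 1 1) h
    simp [Matrix.mul_apply, Fin.sum_univ_two, hX.1, hX.2, hY.1, hY.2] at e00 e01 e10 e11
    by_cases hg : (g : Matrix (Fin 2) (Fin 2) F) 0 0 = 0
    · right
      refine ⟨hg, ?_⟩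
      have hd := g.2
      rw [det_fin_two, hg, zero_mul, zero_sub] at hd
      by_contra hs
      have hc : (g : Matrix (Fin 2) (Fin 2) F) 1 0 ≠ 0 := fun e => by rw [e, mul_zero, neg_zero] at hd; exact zero_ne_one hd
      exact hne (mul_left_cancel₀ hc (mul_left_cancel₀ hs (by
        linear_combination (g : Matrix (Fin 2) (Fin 2) F) 1 0 * e11 - (g : Matrix (Fin 2) (Fin 2) F) 1 1 * e10)))
    · left
      have hY0 : (Y : Matrix (Fin 2) (Fin 2) F) 0 0 = (X : Matrix (Fin 2) (Fin 2) F) 0 0 := mul_left_cancel₀ hg (by linear_combination e00)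
      have hb : (g : Matrix (Fin 2) (Fin 2) F) 0 1 = 0 := by
        by_contra hb
        exact hne (mul_left_cancel₀ hb (by linear_combination e01 - (g : Matrix (Fin 2) (Fin 2) F) 0 1 * hY0))
      have hd := g.2
      rw [det_fin_two, hb, zero_mul, sub_zero] at hd
      refine ⟨hb, ?_⟩
      by_contra hc
      have hs : (g : Matrix (Fin 2) (Fin 2) F) 1 1 ≠ 0 := fun e => by rw [e, mul_zero] at hd; exact zero_ne_one hd
      exact hne (mul_left_cancel₀ hs (mul_left_cancel₀ hc (by
        linear_combination (g : Matrix (Fin 2) (Fin 2) F) 1 0 * e11 - (g : Matrix (Fin 2) (Fin 2) F) 1 1 * e10)))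

variable [Fintype F] [DecidableEq F]

lemma ns_ne (h2 : (2 : F) ≠ 0) {ε : F} {X : SpecialLinearGroup (Fin 2) F} (hX : X ∈ nsTorus ε) (h1 : X ≠ 1) (hn : X ≠ -1) :
    (X : Matrix (Fin 2) (Fin 2) F) 1 0 ≠ 0 := by
  intro h
  have hd := X.2
  rw [det_fin_two, hX.2, h, mul_zero, sub_zero, ← hX.1] at hd
  rcases mul_self_eq_one_iff.1 hd with e | e
  · exact h1 (Subtype.ext (by ext i j; fin_cases i <;> fin_cases j <;> simp [hX.2, h, ← hX.1, e]))
  · exact hn (Subtype.ext (by ext i j; fin_cases i <;> fin_cases j <;> simp [hX.2, h, ← hX.1, e]))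

lemma ns_data (h2 : (2 : F) ≠ 0) {ε : F} (hε : ¬ IsSquare ε) : TorusData (nsTorus ε)
    {g | (g : Matrix (Fin 2) (Fin 2) F) 0 0 = -(g : Matrix (Fin 2) (Fin 2) F) 1 1 ∧
      (g : Matrix (Fin 2) (Fin 2) F) 0 1 = -(ε * (g : Matrix (Fin 2) (Fin 2) F) 1 0)} where
  comm := fun x hx y hy => Subtype.ext (by
    ext i j; fin_cases i <;> fin_cases j <;> simp [Matrix.mul_apply, Fin.sum_univ_two, hx.1, hx.2, hy.1, hy.2] <;> ring)
  neg_mem := by simp [mem_nsTorus]
  sqW := fun w hw => by
    have hd := w.2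
    rw [det_fin_two, hw.1, hw.2] at hd
    refine Subtype.ext ?_
    ext i j
    fin_cases i <;> fin_cases j <;> simp [Matrix.mul_apply, Fin.sum_univ_two, hw.1, hw.2] <;>
      first | linear_combination -hd | ring
  disj := fun w hw hwT => by
    have h11 : (w : Matrix (Fin 2) (Fin 2) F) 1 1 = 0 :=
      (mul_eq_zero.1 (show (2 : F) * (w : Matrix (Fin 2) (Fin 2) F) 1 1 = 0 by linear_combination hw.1 - hwT.1)).resolve_left h2
    have he : ε * (w : Matrix (Fin 2) (Fin 2) F) 1 0 = 0 :=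
      (mul_eq_zero.1 (show (2 : F) * (ε * (w : Matrix (Fin 2) (Fin 2) F) 1 0) = 0 by linear_combination hw.2 - hwT.2)).resolve_left h2
    have hd := w.2
    rw [det_fin_two, h11, hw.2, he] at hd
    simp at hd
  neW := by
    obtain ⟨a, c, hac⟩ := FiniteField.exists_root_sum_quadratic (f := Polynomial.X ^ 2 + Polynomial.C (1 : F))
      (g := Polynomial.C (-ε) * Polynomial.X ^ 2) (by rw [Polynomial.degree_X_pow_add_C (by norm_num)]; rfl)
      (by rw [Polynomial.degree_C_mul_X_pow _ (neg_ne_zero.2 fun (h : ε = 0) => hε (h ▸ IsSquare.zero))]; rfl)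
      (FiniteField.odd_card_of_char_ne_two (fun h => by
        have := ringChar.Nat.cast_ringChar (R := F); rw [h] at this; exact h2 (by exact_mod_cast this)))
    simp only [Polynomial.eval_add, Polynomial.eval_pow, Polynomial.eval_X, Polynomial.eval_C, Polynomial.eval_mul] at hac
    exact ⟨⟨!![a, -(ε * c); c, -a], by simp [det_fin_two]; linear_combination -hac⟩, ⟨(neg_neg a).symm, rfl⟩⟩
  mulT := fun w hw x hx => by
    constructor <;> simp [Matrix.mul_apply, Fin.sum_univ_two, hw.1, hw.2, hx.1, hx.2] <;> ring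
  norm := fun g X hX h1 hn hY => by
    set Y := g * X * g⁻¹ with hYdef
    have h : Y * g = g * X := by rw [hYdef, inv_mul_cancel_right]
    have hc := ns_ne h2 hX h1 hn
    have ht : (Y : Matrix (Fin 2) (Fin 2) F) 1 1 = (X : Matrix (Fin 2) (Fin 2) F) 1 1 := by
      have htr : (Y : Matrix (Fin 2) (Fin 2) F).trace = (X : Matrix (Fin 2) (Fin 2) F).trace := by
        rw [hYdef]
        show ((g : Matrix (Fin 2) (Fin 2) F) * (X : Matrix (Fin 2) (Fin 2) F) * ((g⁻¹ : SpecialLinearGroup (Fin 2) F) : Matrix (Fin 2) (Fin 2) F)).trace = _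
        rw [Matrix.trace_mul_comm]
        exact congrArg (fun z : SpecialLinearGroup (Fin 2) F => (z : Matrix (Fin 2) (Fin 2) F).trace) (inv_mul_cancel_left g X)
      rw [trace_fin_two, trace_fin_two, hY.1, hX.1] at htr
      exact mul_left_cancel₀ h2 (by linear_combination htr)
    have hdY := Y.2
    have hdX := X.2
    rw [det_fin_two, hY.1, hY.2, ht] at hdY
    rw [det_fin_two, hX.1, hX.2] at hdX
    have hε0 : ε ≠ 0 := fun h => hε (h ▸ IsSquare.zero)
    have hs : (Y : Matrix (Fin 2) (Fin 2) F) 1 0 = (X : Matrix (Fin 2) (Fin 2) F) 1 0 ∨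
        (Y : Matrix (Fin 2) (Fin 2) F) 1 0 = -(X : Matrix (Fin 2) (Fin 2) F) 1 0 :=
      mul_self_eq_mul_self_iff.1 (mul_left_cancel₀ hε0 (by linear_combination hdX - hdY))
    have e00 := congrArg (fun z : SpecialLinearGroup (Fin 2) F => (z : Matrix (Fin 2) (Fin 2) F) 0 0) h
    have e01 := congrArg (fun z : SpecialLinearGroup (Fin 2) F => (z : Matrix (Fin 2) (Fin 2) F) 0 1) h
    simp [Matrix.mul_apply, Fin.sum_univ_two, hX.1, hX.2, hY.1, hY.2, ht] at e00 e01
    rcases hs with hs | hs <;> rw [hs] at e00 e01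
    · left
      exact ⟨mul_left_cancel₀ (mul_ne_zero hε0 hc) (by linear_combination -e01),
        mul_left_cancel₀ hc (by linear_combination -e00)⟩
    · right
      exact ⟨mul_left_cancel₀ (mul_ne_zero hε0 hc) (by linear_combination -e01),
        mul_left_cancel₀ hc (by linear_combination -e00)⟩

lemma card_diagTorus : Nat.card (diagTorus (F := F)) = Fintype.card F - 1 := by
  have hd : ∀ g : diagTorus (F := F), (g.1 : Matrix (Fin 2) (Fin 2) F) 0 0 * (g.1 : Matrix (Fin 2) (Fin 2) F) 1 1 = 1 := fun g => by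
    have := g.1.2
    rwa [det_fin_two, g.2.1, zero_mul, sub_zero] at this
  let e : diagTorus (F := F) ≃ Fˣ :=
    { toFun := fun g => Units.mk0 _ (left_ne_zero_of_mul_eq_one (hd g))
      invFun := fun a => ⟨⟨!![(a : F), 0; 0, ((a⁻¹ : Fˣ) : F)], by simp [det_fin_two]⟩, ⟨rfl, rfl⟩⟩
      left_inv := fun g => Subtype.ext (Subtype.ext (by
        ext i j
        fin_cases i <;> fin_cases j <;> simp [g.2.1, g.2.2]
        exact (eq_inv_of_mul_eq_one_right (hd g)).symm))
      right_inv := fun a => Units.ext (by simp) }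
  rw [Nat.card_congr e, Nat.card_units, Nat.card_eq_fintype_card]

lemma isCyclic_diagTorus : IsCyclic (diagTorus (F := F)) := by
  let f : diagTorus (F := F) →* F :=
    { toFun := fun g => (g.1 : Matrix (Fin 2) (Fin 2) F) 0 0
      map_one' := by simp
      map_mul' := fun a b => by simp [Matrix.mul_apply, Fin.sum_univ_two, a.2.1] }
  refine isCyclic_of_injective_ringHom f fun a b h => ?_
  have ha := a.1.2
  have hb := b.1.2
  rw [det_fin_two, a.2.1, zero_mul, sub_zero] at ha
  rw [det_fin_two, b.2.1, zero_mul, sub_zero, ← show (a.1 : Matrix (Fin 2) (Fin 2) F) 0 0 = (b.1 : Matrix (Fin 2) (Fin 2) F) 0 0 from h] at hb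
  have h11 : (a.1 : Matrix (Fin 2) (Fin 2) F) 1 1 = (b.1 : Matrix (Fin 2) (Fin 2) F) 1 1 :=
    mul_left_cancel₀ (left_ne_zero_of_mul_eq_one ha) (ha.trans hb.symm)
  refine Subtype.ext (Subtype.ext ?_)
  ext i j
  fin_cases i <;> fin_cases j <;> simp [a.2.1, a.2.2, b.2.1, b.2.2, h11]
  exact h

variable {ε : F}

lemma isCyclic_nsTorus (hε : ¬ IsSquare ε) : IsCyclic (nsTorus ε) := by
  have hnz : ∀ z : QuadraticAlgebra F ε 0, z ≠ 0 → QuadraticAlgebra.norm z ≠ 0 := by
    intro z hz h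
    rw [QuadraticAlgebra.norm_def] at h
    simp at h
    by_cases hi : z.im = 0
    · refine hz (QuadraticAlgebra.ext ?_ hi)
      simpa [hi] using h
    · refine hε ⟨z.re / z.im, ?_⟩
      field_simp
      linear_combination -h
  have : NoZeroDivisors (QuadraticAlgebra F ε 0) := ⟨fun {a b} hab => by
    by_contra hc
    simp only [not_or] at hc
    exact mul_ne_zero (hnz a hc.1) (hnz b hc.2) (by rw [← map_mul, hab, QuadraticAlgebra.norm_zero])⟩
  have : IsDomain (QuadraticAlgebra F ε 0) := NoZeroDivisors.to_isDomain _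
  let f : nsTorus ε →* QuadraticAlgebra F ε 0 :=
    { toFun := fun g => ⟨(g.1 : Matrix (Fin 2) (Fin 2) F) 0 0, (g.1 : Matrix (Fin 2) (Fin 2) F) 1 0⟩
      map_one' := by ext <;> simp [QuadraticAlgebra.re_one, QuadraticAlgebra.im_one]
      map_mul' := fun a b => by
        ext <;> simp [Matrix.mul_apply, Fin.sum_univ_two, a.2.1, a.2.2, b.2.1, b.2.2] <;> ring }
  refine isCyclic_of_injective_ringHom f fun a b h => ?_
  have h0 : (a.1 : Matrix (Fin 2) (Fin 2) F) 0 0 = (b.1 : Matrix (Fin 2) (Fin 2) F) 0 0 := congrArg QuadraticAlgebra.re h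
  have h1 : (a.1 : Matrix (Fin 2) (Fin 2) F) 1 0 = (b.1 : Matrix (Fin 2) (Fin 2) F) 1 0 := congrArg QuadraticAlgebra.im h
  refine Subtype.ext (Subtype.ext ?_)
  ext i j
  fin_cases i <;> fin_cases j <;> simp [h0, h1, a.2.2, b.2.2, ← a.2.1, ← b.2.1]

lemma card_nsTorus (h2 : (2 : F) ≠ 0) (hε : ¬ IsSquare ε) : Nat.card (nsTorus ε) = Fintype.card F + 1 := by
  have hden : ∀ t : F, 1 - ε * t ^ 2 ≠ 0 := by
    intro t h
    have ht : t ≠ 0 := fun e => by rw [e] at h; simp at h
    exact hε ⟨1 / t, by field_simp; linear_combination -h⟩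
  let g : Option F → nsTorus ε := fun o => o.elim ⟨-1, by simp [mem_nsTorus]⟩
    fun t => ⟨⟨!![(1 + ε * t ^ 2) / (1 - ε * t ^ 2), ε * (2 * t / (1 - ε * t ^ 2)); 2 * t / (1 - ε * t ^ 2), (1 + ε * t ^ 2) / (1 - ε * t ^ 2)],
      by
        have := hden t
        simp [det_fin_two]
        field_simp
        ring⟩, ⟨rfl, rfl⟩⟩
  let r : nsTorus ε → Option F := fun x =>
    if 1 + (x.1 : Matrix (Fin 2) (Fin 2) F) 0 0 = 0 then none
    else some ((x.1 : Matrix (Fin 2) (Fin 2) F) 1 0 / (1 + (x.1 : Matrix (Fin 2) (Fin 2) F) 0 0))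
  have h1 : ∀ o, r (g o) = o := by
    rintro (_ | t)
    · exact if_pos (by simp [g])
    · have hd := hden t
      have hne : 1 + (1 + ε * t ^ 2) / (1 - ε * t ^ 2) ≠ 0 := by
        intro h
        apply h2
        field_simp at h
        linear_combination h
      refine (if_neg hne).trans (congrArg some ?_)
      show 2 * t / (1 - ε * t ^ 2) / (1 + (1 + ε * t ^ 2) / (1 - ε * t ^ 2)) = t
      rw [show 1 + (1 + ε * t ^ 2) / (1 - ε * t ^ 2) = 2 / (1 - ε * t ^ 2) by field_simp; ring]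
      rw [div_div_div_cancel_right₀ hd, mul_div_cancel_left₀ t h2]
  have h3 : ∀ x, g (r x) = x := by
    intro x
    have hd := x.1.2
    rw [det_fin_two, x.2.2, ← x.2.1] at hd
    set a := (x.1 : Matrix (Fin 2) (Fin 2) F) 0 0 with ha
    set c := (x.1 : Matrix (Fin 2) (Fin 2) F) 1 0 with hc
    by_cases h : 1 + a = 0
    · have hc0 : c = 0 := by
        have ha1 : a = -1 := eq_neg_of_add_eq_zero_right h
        rw [ha1] at hd
        have hz : ε * (c * c) = 0 := by linear_combination -hd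
        exact mul_self_eq_zero.1 ((mul_eq_zero.1 hz).resolve_left fun e => hε (e ▸ IsSquare.zero))
      rw [show r x = none from if_pos h]
      refine Subtype.ext (Subtype.ext ?_)
      have ha1 : a = -1 := eq_neg_of_add_eq_zero_right h
      ext i j
      fin_cases i <;> fin_cases j <;> simp [g, x.2.2, ← x.2.1, ← ha, ← hc, ha1, hc0]
    · rw [show r x = some (c / (1 + a)) from if_neg h]
      have hd' := hden (c / (1 + a))
      have e1 : (1 + ε * (c / (1 + a)) ^ 2) / (1 - ε * (c / (1 + a)) ^ 2) = a := by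
        rw [div_eq_iff hd']; field_simp; linear_combination -(1 + a) * hd
      have e2 : 2 * (c / (1 + a)) / (1 - ε * (c / (1 + a)) ^ 2) = c := by
        rw [div_eq_iff hd']; field_simp; linear_combination -c * hd
      refine Subtype.ext (Subtype.ext ?_)
      show !![_, _; _, _] = _
      rw [e1, e2]
      ext i j
      fin_cases i <;> fin_cases j <;> simp [x.2.2, ← x.2.1, ← ha, ← hc]
  rw [← Nat.card_congr (Equiv.ofBijective g ⟨Function.LeftInverse.injective h1, Function.RightInverse.surjective h3⟩),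
    Nat.card_eq_fintype_card, Fintype.card_option]

lemma elliptic_of_mem (hε : ¬ IsSquare ε) {X : SpecialLinearGroup (Fin 2) F} (hX : X ∈ nsTorus ε)
    (hc : (X : Matrix (Fin 2) (Fin 2) F) 1 0 ≠ 0) : Elliptic (X : Matrix (Fin 2) (Fin 2) F) := by
  intro m v hv h
  have e0 := congrFun h 0
  have e1 := congrFun h 1
  simp [Matrix.mulVec, dotProduct, Fin.sum_univ_two, hX.2, hX.1] at e0 e1
  by_cases hv1 : v 1 = 0
  · rw [hv1] at e1
    simp [hc] at e1
    exact hv (funext fun i => by fin_cases i <;> simp [hv1, e1])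
  · refine hε ⟨v 0 / v 1, ?_⟩
    field_simp
    refine mul_left_cancel₀ hc ?_
    linear_combination v 1 * e0 - v 0 * e1

lemma disc_elliptic (h2 : (2 : F) ≠ 0) {g : SpecialLinearGroup (Fin 2) F} (hg : Elliptic (g : Matrix (Fin 2) (Fin 2) F)) :
    ¬ IsSquare (((g : Matrix (Fin 2) (Fin 2) F) 0 0 + (g : Matrix (Fin 2) (Fin 2) F) 1 1) ^ 2 - 4) := by
  rintro ⟨w, hw⟩
  refine hg.no_root (((g : Matrix (Fin 2) (Fin 2) F) 0 0 - (g : Matrix (Fin 2) (Fin 2) F) 1 1 + w) / (2 * (g : Matrix (Fin 2) (Fin 2) F) 1 0)) ?_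
  have hd := g.2
  rw [det_fin_two] at hd
  have hc := hg.lower_ne
  field_simp
  linear_combination -hw + 4 * hd

/-- Every elliptic element is conjugate into the non-split torus. -/
lemma exists_conj_nsTorus (h2 : (2 : F) ≠ 0) (hε : ¬ IsSquare ε) {g : SpecialLinearGroup (Fin 2) F}
    (hg : Elliptic (g : Matrix (Fin 2) (Fin 2) F)) :
    ∃ h : SpecialLinearGroup (Fin 2) F, h * g * h⁻¹ ∈ nsTorus ε ∧ ((h * g * h⁻¹ : SpecialLinearGroup (Fin 2) F) : Matrix (Fin 2) (Fin 2) F) 1 0 ≠ 0 := by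
  set t := (g : Matrix (Fin 2) (Fin 2) F) 0 0 + (g : Matrix (Fin 2) (Fin 2) F) 1 1
  have hns := disc_elliptic h2 hg
  have hD : t ^ 2 - 4 ≠ 0 := fun h => hns (h ▸ IsSquare.zero)
  have hε0 : ε ≠ 0 := fun h => hε (h ▸ IsSquare.zero)
  have hsq : IsSquare ((t ^ 2 - 4) / ε) := by
    rw [← quadraticChar_one_iff_isSquare (div_ne_zero hD hε0), div_eq_mul_inv, map_mul,
      quadraticChar_neg_one_iff_not_isSquare.2 hns,
      quadraticChar_neg_one_iff_not_isSquare.2 (fun h => hε (isSquare_inv.1 h))]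
    norm_num
  obtain ⟨s, hs⟩ := hsq
  have h4 : (4 : F) ≠ 0 := by rw [show (4 : F) = 2 * 2 by norm_num]; exact mul_ne_zero h2 h2
  let X : SpecialLinearGroup (Fin 2) F := ⟨!![t / 2, ε * (s / 2); s / 2, t / 2], by
    simp [det_fin_two]
    field_simp at hs ⊢
    linear_combination hs⟩
  obtain ⟨P, hP⟩ := Cfsg.Lib.SLTwoConj.isConj_of_trace h2 g X (by simp [X, t]; field_simp; ring)
    (fun h => hD (by linear_combination h))
  refine ⟨P⁻¹, by rw [inv_inv, hP]; exact ⟨rfl, rfl⟩, ?_⟩
  rw [inv_inv, hP]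
  simp [X]
  refine ⟨fun h => ?_, h2⟩
  rw [h] at hs
  simp [hD, hε0] at hs

end Cfsg.Lib.Classical.TwoDim
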