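import Mathlib
import Cfsg.Agent.Lib.Classical.TwoDimTorus
import Cfsg.Agent.S2475

/-!
Redundant Sylow subgroups of `SL₂` and `PSL₂`.
-/

set_option autoImplicit false

namespace Cfsg.Lib.Classical.RedundantSylow

open Matrix

/-- Some Sylow subgroup has all `p`-elements covered by the other ones. -/
def Red (p : ℕ) (G : Type*) [Group G] : Prop :=
  ∃ Q : Sylow p G, ∀ x : G, (∃ k : ℕ, orderOf x = p ^ k) → ∃ P : Sylow p G, P ≠ Q ∧ x ∈ P

section transfer

variable {p : ℕ} [Fact p.Prime] {G H : Type*} [Group G] [Group H] [Finite G]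

theorem mem_of_central (P : Sylow p G) {z : G} (hz : z ∈ Subgroup.center G) (h : ∃ k : ℕ, orderOf z = p ^ k) : z ∈ P := by
  obtain ⟨k, hk⟩ := h
  haveI : (Subgroup.zpowers z).Normal := ⟨fun n hn g => by
    have hn' : n ∈ Subgroup.center G := (Subgroup.zpowers_le.mpr hz) hn
    rw [Subgroup.mem_center_iff.mp hn' g, mul_inv_cancel_right]; exact hn⟩
  have hpz : IsPGroup p (Subgroup.zpowers z) := IsPGroup.of_card (n := k) (by rw [Nat.card_zpowers, hk])
  have := P.is_maximal' (hpz.to_sup_of_normal_left P.isPGroup') le_sup_right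
  exact this.le (le_sup_left (b := (P : Subgroup G)) (Subgroup.mem_zpowers z))

theorem red_map (π : G →* H) (hs : Function.Surjective π) (hk : π.ker ≤ Subgroup.center G) : Red p H ↔ Red p G := by
  haveI : Finite H := Finite.of_surjective π hs
  have hlift : ∀ (P : Sylow p G) (x : G), (∃ k : ℕ, orderOf x = p ^ k) → π x ∈ Sylow.mapSurjective hs P → x ∈ P := by
    intro P x hx hxP
    obtain ⟨u, hu, hux⟩ := hxP
    obtain ⟨z, hz, rfl⟩ : ∃ z ∈ π.ker, x = u * z := ⟨u⁻¹ * x, by rw [MonoidHom.mem_ker, map_mul, map_inv, hux, inv_mul_cancel], by simp⟩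
    refine (P : Subgroup G).mul_mem hu (mem_of_central P (hk hz) ?_)
    obtain ⟨a, ha⟩ := hx
    obtain ⟨b, hb⟩ := IsPGroup.iff_orderOf.mp P.isPGroup' ⟨u, hu⟩
    rw [Subgroup.orderOf_mk] at hb
    have hc : Commute u⁻¹ (u * z) :=
      (Commute.inv_left (Commute.refl u)).mul_right (Commute.inv_left (Subgroup.mem_center_iff.mp (hk hz) u))
    have := hc.orderOf_mul_dvd_lcm
    rw [inv_mul_cancel_left, orderOf_inv, ha, hb] at this
    obtain ⟨i, -, hi⟩ := (Nat.dvd_prime_pow (Fact.out : p.Prime)).mp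
      (this.trans (Nat.lcm_dvd (pow_dvd_pow p (le_max_left b a)) (pow_dvd_pow p (le_max_right b a))))
    exact ⟨i, hi⟩
  have hsurj : Function.Surjective (Sylow.mapSurjective hs (p := p)) := Sylow.mapSurjective_surjective hs p
  have hinj : ∀ P R : Sylow p G, Sylow.mapSurjective hs P = Sylow.mapSurjective hs R → P = R := by
    intro P R h
    refine Sylow.ext (P.is_maximal' R.isPGroup' fun x hx => hlift R x ?_ ?_).symm
    · obtain ⟨b, hb⟩ := IsPGroup.iff_orderOf.mp P.isPGroup' ⟨x, hx⟩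
      exact ⟨b, by rwa [Subgroup.orderOf_mk] at hb⟩
    · rw [← h]; exact ⟨x, hx, rfl⟩
  constructor
  · rintro ⟨Q', h⟩
    obtain ⟨Q, rfl⟩ := hsurj Q'
    refine ⟨Q, fun x ⟨k, hx⟩ => ?_⟩
    obtain ⟨i, -, hi⟩ := (Nat.dvd_prime_pow (Fact.out : p.Prime)).mp (hx ▸ orderOf_map_dvd π x)
    obtain ⟨P', hP, hxP⟩ := h (π x) ⟨i, hi⟩
    obtain ⟨P, rfl⟩ := hsurj P'
    exact ⟨P, fun e => hP (by rw [e]), hlift P x ⟨k, hx⟩ hxP⟩
  · rintro ⟨Q, h⟩
    refine ⟨Sylow.mapSurjective hs Q, fun y ⟨k, hy⟩ => ?_⟩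
    obtain ⟨w, hw⟩ := hs y
    -- a p-element above `y`
    obtain ⟨x, hx, hxy⟩ : ∃ x : G, (∃ j : ℕ, orderOf x = p ^ j) ∧ π x = y := by
      have hw0 : orderOf w ≠ 0 := (orderOf_pos w).ne'
      obtain ⟨e, m, hm, hwem⟩ := Nat.exists_eq_pow_mul_and_not_dvd hw0 p (Fact.out : p.Prime).ne_one
      have hcop : Nat.Coprime m (orderOf y) := hy ▸ Nat.Coprime.pow_right k (Nat.Coprime.symm ((Fact.out : p.Prime).coprime_iff_not_dvd.mpr hm))
      obtain ⟨t, ht⟩ := exists_pow_eq_self_of_coprime hcop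
      refine ⟨(w ^ m) ^ t, ?_, by rw [map_pow, map_pow, hw]; exact ht⟩
      have hd : orderOf ((w ^ m) ^ t) ∣ p ^ e := orderOf_dvd_of_pow_eq_one (by
        rw [← pow_mul, ← pow_mul, ← mul_assoc, show m * t * p ^ e = orderOf w * t by rw [hwem]; ring, pow_mul, pow_orderOf_eq_one, one_pow])
      obtain ⟨i, -, hi⟩ := (Nat.dvd_prime_pow (Fact.out : p.Prime)).mp hd
      exact ⟨i, hi⟩
    obtain ⟨P, hP, hxP⟩ := h x hx
    exact ⟨Sylow.mapSurjective hs P, fun e => hP (hinj _ _ e), ⟨x, hxP, hxy⟩⟩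

end transfer

section sl

variable {F : Type*} [Field F] [Fintype F]

local notation "SS" => Matrix.SpecialLinearGroup (Fin 2) F
local notation "MM" => Matrix (Fin 2) (Fin 2) F

theorem comm_of_commute {x : SS} (hx : x ∉ Subgroup.center SS) {g h : SS} (hg : g * x = x * g) (hh : h * x = x * h) :
    g * h = h * g := by
  have hM : ∀ c : F, (x : MM) ≠ c • 1 := fun c e => hx (Cfsg.Agent.S2475.mem_center_of_scalar x e)
  obtain ⟨a, b, e1⟩ := Cfsg.Agent.S2507.span_of_commute hM (congrArg (fun u : SS => (u : MM)) hg)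
  obtain ⟨c, d, e2⟩ := Cfsg.Agent.S2507.span_of_commute hM (congrArg (fun u : SS => (u : MM)) hh)
  apply Subtype.ext
  rw [Matrix.SpecialLinearGroup.coe_mul, Matrix.SpecialLinearGroup.coe_mul, e1, e2]
  simp only [add_mul, mul_add, smul_mul_assoc, Matrix.mul_smul, one_mul, mul_one, smul_add, smul_smul]
  module

theorem not_red {p : ℕ} [Fact p.Prime]
    (hz : ∀ z ∈ Subgroup.center SS, (∃ k : ℕ, orderOf z = p ^ k) → z = 1) : ¬ Red p SS := by
  rintro ⟨Q, hQ⟩
  have hel : ∀ (R : Sylow p SS) (z : SS), z ∈ R → ∃ k : ℕ, orderOf z = p ^ k := fun R z hzR => by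
    obtain ⟨b, hb⟩ := IsPGroup.iff_orderOf.mp R.isPGroup' ⟨z, hzR⟩
    exact ⟨b, by rwa [Subgroup.orderOf_mk] at hb⟩
  have hnt : ∀ R : Sylow p SS, (R : Subgroup SS) ≠ ⊥ → ∃ x ∈ R, x ∉ Subgroup.center SS ∧ ∀ g ∈ R, g * x = x * g := by
    intro R hR
    haveI : Nontrivial (R : Subgroup SS) := (Subgroup.nontrivial_iff_ne_bot _).mpr hR
    haveI := R.isPGroup'.center_nontrivial
    obtain ⟨⟨z, hzc⟩, hz1⟩ := exists_ne (1 : Subgroup.center (R : Subgroup SS))
    refine ⟨z, z.2, fun hc => hz1 ?_, fun g hg => ?_⟩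
    · exact Subtype.ext (Subtype.ext (hz _ hc (hel R _ z.2)))
    · exact congrArg Subtype.val (Subgroup.mem_center_iff.mp hzc ⟨g, hg⟩)
  have hab : ∀ R : Sylow p SS, ∀ g ∈ R, ∀ h ∈ R, g * h = h * g := by
    intro R g hg h hh
    by_cases hR : (R : Subgroup SS) = ⊥
    · have hg' : g = 1 := Subgroup.mem_bot.mp (hR ▸ hg)
      rw [hg', one_mul, mul_one]
    · obtain ⟨x, -, hx, hxc⟩ := hnt R hR
      exact comm_of_commute hx (hxc g hg) (hxc h hh)
  by_cases hQ1 : (Q : Subgroup SS) = ⊥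
  · obtain ⟨P, hP, -⟩ := hQ 1 ⟨0, by simp⟩
    refine hP (Sylow.ext ?_)
    rw [hQ1]
    have h1 : Nat.card (P : Subgroup SS) = Nat.card (Q : Subgroup SS) := by rw [P.card_eq_multiplicity, Q.card_eq_multiplicity]
    rw [hQ1, Subgroup.card_bot] at h1
    exact Subgroup.eq_bot_of_card_eq _ h1
  obtain ⟨x, hxQ, hx, hxc⟩ := hnt Q hQ1
  obtain ⟨P, hP, hxP⟩ := hQ x (hel Q x hxQ)
  let K := Subgroup.centralizer ({x} : Set SS)
  have hQK : (Q : Subgroup SS) ≤ K := fun g hg => Subgroup.mem_centralizer_singleton_iff.mpr (hxc g hg)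
  have hPK : (P : Subgroup SS) ≤ K := fun g hg => Subgroup.mem_centralizer_singleton_iff.mpr (hab P g hg x hxP)
  haveI hN : ((P.subtype hPK : Sylow p K) : Subgroup K).Normal := ⟨fun n hn g => by
    have : g * n = n * g := Subtype.ext (comm_of_commute hx (Subgroup.mem_centralizer_singleton_iff.mp g.2)
      (Subgroup.mem_centralizer_singleton_iff.mp n.2))
    rw [this, mul_inv_cancel_right]; exact hn⟩
  obtain ⟨g, hg⟩ := MulAction.exists_smul_eq K (P.subtype hPK) (Q.subtype hQK)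
  rw [Sylow.smul_eq_of_normal] at hg
  exact hP (Sylow.subtype_injective hg)

end sl

section torus

open Cfsg.Lib.Classical.TwoDim

variable {F : Type*} [Field F] [Fintype F] [DecidableEq F]

local notation "SS" => Matrix.SpecialLinearGroup (Fin 2) F
local notation "MM" => Matrix (Fin 2) (Fin 2) F

theorem red_two {T : Subgroup SS} {W : Set SS} (D : TorusData T W) (h2 : (2 : F) ≠ 0) (hcyc : IsCyclic T)
    {n m k : ℕ} (hT : Nat.card T = 2 ^ n * m) (hm : ¬ 2 ∣ m) (hn : 2 ≤ n)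
    (hG : Nat.card SS = 2 * Nat.card T * k) (hk : ¬ 2 ∣ k) : Red 2 SS ↔ m ≠ 1 := by
  haveI := Fact.mk Nat.prime_two
  obtain ⟨c, hc⟩ := IsCyclic.exists_generator (α := T)
  have hco : orderOf (c : SS) = 2 ^ n * m := by
    rw [Subgroup.orderOf_coe, orderOf_eq_card_of_forall_mem_zpowers hc, hT]
  have hm0 : 0 < m := Nat.pos_of_ne_zero fun h => hm (h ▸ dvd_zero 2)
  obtain ⟨i, rfl⟩ : ∃ i, n = i + 2 := ⟨n - 2, by omega⟩
  let X : SS := (c : SS) ^ (2 ^ i * m)
  have hXo : orderOf X = 4 := by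
    show orderOf ((c : SS) ^ (2 ^ i * m)) = 4
    rw [orderOf_pow_of_dvd (by positivity) (by rw [hco]; exact Dvd.intro 4 (by ring)), hco]
    rw [show 2 ^ (i + 2) * m = 4 * (2 ^ i * m) by ring, Nat.mul_div_cancel _ (by positivity)]
  have hXT : X ∈ T := T.pow_mem c.2 _
  have hX1 : X ≠ 1 := fun h => by rw [h, orderOf_one] at hXo; omega
  have hXn : X ≠ -1 := fun h => by
    have : orderOf X ∣ 2 := orderOf_dvd_of_pow_eq_one (by rw [h]; simp [sq])
    rw [hXo] at this; omega
  have htr : ∀ y : SS, orderOf y = 4 → (y : MM) 0 0 + (y : MM) 1 1 = 0 := by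
    intro y hy
    have h1 : (y * y) * (y * y) = 1 := by rw [← sq, ← pow_two, ← pow_mul, show 2 * 2 = orderOf y by omega, pow_orderOf_eq_one]
    have h3 : y * y = -1 := (eq_one_or_neg_one_of_inv_eq h2 h1).resolve_left fun h => by
      have : orderOf y ∣ 2 := orderOf_dvd_of_pow_eq_one (by rw [sq]; exact h)
      rw [hy] at this; omega
    have h4 := Cfsg.Agent.S2475.cayley y
    rw [← Matrix.SpecialLinearGroup.coe_mul, h3] at h4
    have h5 : ((y : MM) 0 0 + (y : MM) 1 1) • (y : MM) = 0 := by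
      have h6 : ((-1 : SS) : MM) = -1 := by simp
      rw [h6] at h4
      linear_combination (norm := module) -h4
    rcases smul_eq_zero.mp h5 with h | h
    · exact h
    · exfalso; have := y.2; rw [h] at this; simp at this
  have hconj : ∀ x : SS, (∃ j : ℕ, orderOf x = 2 ^ j) → ∃ g : SS, g⁻¹ * x * g ∈ T := by
    rintro x ⟨j, hj⟩
    rcases (show j ≤ 1 ∨ 2 ≤ j by omega) with h | h
    · refine ⟨1, ?_⟩
      have : x * x = 1 := by
        rw [← sq, ← orderOf_dvd_iff_pow_eq_one, hj]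
        exact pow_dvd_pow 2 h
      simp only [inv_one, one_mul, mul_one]
      rcases eq_one_or_neg_one_of_inv_eq h2 this with e | e <;> rw [e]
      · exact T.one_mem
      · exact D.neg_mem
    · obtain ⟨l, rfl⟩ : ∃ l, j = l + 2 := ⟨j - 2, by omega⟩
      have hy : orderOf (x ^ 2 ^ l) = 4 := by
        rw [orderOf_pow_of_dvd (by positivity) (by rw [hj]; exact pow_dvd_pow 2 (by omega)), hj,
          Nat.pow_div (by omega) two_pos, show l + 2 - l = 2 by omega]; norm_num
      obtain ⟨g, hg⟩ := Cfsg.Lib.SLTwoConj.isConj_of_trace h2 (x ^ 2 ^ l) X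
        (by rw [htr _ hy, htr _ hXo]) (by rw [htr _ hy]; intro h; exact h2 (by
          have : (2 : F) * 2 = 0 := by linear_combination -h
          rcases mul_eq_zero.mp this with e | e <;> exact e))
      refine ⟨g, ?_⟩
      rw [← D.centralizer_elem h2 hXT hX1 hXn, Subgroup.mem_centralizer_singleton_iff, ← hg]
      simp only [mul_assoc, mul_inv_cancel_left]
      rw [← mul_assoc x, ← pow_succ', pow_succ, mul_assoc]
  set N := Subgroup.normalizer (T : Set SS)
  have hNc : Nat.card N = 2 ^ (i + 3) * m := by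
    rw [(D.normalizer_facts h2 hXT hX1 hXn).1, hT]; ring
  have hTN : T ≤ N := fun g hg => (D.mem_normalizer hXT hX1 hXn g).2 (Or.inl hg)
  have hfac : (Nat.card SS).factorization 2 = i + 3 := by
    rw [hG, hT, show 2 * (2 ^ (i + 2) * m) * k = 2 ^ (i + 3) * (m * k) by ring, Nat.factorization_def _ Nat.prime_two,
      padicValNat.mul (a := 2 ^ (i + 3)) (b := m * k) (by positivity) (Nat.mul_ne_zero hm0.ne' fun h => hk (by rw [h]; exact dvd_zero 2)), padicValNat.prime_pow,
      padicValNat.eq_zero_of_not_dvd (fun h => ((Nat.prime_two.dvd_mul).mp h).elim hm hk), add_zero]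
  have hNfac : (Nat.card N).factorization 2 = i + 3 := by
    rw [hNc, Nat.factorization_def _ Nat.prime_two,
      padicValNat.mul (by positivity) hm0.ne', padicValNat.prime_pow, padicValNat.eq_zero_of_not_dvd hm, add_zero]
  -- Sylow subgroups of `N` are Sylow subgroups of `SS`
  have hup : ∀ R : Sylow 2 N, Nat.card ((R : Subgroup N).map N.subtype) = 2 ^ (Nat.card SS).factorization 2 := by
    intro R
    rw [Subgroup.card_map_of_injective N.subtype_injective, R.card_eq_multiplicity, hfac, hNfac]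
  let up : Sylow 2 N → Sylow 2 SS := fun R => Sylow.ofCard _ (hup R)
  have hmemup : ∀ R : Sylow 2 N, ∀ t ∈ T, (∃ j : ℕ, orderOf t = 2 ^ j) → t ∈ up R := by
    intro R t ht hto
    obtain ⟨j, hj⟩ := hto
    haveI : (Subgroup.zpowers (⟨t, hTN ht⟩ : N)).Normal := ⟨fun y hy g => by
      obtain ⟨a, rfl⟩ := Subgroup.mem_zpowers_iff.mp hy
      rw [← conj_zpow]
      refine Subgroup.zpow_mem _ ?_ a
      rcases (D.mem_normalizer hXT hX1 hXn g).1 g.2 with h | h
      · rw [show g * ⟨t, hTN ht⟩ * g⁻¹ = ⟨t, hTN ht⟩ from Subtype.ext (show (g : SS) * t * (g : SS)⁻¹ = t by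
          rw [D.comm _ h t ht, mul_inv_cancel_right])]
        exact Subgroup.mem_zpowers _
      · rw [show g * ⟨t, hTN ht⟩ * g⁻¹ = (⟨t, hTN ht⟩ : N)⁻¹ from Subtype.ext (D.inv_conj h ht)]
        exact Subgroup.inv_mem _ (Subgroup.mem_zpowers _)⟩
    have hpz : IsPGroup 2 (Subgroup.zpowers (⟨t, hTN ht⟩ : N)) :=
      IsPGroup.of_card (n := j) (by rw [Nat.card_zpowers, Subgroup.orderOf_mk, hj])
    have := R.is_maximal' (hpz.to_sup_of_normal_left R.isPGroup') le_sup_right
    exact ⟨⟨t, hTN ht⟩, this.le (le_sup_left (b := (R : Subgroup N)) (Subgroup.mem_zpowers _)), rfl⟩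
  constructor
  · rintro ⟨Q, hQ⟩ hm1
    subst hm1
    obtain ⟨R⟩ := (inferInstance : Nonempty (Sylow 2 N))
    obtain ⟨g, hg⟩ := MulAction.exists_smul_eq SS (up R) Q
    have hco' : ∃ j : ℕ, orderOf (g * (c : SS) * g⁻¹) = 2 ^ j := by
      refine ⟨i + 2, ?_⟩
      rw [← MulAut.conj_apply, MulEquiv.orderOf_eq, hco, mul_one]
    obtain ⟨P, hP, hcP⟩ := hQ _ hco'
    have hcP' : (c : SS) ∈ g⁻¹ • P := by
      rw [← SetLike.mem_coe, Sylow.coe_smul, Set.mem_smul_set_iff_inv_smul_mem]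
      simpa [MulAut.smul_def, mul_assoc] using hcP
    apply hP
    rw [← hg, ← inv_smul_eq_iff]
    -- the unique Sylow subgroup containing `c`
    set P' := g⁻¹ • P
    have hTP : T ≤ (P' : Subgroup SS) := fun t ht => by
      obtain ⟨a, ha⟩ := Subgroup.mem_zpowers_iff.mp (hc ⟨t, ht⟩)
      have : (c : SS) ^ a = t := congrArg Subtype.val ha
      rw [← this]; exact Subgroup.zpow_mem _ hcP' a
    have hPc : Nat.card (P' : Subgroup SS) = 2 * Nat.card T := by
      rw [P'.card_eq_multiplicity, hfac, hT]; ring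
    have hidx : (T.subgroupOf (P' : Subgroup SS)).index = 2 := by
      have h := Subgroup.card_mul_index (T.subgroupOf (P' : Subgroup SS))
      rw [Nat.card_congr (Subgroup.subgroupOfEquivOfLe hTP).toEquiv, hPc, mul_comm 2] at h
      exact Nat.eq_of_mul_eq_mul_left Nat.card_pos h
    haveI := Subgroup.normal_of_index_eq_two hidx
    have hPN : (P' : Subgroup SS) ≤ N := Subgroup.le_normalizer_of_normal_subgroupOf (hK := inferInstance) hTP
    apply Sylow.ext
    refine Subgroup.eq_of_le_of_card_ge ?_ (by rw [(up R).card_eq_multiplicity, P'.card_eq_multiplicity])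
    intro y hy
    obtain ⟨i', hi'⟩ := IsPGroup.iff_orderOf.mp P'.isPGroup' ⟨y, hy⟩
    haveI : ((R : Subgroup N)).Normal := by
      have : (R : Subgroup N) = ⊤ := Subgroup.eq_top_of_card_eq _ (by rw [R.card_eq_multiplicity, hNfac, hNc, mul_one])
      rw [this]; infer_instance
    have htop : (R : Subgroup N) = ⊤ := Subgroup.eq_top_of_card_eq _ (by rw [R.card_eq_multiplicity, hNfac, hNc, mul_one])
    exact ⟨⟨y, hPN hy⟩, htop ▸ Subgroup.mem_top _, rfl⟩
  · intro hm1
    obtain ⟨Q⟩ := (inferInstance : Nonempty (Sylow 2 SS))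
    refine ⟨Q, fun x hx => ?_⟩
    obtain ⟨g, hg⟩ := hconj x hx
    have hto : ∃ j : ℕ, orderOf (g⁻¹ * x * g) = 2 ^ j := by
      obtain ⟨j, hj⟩ := hx
      exact ⟨j, by rw [show g⁻¹ * x * g = MulAut.conj g⁻¹ x by simp, MulEquiv.orderOf_eq, hj]⟩
    obtain ⟨R₀⟩ := (inferInstance : Nonempty (Sylow 2 N))
    obtain ⟨R₁, R₂, hne⟩ : ∃ R₁ R₂ : Sylow 2 N, R₁ ≠ R₂ := by
      by_contra hcon
      push Not at hcon
      haveI : Subsingleton (Sylow 2 N) := ⟨hcon⟩
      haveI : (R₀ : Subgroup N).Normal := Sylow.normal_of_subsingleton _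
      obtain ⟨r, hr, hrm⟩ := Nat.exists_prime_and_dvd hm1
      haveI := Fact.mk hr
      have hr2 : r ≠ 2 := fun h => hm (h ▸ hrm)
      obtain ⟨⟨y, hyT⟩, hy⟩ := exists_prime_orderOf_dvd_card' r (show r ∣ Nat.card T by rw [hT]; exact hrm.mul_left _)
      rw [Subgroup.orderOf_mk] at hy
      have hy1 : y ≠ 1 := fun h => by rw [h, orderOf_one] at hy; exact hr.one_lt.ne hy
      have hyn : y ≠ -1 := fun h => by
        have : orderOf y ∣ 2 := orderOf_dvd_of_pow_eq_one (by rw [h]; simp [sq])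
        rw [hy] at this
        exact hr2 ((Nat.prime_dvd_prime_iff_eq hr Nat.prime_two).mp this)
      obtain ⟨w, hwR, hwT⟩ : ∃ w : N, w ∈ R₀ ∧ (w : SS) ∉ T := by
        by_contra h
        push Not at h
        have hle : (R₀ : Subgroup N).map N.subtype ≤ T := by rintro _ ⟨w, hw, rfl⟩; exact h w hw
        have := Subgroup.card_dvd_of_le hle
        rw [hup, hfac, hT] at this
        have h3 : (2 : ℕ) ^ (i + 2) * 2 ∣ 2 ^ (i + 2) * m := by rwa [← pow_succ]
        exact hm (Nat.dvd_of_mul_dvd_mul_left (by positivity) h3)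
      refine hwT ?_
      haveI : (Subgroup.zpowers (⟨y, hTN hyT⟩ : N)).Normal := ⟨fun z hz g => by
        obtain ⟨a, rfl⟩ := Subgroup.mem_zpowers_iff.mp hz
        rw [← conj_zpow]
        refine Subgroup.zpow_mem _ ?_ a
        rcases (D.mem_normalizer hXT hX1 hXn g).1 g.2 with h | h
        · rw [show g * ⟨y, hTN hyT⟩ * g⁻¹ = ⟨y, hTN hyT⟩ from Subtype.ext (show (g : SS) * y * (g : SS)⁻¹ = y by
            rw [D.comm _ h y hyT, mul_inv_cancel_right])]
          exact Subgroup.mem_zpowers _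
        · rw [show g * ⟨y, hTN hyT⟩ * g⁻¹ = (⟨y, hTN hyT⟩ : N)⁻¹ from Subtype.ext (D.inv_conj h hyT)]
          exact Subgroup.inv_mem _ (Subgroup.mem_zpowers _)⟩
      have hdis := IsPGroup.disjoint_of_ne r 2 hr2 (Subgroup.zpowers (⟨y, hTN hyT⟩ : N)) (R₀ : Subgroup N)
        (IsPGroup.of_card (n := 1) (by rw [Nat.card_zpowers, Subgroup.orderOf_mk, hy, pow_one])) R₀.isPGroup'
      have hcm := Subgroup.commute_of_normal_of_disjoint _ _ inferInstance inferInstance hdis _ w (Subgroup.mem_zpowers _) hwR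
      rw [← D.centralizer_elem h2 hyT hy1 hyn, Subgroup.mem_centralizer_singleton_iff]
      exact (congrArg Subtype.val hcm.eq).symm
    have hne' : up R₁ ≠ up R₂ := fun h => hne (Sylow.ext (Subgroup.map_injective N.subtype_injective
      (congrArg (fun S : Sylow 2 SS => (S : Subgroup SS)) h)))
    have key : ∀ R, x ∈ g • up R := fun R => by
      rw [← SetLike.mem_coe, Sylow.coe_smul, Set.mem_smul_set_iff_inv_smul_mem]
      simpa [MulAut.smul_def, mul_assoc] using hmemup R _ hg hto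
    by_cases h : g • up R₁ = Q
    · exact ⟨g • up R₂, fun h' => hne' (MulAction.injective g (h.trans h'.symm)), key R₂⟩
    · exact ⟨g • up R₁, h, key R₁⟩

theorem red_sl {p : ℕ} [Fact p.Prime] :
    Red p SS ↔ (p = 2 ∧ (¬ ∃ k : ℕ, Fintype.card F + 1 = 2 ^ k) ∧ (¬ ∃ k : ℕ, Fintype.card F = 2 ^ k) ∧
        ¬ ∃ k : ℕ, Fintype.card F = 2 ^ k + 1) := by
  classical
  have hq := Fintype.one_lt_card (α := F)
  by_cases hp : p = 2
  swap
  · refine iff_of_false (not_red fun z hz ⟨k, hk⟩ => ?_) fun h => hp h.1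
    have hd : orderOf z ∣ 2 := orderOf_dvd_of_pow_eq_one (by rw [sq]; exact Cfsg.Agent.S2475.sq_one_of_mem_center hz)
    rw [hk] at hd
    cases k with
    | zero => exact orderOf_eq_one_iff.mp (by simpa using hk)
    | succ k => exact absurd ((Nat.prime_dvd_prime_iff_eq Fact.out Nat.prime_two).mp ((dvd_pow_self p k.succ_ne_zero).trans hd)) hp
  subst hp
  by_cases h2 : (2 : F) = 0
  · haveI : CharP F 2 := CharTwo.of_one_ne_zero_of_two_eq_zero one_ne_zero h2
    obtain ⟨a, -, ha⟩ := FiniteField.card F 2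
    refine iff_of_false (not_red fun z hz _ => ?_) fun h => h.2.2.1 ⟨a, ha⟩
    rw [Cfsg.Agent.S2507.center_bot (F := F) (by rw [ha]; exact dvd_pow_self 2 a.ne_zero)] at hz
    exact Subgroup.mem_bot.mp hz
  have hodd : ¬ 2 ∣ Fintype.card F := fun h => by
    obtain ⟨q, hq'⟩ := CharP.exists F
    obtain ⟨a, hqp, ha⟩ := FiniteField.card F q
    haveI := Fact.mk hqp
    obtain rfl := (Nat.prime_dvd_prime_iff_eq Nat.prime_two hqp).mp (Nat.prime_two.dvd_of_dvd_pow (ha ▸ h))
    exact h2 CharTwo.two_eq_zero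
  have hpow : ∀ j : ℕ, Fintype.card F ≠ 2 ^ j := fun j hj => by
    cases j with
    | zero => simp at hj; omega
    | succ j => exact hodd (hj ▸ dvd_pow_self 2 j.succ_ne_zero)
  obtain ⟨ε, hε⟩ := FiniteField.exists_nonsquare (F := F) (fun h => h2 (by
    haveI := ringChar.of_eq h; exact CharTwo.two_eq_zero))
  set q := Fintype.card F with hqdef
  rcases (show 4 ∣ q - 1 ∨ 4 ∣ q + 1 by omega) with h4 | h4
  · obtain ⟨n, m, hm, hnm⟩ := Nat.exists_eq_pow_mul_and_not_dvd (show q - 1 ≠ 0 by omega) 2 (by norm_num)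
    have hn : 2 ≤ n := by
      rcases (show n = 0 ∨ n = 1 ∨ 2 ≤ n by omega) with h | h | h
      · subst h; simp at hnm; omega
      · subst h; simp at hnm; omega
      · exact h
    rw [red_two (F := F) (diag_data h2) h2 isCyclic_diagTorus (k := q * ((q + 1) / 2))
      (by rw [card_diagTorus, hnm]) hm hn (by
        rw [card_SL_aux, card_diagTorus]
        obtain ⟨j, hj⟩ : 2 ∣ q + 1 := by omega
        rw [hj, Nat.mul_div_cancel_left _ two_pos]; ring)
      (fun h => by rcases (Nat.prime_two.dvd_mul).mp h with h | h <;> omega)]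
    constructor
    · refine fun hm1 => ⟨rfl, fun ⟨j, hj⟩ => ?_, fun ⟨j, hj⟩ => hpow j hj, fun ⟨j, hj⟩ => hm1 ?_⟩
      · have : 4 ∣ 2 ^ j → False := fun h => by omega
        rcases (show j ≤ 1 ∨ 2 ≤ j by omega) with h | h
        · have : 2 ^ j ≤ 2 := le_trans (Nat.pow_le_pow_right two_pos h) (by norm_num)
          omega
        · exact this (pow_dvd_pow 2 h)
      · have h' : m ∣ 2 ^ j := by rw [show 2 ^ j = q - 1 by omega, hnm]; exact dvd_mul_left _ _
        obtain ⟨l, -, hl⟩ := (Nat.dvd_prime_pow Nat.prime_two).mp h'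
        cases l with
        | zero => simpa using hl
        | succ l => exact absurd (hl ▸ dvd_pow_self 2 l.succ_ne_zero) hm
    · rintro ⟨-, -, -, h⟩ rfl
      exact h ⟨n, by omega⟩
  · obtain ⟨n, m, hm, hnm⟩ := Nat.exists_eq_pow_mul_and_not_dvd (show q + 1 ≠ 0 by omega) 2 (by norm_num)
    have hn : 2 ≤ n := by
      rcases (show n = 0 ∨ n = 1 ∨ 2 ≤ n by omega) with h | h | h
      · subst h; simp at hnm; omega
      · subst h; simp at hnm; omega
      · exact h
    rw [red_two (F := F) (ns_data h2 hε) h2 (isCyclic_nsTorus hε) (k := q * ((q - 1) / 2))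
      (by rw [card_nsTorus h2 hε, hnm]) hm hn (by
        rw [card_SL_aux, card_nsTorus h2 hε]
        obtain ⟨j, hj⟩ : 2 ∣ q - 1 := by omega
        rw [hj, Nat.mul_div_cancel_left _ two_pos]; ring)
      (fun h => by rcases (Nat.prime_two.dvd_mul).mp h with h | h <;> omega)]
    constructor
    · refine fun hm1 => ⟨rfl, fun ⟨j, hj⟩ => hm1 ?_, fun ⟨j, hj⟩ => hpow j hj, fun ⟨j, hj⟩ => ?_⟩
      · have h' : m ∣ 2 ^ j := by rw [← hj, hnm]; exact dvd_mul_left _ _
        obtain ⟨l, -, hl⟩ := (Nat.dvd_prime_pow Nat.prime_two).mp h'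
        cases l with
        | zero => simpa using hl
        | succ l => exact absurd (hl ▸ dvd_pow_self 2 l.succ_ne_zero) hm
      · rcases (show j ≤ 1 ∨ 2 ≤ j by omega) with h | h
        · have : 2 ^ j ≤ 2 := le_trans (Nat.pow_le_pow_right two_pos h) (by norm_num)
          have : j = 0 ∨ j = 1 := by omega
          have hm4 : 4 * m ≤ 2 ^ n * m := Nat.mul_le_mul_right m (by
            calc 4 = 2 ^ 2 := rfl
              _ ≤ 2 ^ n := Nat.pow_le_pow_right two_pos hn)
          rcases this with rfl | rfl <;> omega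
        · have : 4 ∣ 2 ^ j := pow_dvd_pow 2 h
          omega
    · rintro ⟨-, h, -, -⟩ rfl
      exact h ⟨n, by omega⟩
where
  card_SL_aux : Nat.card SS = Fintype.card F * ((Fintype.card F + 1) * (Fintype.card F - 1)) := by
    rw [Cfsg.Agent.S2507.card_sl, ← Nat.sq_sub_sq, one_pow]

end torus

end Cfsg.Lib.Classical.RedundantSylow
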