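import Mathlib
import Cfsg.Agent.Lib.Classical.MinimalIndexSL2

/-! When the orbit of the first axis has one point more than the transvection group, the latter is a field. -/

set_option autoImplicit false
set_option linter.unusedSectionVars false
set_option linter.unusedSimpArgs false

namespace Cfsg.Lib.Classical.UpperField

open Matrix Cfsg.Lib.PStable Cfsg.Agent.SL2RankOne Cfsg.Lib.Classical.MinIndex

variable {F : Type*} [Field F] [Fintype F] {p : ℕ} [Fact p.Prime] [CharP F p]

local notation "SL2" => Matrix.SpecialLinearGroup (Fin 2) F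

theorem lo_entries (a : F) : lo a 0 0 = 1 ∧ lo a 0 1 = 0 ∧ lo a 1 0 = a ∧ lo a 1 1 = 1 := by
  simp [lo_coe]

/-- The parameters form a subfield. -/
theorem exists_subfield (hp2 : p ≠ 2) (M : Subgroup SL2) (hlo : lo (1 : F) ∈ M)
    (hidx : (borel M).index = Nat.card (aGrp M) + 1) :
    ∃ S : Subfield F, (∀ x, x ∈ S ↔ x ∈ aGrp M) ∧ (∀ m ∈ M, m 1 0 ≠ 0 → m 0 0 / m 1 0 ∈ S) ∧
      (∀ x ∈ S, lo x ∈ M) := by
  classical
  have h2 : (2 : F) ≠ 0 := Ring.two_ne_zero (by rw [ringChar.eq F p]; exact hp2)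
  have hua : ∀ a : aGrp M, upperU a.1 ∈ M := fun a => a.2
  let φ : Option (aGrp M) → M ⧸ borel M := fun o => o.elim ((1 : M) : M ⧸ borel M)
    fun a => ((⟨upperU a.1 * lo 1, M.mul_mem (hua a) hlo⟩ : M) : M ⧸ borel M)
  have hφ : Function.Injective φ := by
    rintro (_ | a) (_ | b) h
    · rfl
    all_goals simp only [φ, Option.elim] at h; rw [QuotientGroup.eq, mem_borel, ent, Subgroup.coe_mul, Subgroup.coe_inv, mul_entry,
      (inv_entries _).2.2.1, (inv_entries _).2.2.2] at h
    all_goals simp [mul_entry, upperU_entries, lo_entries] at h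
    exact congrArg some (Subtype.ext (by linear_combination h))
  have hbij : Function.Bijective φ := by
    haveI : Fintype (M ⧸ borel M) := Fintype.ofFinite _
    rw [Fintype.bijective_iff_injective_and_card]
    refine ⟨hφ, ?_⟩
    rw [← Nat.card_eq_fintype_card, ← Nat.card_eq_fintype_card, Finite.card_option, ← hidx]
    rfl
  have hpt : ∀ m ∈ M, m 1 0 ≠ 0 → m 0 0 / m 1 0 - 1 ∈ aGrp M := fun m hm h10 => by
    obtain ⟨o, ho⟩ := hbij.2 ((⟨m, hm⟩ : M) : M ⧸ borel M)
    rcases o with _ | a <;> simp only [φ, Option.elim] at ho <;>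
      rw [QuotientGroup.eq, mem_borel, ent, Subgroup.coe_mul, Subgroup.coe_inv, mul_entry, (inv_entries _).2.2.1, (inv_entries _).2.2.2] at ho
    · simp at ho
      exact absurd ho h10
    · simp [mul_entry, upperU_entries, lo_entries] at ho
      have : m 0 0 / m 1 0 - 1 = a.1 := by field_simp; linear_combination -ho
      rw [this]; exact a.2
  have hlo2 : lo (1 : F) * lo 1 = lo (2 : F) := by rw [lo_mul]; norm_num
  have h1A : (1 : F) ∈ aGrp M := by
    have h := hpt _ (hlo2 ▸ M.mul_mem hlo hlo) (by rw [(lo_entries _).2.2.1]; exact h2)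
    rw [(lo_entries _).1, (lo_entries _).2.2.1] at h
    have := (aGrp M).neg_mem ((aGrp M).add_mem h h)
    convert this using 1
    field_simp; ring
  have hpt' : ∀ m ∈ M, m 1 0 ≠ 0 → m 0 0 / m 1 0 ∈ aGrp M := fun m hm h10 => by
    simpa using (aGrp M).add_mem (hpt m hm h10) h1A
  have hu : upperU (-1 : F) ∈ M := (aGrp M).neg_mem h1A
  set w := upperU (-1 : F) * lo 1 * upperU (-1) with hw
  have hwM : w ∈ M := M.mul_mem (M.mul_mem hu hlo) hu
  have hloA : ∀ x ∈ aGrp M, lo x ∈ M := fun x hx => by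
    have e : w * upperU (-x) * w⁻¹ = lo x := by
      rw [mul_inv_eq_iff_eq_mul, hw]
      refine Matrix.SpecialLinearGroup.ext _ _ fun i j => ?_
      fin_cases i <;> fin_cases j <;> simp [mul_entry, upperU_entries, lo_entries]
    rw [← e]; exact M.mul_mem (M.mul_mem hwM ((aGrp M).neg_mem hx)) (M.inv_mem hwM)
  have hinv : ∀ x ∈ aGrp M, x⁻¹ ∈ aGrp M := fun x hx => by
    by_cases hx0 : x = 0
    · simpa [hx0] using (aGrp M).zero_mem
    have h := hpt' _ (hloA x hx) (by rw [(lo_entries _).2.2.1]; exact hx0)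
    rwa [(lo_entries _).1, (lo_entries _).2.2.1, one_div] at h
  have hsq : ∀ x ∈ aGrp M, x * x ∈ aGrp M := fun x hx => by
    by_cases hx0 : x = 0
    · simpa [hx0] using (aGrp M).zero_mem
    by_cases hx1 : x + 1 = 0
    · rw [eq_neg_of_add_eq_zero_left hx1]; simpa using h1A
    have h := (aGrp M).sub_mem (hinv _ ((aGrp M).sub_mem (hinv x hx) (hinv _ ((aGrp M).add_mem hx h1A)))) hx
    convert h using 1
    field_simp; ring
  have hhalf : ∀ x, 2 * x ∈ aGrp M → x ∈ aGrp M := fun x hx => by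
    have hodd : p % 2 = 1 := Nat.odd_iff.1 ((Fact.out : p.Prime).odd_of_ne_two hp2)
    have h := (aGrp M).nsmul_mem hx ((p + 1) / 2)
    rw [nsmul_eq_mul] at h
    have e : ((((p + 1) / 2 : ℕ) : F)) * 2 = 1 := by
      have : (((p + 1) / 2 * 2 : ℕ) : F) = ((p + 1 : ℕ) : F) := by rw [show (p + 1) / 2 * 2 = p + 1 by omega]
      push_cast at this
      rw [this, CharP.cast_eq_zero F p, zero_add]
    rwa [← mul_assoc, e, one_mul] at h
  refine ⟨{ carrier := aGrp M
            one_mem' := h1A
            zero_mem' := (aGrp M).zero_mem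
            add_mem' := fun hx hy => (aGrp M).add_mem hx hy
            neg_mem' := fun hx => (aGrp M).neg_mem hx
            inv_mem' := hinv
            mul_mem' := fun {x y} hx hy => hhalf _ ?_ }, fun x => Iff.rfl, hpt', hloA⟩
  have h := (aGrp M).sub_mem ((aGrp M).sub_mem (hsq _ ((aGrp M).add_mem hx hy)) (hsq x hx)) (hsq y hy)
  convert h using 1
  ring

end Cfsg.Lib.Classical.UpperField
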