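import Mathlib
import Cfsg.Agent.Lib.Classical.UpperField
import Cfsg.Agent.Lib.Classical.SplitDihedralMax

/-! Overgroups of `SL(2, F₀)` in `SL(2, F)`, odd characteristic, no field strictly between. -/

set_option autoImplicit false
set_option linter.unusedSectionVars false
set_option linter.unusedSimpArgs false

namespace Cfsg.Lib.Classical.SubfieldTwo

open Matrix Cfsg.Lib.PStable Cfsg.Agent.SL2RankOne Cfsg.Lib.Classical.MinIndex Cfsg.Lib.Classical.UpperField

variable {F : Type*} [Field F] [Fintype F]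

local notation "SL2" => Matrix.SpecialLinearGroup (Fin 2) F

/-- An embedding of finite fields. -/
theorem exists_emb {K : Type*} [Field K] [Fintype K] {r : ℕ} (hr : 0 < r) (h : Fintype.card F = Fintype.card K ^ r) :
    Nonempty (K →+* F) := by
  obtain ⟨p, hp⟩ := CharP.exists K
  obtain ⟨b, hpp, hb⟩ := FiniteField.card K p
  haveI := Fact.mk hpp
  obtain ⟨p', hp'⟩ := CharP.exists F
  obtain ⟨c, hpp', hc⟩ := FiniteField.card F p'
  obtain rfl : p' = p := (Nat.prime_dvd_prime_iff_eq hpp' hpp).1 (hpp'.dvd_of_dvd_pow (n := (b : ℕ) * r) (by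
    rw [pow_mul, ← hb, ← h, hc]; exact dvd_pow_self p' c.pos.ne'))
  letI : Algebra (ZMod p') K := ZMod.algebra K p'
  letI : Algebra (ZMod p') F := ZMod.algebra F p'
  have h1 := Module.card_eq_pow_finrank (K := ZMod p') (V := K)
  have h2 := Module.card_eq_pow_finrank (K := ZMod p') (V := F)
  rw [ZMod.card] at h1 h2
  rw [h, h1, ← pow_mul] at h2
  have h3 := Nat.pow_right_injective hpp.two_le h2
  obtain ⟨f⟩ := FiniteField.nonempty_algHom_of_finrank_dvd (F := ZMod p') (K := K) (L := F) ⟨r, h3.symm⟩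
  exact ⟨f.toRingHom⟩

/-- No field strictly between. -/
theorem no_between (F₀ : Subfield F) {r : ℕ} (hr : r.Prime) (h : Fintype.card F = Nat.card F₀ ^ r) (S : Subfield F)
    (hS : F₀ ≤ S) : S = F₀ ∨ S = ⊤ := by
  classical
  letI : Algebra F₀ S := (Subfield.inclusion hS).toAlgebra
  haveI : Fintype F₀ := Fintype.ofFinite _
  haveI : Fintype S := Fintype.ofFinite _
  have h1 := Module.card_eq_pow_finrank (K := F₀) (V := S)
  have h2 := Module.card_eq_pow_finrank (K := S) (V := F)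
  rw [h, Nat.card_eq_fintype_card, h1, ← pow_mul] at h2
  have h3 := Nat.pow_right_injective (Fintype.one_lt_card (α := F₀)) h2
  rcases hr.eq_one_or_self_of_dvd _ (Dvd.intro _ h3.symm) with e | e
  · left
    rw [e, pow_one] at h1
    refine le_antisymm (fun x hx => ?_) hS
    have hb : Function.Bijective (Subfield.inclusion hS) := (Fintype.bijective_iff_injective_and_card _).2 ⟨RingHom.injective _, h1.symm⟩
    obtain ⟨y, hy⟩ := hb.2 ⟨x, hx⟩
    have := congrArg Subtype.val hy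
    exact (show (y : F) = x from this) ▸ y.2
  · right
    refine eq_top_iff.2 fun x _ => ?_
    rw [e] at h1
    have hb : Function.Bijective (S.subtype) := (Fintype.bijective_iff_injective_and_card _).2
      ⟨RingHom.injective _, by rw [h1, h, Nat.card_eq_fintype_card]⟩
    obtain ⟨y, hy⟩ := hb.2 x
    exact hy ▸ y.2

theorem le_or_top {p : ℕ} [Fact p.Prime] [CharP F p] (hp2 : p ≠ 2) (F₀ : Subfield F)
    (hbetween : ∀ S : Subfield F, F₀ ≤ S → S = F₀ ∨ S = ⊤) (N M : Subgroup SL2) (hNM : N ≤ M)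
    (hup : ∀ s ∈ F₀, upperU s ∈ N) (hlo : ∀ s ∈ F₀, lo s ∈ N)
    (hdg : ∀ g : SL2, g 0 1 = 0 → g 1 0 = 0 → g 0 0 * g 0 0 ∈ F₀ → g ∈ N)
    (hneg : (-1 : SL2) ∈ M) (h120 : Nat.card M ≠ 120) : M = ⊤ ∨ M ≤ N := by
  have h1M : upperU (1 : F) ∈ M := hNM (hup 1 F₀.one_mem)
  have hl1 : lo (1 : F) ∈ M := hNM (hlo 1 F₀.one_mem)
  have h10 : lo (1 : F) 1 0 ≠ 0 := by rw [(lo_entries _).2.2.1]; exact one_ne_zero
  rcases index_eq (M := M) hp2 hneg one_ne_zero h1M (g0 := ⟨_, hl1⟩) h10 with hidx | ⟨-, h, -⟩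
  swap
  · exact absurd h h120
  obtain ⟨S, hS, hpt, -⟩ := exists_subfield hp2 M hl1 hidx
  rcases hbetween S (fun s hs => (hS s).2 (hNM (hup s hs))) with rfl | rfl
  swap
  · exact Or.inl (upper_eq_top (fun a => (hS a).1 trivial) hl1 h10)
  right
  have htri : ∀ b ∈ M, b 1 0 = 0 → b ∈ N := fun b hb hb0 => by
    have hd := det_eq (g := b)
    rw [hb0, mul_zero, sub_zero] at hd
    have hsq : b 0 0 * b 0 0 ∈ S := (hS _).2 (by
      have := sq_mul_mem_aGrp (M := M) (b := ⟨b, hb⟩) hb0 ((hS 1).1 S.one_mem)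
      simpa [ent, pow_two] using this)
    set g := Cfsg.Lib.Classical.SplitDih.dg (Units.mkOfMulEqOne _ _ hd) with hg
    have hgN : g ∈ N := hdg g rfl rfl hsq
    have e : g⁻¹ * b = upperU (b 1 1 * b 0 1) := by
      rw [inv_mul_eq_iff_eq_mul]
      refine Matrix.SpecialLinearGroup.ext _ _ fun i j => ?_
      fin_cases i <;> fin_cases j <;> simp [mul_entry, upperU_entries, hg, Cfsg.Lib.Classical.SplitDih.dg_coe, hb0]
      · linear_combination (-(b 0 1)) * hd
      · exact eq_inv_of_mul_eq_one_right hd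
    have hx : b 1 1 * b 0 1 ∈ S := (hS _).2 (by
      show upperU _ ∈ M
      rw [← e]; exact M.mul_mem (M.inv_mem (hNM hgN)) hb)
    rw [show b = g * upperU (b 1 1 * b 0 1) by rw [← e, mul_inv_cancel_left]]
    exact N.mul_mem hgN (hup _ hx)
  intro m hm
  by_cases h0 : m 1 0 = 0
  · exact htri m hm h0
  set s := m 0 0 / m 1 0 with hs
  have hsS : -s ∈ S := S.neg_mem (hpt m hm h0)
  set w : SL2 := upperU (-1) * lo 1 * upperU (-1) with hw
  have hwN : w ∈ N := N.mul_mem (N.mul_mem (hup _ (S.neg_mem S.one_mem)) (hlo 1 S.one_mem)) (hup _ (S.neg_mem S.one_mem))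
  have h' := htri (w * (upperU (-s) * m)) (M.mul_mem (hNM hwN) (M.mul_mem (hNM (hup _ hsS)) hm)) (by
    simp [hw, hs, mul_entry, upperU_entries, lo_entries]
    field_simp
    ring)
  have := N.mul_mem (N.inv_mem (hup _ hsS)) (N.mul_mem (N.inv_mem hwN) h')
  simpa using this

end Cfsg.Lib.Classical.SubfieldTwo
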