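/-
Sylow subgroups of `GL_n(q)` and `SL_n(q)` for primes `r > n`.
-/
import Mathlib
import Cfsg.Agent.Lib.Classical.PSLOrders

set_option autoImplicit false
set_option maxHeartbeats 800000

namespace Cfsg.Lib.SylowLargePrime

open Cfsg.Lib.PSLOrders Matrix

variable {q r : ℕ}

/-- the `r`-part of the value of the relevant cyclotomic polynomial -/
noncomputable def ap (q r : ℕ) : ℕ :=
  padicValNat r ((Polynomial.cyclotomic (orderOf (q : ZMod r)) ℤ).eval (q : ℤ)).natAbs

lemma ord_pos [Fact r.Prime] (hrq : ¬ r ∣ q) : 0 < orderOf (q : ZMod r) :=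
  orderOf_pos_iff.mpr (isOfFinOrder_iff_pow_eq_one.mpr ⟨r - 1, by have := (Fact.out : r.Prime).two_le; omega,
    ZMod.pow_card_sub_one_eq_one (fun h => hrq ((CharP.cast_eq_zero_iff (ZMod r) r q).mp h))⟩)

lemma dvd_pow_sub_one_iff [Fact r.Prime] (hq : 1 ≤ q) (i : ℕ) : r ∣ q ^ i - 1 ↔ orderOf (q : ZMod r) ∣ i := by
  rw [orderOf_dvd_iff_pow_eq_one, show ((q : ZMod r) ^ i = 1) ↔ (((q ^ i : ℕ) : ZMod r) = ((1 : ℕ) : ZMod r)) by simp,
    ZMod.natCast_eq_natCast_iff, Nat.ModEq.comm,
    Nat.modEq_iff_dvd' (Nat.one_le_pow _ _ hq)]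

lemma val_base [Fact r.Prime] (hq : 2 ≤ q) (hrq : ¬ r ∣ q) :
    padicValNat r (q ^ orderOf (q : ZMod r) - 1) = ap q r := by
  classical
  set e := orderOf (q : ZMod r) with he
  have he0 : 0 < e := ord_pos hrq
  have hne : ∀ d, 0 < d → ((Polynomial.cyclotomic d ℤ).eval (q : ℤ)).natAbs ≠ 0 ∧
      ((Polynomial.cyclotomic d ℤ).eval (q : ℤ)).natAbs ∣ q ^ d - 1 := by
    intro d hd
    have h1 : (Polynomial.cyclotomic d ℤ).eval (q : ℤ) ∣ ((q ^ d - 1 : ℕ) : ℤ) := by
      rw [Nat.cast_sub (Nat.one_le_pow _ _ (by omega)), Nat.cast_pow, Nat.cast_one]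
      have := Polynomial.eval_dvd (x := (q : ℤ)) (Polynomial.cyclotomic.dvd_X_pow_sub_one d ℤ)
      simpa using this
    have h2 := Int.natAbs_dvd_natAbs.mpr h1
    rw [Int.natAbs_natCast] at h2
    refine ⟨fun h0 => ?_, h2⟩
    rw [h0, zero_dvd_iff] at h2
    have : 2 ≤ q ^ d := hq.trans (Nat.le_self_pow hd.ne' q)
    omega
  have hprod := congrArg (fun P : Polynomial ℤ => (P.eval (q : ℤ)).natAbs)
    (Polynomial.prod_cyclotomic_eq_X_pow_sub_one he0 ℤ)
  simp only [Polynomial.eval_prod, Polynomial.eval_sub, Polynomial.eval_pow, Polynomial.eval_X,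
    Polynomial.eval_one] at hprod
  rw [show ((q : ℤ) ^ e - 1).natAbs = q ^ e - 1 by
    rw [show ((q : ℤ) ^ e - 1) = ((q ^ e - 1 : ℕ) : ℤ) by
      rw [Nat.cast_sub (Nat.one_le_pow _ _ (by omega)), Nat.cast_pow, Nat.cast_one], Int.natAbs_natCast]] at hprod
  rw [← hprod, ← Finset.prod_erase_mul _ _ (Nat.mem_divisors_self e he0.ne'), Int.natAbs_mul]
  set rest := (∏ d ∈ e.divisors.erase e, (Polynomial.cyclotomic d ℤ).eval (q : ℤ)).natAbs
  have hr : ¬ r ∣ rest := by
    intro h
    rw [← Int.natCast_dvd] at h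
    obtain ⟨d, hd, hdvd⟩ := ((Nat.prime_iff_prime_int.mp Fact.out).dvd_finsetProd_iff _).mp h
    obtain ⟨hde, hd'⟩ := Finset.mem_erase.mp hd
    have hd0 := Nat.pos_of_mem_divisors hd'
    have h2 : r ∣ q ^ d - 1 := (Int.natCast_dvd.mp hdvd).trans (hne d hd0).2
    exact hde (Nat.dvd_antisymm (Nat.dvd_of_mem_divisors hd') ((dvd_pow_sub_one_iff (by omega) d).mp h2))
  have hrest : rest ≠ 0 := fun h => hr (h ▸ dvd_zero r)
  rw [padicValNat.mul hrest (hne e he0).1, padicValNat.eq_zero_of_not_dvd hr, zero_add]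
  rfl

lemma val_pow [Fact r.Prime] (hq : 2 ≤ q) (hrq : ¬ r ∣ q) {i : ℕ} (hi0 : 0 < i) (hir : ¬ r ∣ i) :
    padicValNat r (q ^ i - 1) = if orderOf (q : ZMod r) ∣ i then ap q r else 0 := by
  set e := orderOf (q : ZMod r) with he
  have he0 : 0 < e := ord_pos hrq
  split_ifs with h
  · obtain ⟨j, rfl⟩ := h
    have hQ : 2 ≤ q ^ e := hq.trans (Nat.le_self_pow he0.ne' q)
    have hj0 : 0 < j := Nat.pos_of_mul_pos_left hi0
    have hmul : q ^ (e * j) - 1 = gs (q ^ e) j * (q ^ e - 1) := by
      have := gs_mul (show 1 ≤ q ^ e by omega) j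
      rw [← pow_mul] at this
      omega
    have hnd : ¬ r ∣ gs (q ^ e) j := by
      intro h
      have hmod : q ^ e ≡ 1 [MOD r] :=
        ((Nat.modEq_iff_dvd' (by omega)).mpr ((dvd_pow_sub_one_iff (by omega) e).mpr dvd_rfl)).symm
      have := ((gs_modEq hmod).dvd_iff dvd_rfl).mp h
      exact hir (this.trans (dvd_mul_left j e))
    rw [hmul, padicValNat.mul (fun h0 => hnd (by rw [h0]; exact dvd_zero r)) (show q ^ e - 1 ≠ 0 by omega), padicValNat.eq_zero_of_not_dvd hnd,
      zero_add, val_base hq hrq]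
  · exact padicValNat.eq_zero_of_not_dvd fun h' => h ((dvd_pow_sub_one_iff (by omega) i).mp h')

variable {F : Type*} [Field F] [Fintype F]

lemma val_card_GL [Fact r.Prime] (hF : Fintype.card F = q) (hrq : ¬ r ∣ q) {n : ℕ} (hn : n < r) :
    padicValNat r (Nat.card (GL (Fin n) F)) = n / orderOf (q : ZMod r) * ap q r := by
  classical
  have hq : 2 ≤ q := hF ▸ Fintype.one_lt_card
  rw [Matrix.card_GL_field, hF, ← Nat.factorization_def _ Fact.out,
    Nat.factorization_prod (fun i _ => by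
      have := Nat.pow_lt_pow_right (show 1 < q by omega) i.2
      omega),
    Finsupp.coe_finsetSum, Finset.sum_apply]
  have hterm : ∀ i : Fin n, (q ^ n - q ^ (i : ℕ)).factorization r =
      if orderOf (q : ZMod r) ∣ n - i then ap q r else 0 := by
    intro i
    have hi := i.2
    rw [Nat.factorization_def _ Fact.out]
    have : q ^ n - q ^ (i : ℕ) = q ^ (i : ℕ) * (q ^ (n - i) - 1) := by
      rw [Nat.mul_sub, ← pow_add, mul_one]; congr 2; omega
    have h2 : 2 ≤ q ^ (n - i) := hq.trans (Nat.le_self_pow (by omega) q)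
    rw [this, padicValNat.mul (by positivity) (by omega), val_pow hq hrq (by omega) (fun h => absurd (Nat.le_of_dvd (by omega) h) (by omega)),
      padicValNat.eq_zero_of_not_dvd (fun h => hrq ((Fact.out : r.Prime).dvd_of_dvd_pow h)), zero_add]
  rw [Finset.sum_congr rfl (fun i _ => hterm i), ← Nat.Ioc_filter_dvd_card_eq_div n (orderOf (q : ZMod r)),
    Finset.sum_ite, Finset.sum_const_zero, add_zero, Finset.sum_const, smul_eq_mul]
  congr 1
  refine Finset.card_bij (fun i _ => n - (i : ℕ)) ?_ ?_ ?_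
  · intro i hi
    simp only [Finset.mem_filter, Finset.mem_univ, true_and] at hi
    simp only [Finset.mem_filter, Finset.mem_Ioc]
    exact ⟨⟨by have := i.2; omega, by omega⟩, hi⟩
  · intro a _ b _ h
    exact Fin.ext (by have := a.2; have := b.2; omega)
  · intro x hx
    simp only [Finset.mem_filter, Finset.mem_Ioc] at hx
    refine ⟨⟨n - x, by omega⟩, ?_, by simp; omega⟩
    simp only [Finset.mem_filter, Finset.mem_univ, true_and]
    rw [show n - (n - x) = x by omega]; exact hx.2

lemma exists_zmod_hom {M : Type*} [Group M] [Finite M] [IsCyclic M] {R : ℕ} (h : R ∣ Nat.card M) :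
    ∃ f : Multiplicative (ZMod R) →* M, Function.Injective f := by
  obtain ⟨g, hg⟩ := IsCyclic.exists_ofOrder_eq_natCard (α := M)
  obtain ⟨k, hk⟩ := exists_pow_order g (d := R) (hg ▸ h)
  have hc : Nat.card (Subgroup.zpowers (g ^ k)) = R := by rw [Nat.card_zpowers, hk]
  let e : Multiplicative (ZMod R) ≃* Subgroup.zpowers (g ^ k) :=
    (hc ▸ zmodCyclicMulEquiv (inferInstance : IsCyclic (Subgroup.zpowers (g ^ k))))
  exact ⟨(Subgroup.zpowers (g ^ k)).subtype.comp e.toMonoidHom,
    (Subgroup.zpowers (g ^ k)).subtype_injective.comp e.injective⟩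

lemma sylow_equiv {G V : Type*} [Group G] [Finite G] [Group V] [Fact r.Prime] (f : V →* G)
    (hf : Function.Injective f) (hc : Nat.card V = r ^ padicValNat r (Nat.card G)) (P : Sylow r G) :
    Nonempty (↥(P : Subgroup G) ≃* V) := by
  have h : Nat.card f.range = r ^ (Nat.card G).factorization r := by
    rw [Nat.factorization_def _ Fact.out, ← hc]
    exact Nat.card_congr (MonoidHom.ofInjective hf).toEquiv.symm
  exact ⟨(P.equiv (Sylow.ofCard f.range h)).trans (MonoidHom.ofInjective hf).symm⟩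

lemma ap_dvd [Fact r.Prime] (hq : 2 ≤ q) (hrq : ¬ r ∣ q) : r ^ ap q r ∣ q ^ orderOf (q : ZMod r) - 1 := by
  rw [← val_base hq hrq]; exact pow_padicValNat_dvd

/-- the block embedding of a power of a cyclic group -/
theorem exists_GL_hom [Fact r.Prime] (hF : Fintype.card F = q) (hrq : ¬ r ∣ q) (n : ℕ) :
    ∃ f : (Fin (n / orderOf (q : ZMod r)) → Multiplicative (ZMod (r ^ ap q r))) →* GL (Fin n) F,
      Function.Injective f := by
  classical
  have hq : 2 ≤ q := hF ▸ Fintype.one_lt_card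
  set e := orderOf (q : ZMod r) with he
  have he0 : 0 < e := ord_pos hrq
  haveI : NeZero e := ⟨he0.ne'⟩
  obtain ⟨p, hcp⟩ := CharP.exists F
  haveI : Fact p.Prime := ⟨CharP.char_is_prime F p⟩
  set K := FiniteField.Extension F p e
  haveI : Fintype K := Fintype.ofFinite K
  have hfr : Module.finrank F K = e := FiniteField.finrank_extension F p e
  let bs : Module.Basis (Fin e) F K := Module.finBasisOfFinrankEq F K hfr
  have hcard : Nat.card Kˣ = q ^ e - 1 := by
    rw [Nat.card_units, Nat.card_eq_fintype_card, Module.card_eq_pow_finrank (K := F) (V := K), hfr, hF]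
  obtain ⟨θ, hθ⟩ := exists_zmod_hom (M := Kˣ) (R := r ^ ap q r) (hcard ▸ ap_dvd hq hrq)
  set k := n / e
  let φ : K →* Matrix (Fin e) (Fin e) F := (Algebra.leftMulMatrix bs : K →ₐ[F] _)
  have hφ : Function.Injective φ := Algebra.leftMulMatrix_injective bs
  let B : (Fin k → Kˣ) →* Matrix (Fin e × Fin k) (Fin e × Fin k) F :=
    ((Matrix.blockDiagonalRingHom (Fin e) (Fin k) F : _ →+* _) : _ →* _).comp
      (Pi.monoidHom fun i => (φ.comp (Units.coeHom K)).comp (Pi.evalMonoidHom (fun _ : Fin k => Kˣ) i))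
  let S : Matrix (Fin e × Fin k) (Fin e × Fin k) F →*
      Matrix ((Fin e × Fin k) ⊕ Fin (n - e * k)) ((Fin e × Fin k) ⊕ Fin (n - e * k)) F :=
    { toFun := fun A => Matrix.fromBlocks A 0 0 1
      map_one' := Matrix.fromBlocks_one
      map_mul' := fun A A' => by simp [Matrix.fromBlocks_multiply] }
  have hle : e * k ≤ n := Nat.mul_div_le n e
  let ι : (Fin e × Fin k) ⊕ Fin (n - e * k) ≃ Fin n :=
    Fintype.equivFinOfCardEq (by simp; omega)
  let T : Matrix ((Fin e × Fin k) ⊕ Fin (n - e * k)) ((Fin e × Fin k) ⊕ Fin (n - e * k)) F →* Matrix (Fin n) (Fin n) F :=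
    ((Matrix.reindexAlgEquiv F F ι : _ ≃ₐ[F] _) : _ →* _)
  have hinj : Function.Injective (T.comp (S.comp B)) := by
    intro u v h
    have h1 := (Matrix.reindexAlgEquiv F F ι).injective h
    have h2 : B u = B v := (Matrix.fromBlocks_inj.mp h1).1
    have h3 := Matrix.blockDiagonal_injective h2
    funext i
    exact Units.ext (hφ (congrFun h3 i))
  refine ⟨(MonoidHom.toHomUnits (T.comp (S.comp B))).comp
    (Pi.monoidHom fun i => θ.comp (Pi.evalMonoidHom (fun _ => Multiplicative (ZMod (r ^ ap q r))) i)), ?_⟩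
  intro u v h
  have h' := hinj (congrArg Units.val h)
  funext i
  exact hθ (congrFun h' i)

theorem sylow_GL [Fact r.Prime] (hF : Fintype.card F = q) (hrq : ¬ r ∣ q) {n : ℕ} (hn : n < r)
    (P : Sylow r (GL (Fin n) F)) :
    Nonempty (↥(P : Subgroup (GL (Fin n) F)) ≃*
      (Fin (n / orderOf (q : ZMod r)) → Multiplicative (ZMod (r ^ ap q r)))) := by
  obtain ⟨f, hf⟩ := exists_GL_hom hF hrq n
  refine sylow_equiv f hf ?_ P
  rw [Nat.card_fun, val_card_GL hF hrq hn, Nat.card_fin, Nat.card_congr Multiplicative.toAdd, Nat.card_zmod, ← pow_mul, mul_comm]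

lemma card_SL_mul {n : ℕ} (hn : n ≠ 0) :
    Nat.card (GL (Fin n) F) = Nat.card (Matrix.SpecialLinearGroup (Fin n) F) * Nat.card Fˣ := by
  classical
  haveI : Nonempty (Fin n) := ⟨⟨0, Nat.pos_of_ne_zero hn⟩⟩
  let D : GL (Fin n) F →* Fˣ := Matrix.GeneralLinearGroup.det
  have hsurj : Function.Surjective D := fun c =>
    ⟨Matrix.GeneralLinearGroup.mkOfDetNeZero (Matrix.diagonal (Function.update 1 ⟨0, Nat.pos_of_ne_zero hn⟩ (c : F)))
      (by simp [Matrix.det_diagonal, Finset.prod_update_of_mem, c.ne_zero]),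
      Units.ext (by simp [D, Matrix.GeneralLinearGroup.mkOfDetNeZero, Matrix.det_diagonal, Finset.prod_update_of_mem])⟩
  rw [← D.ker.card_mul_index, Subgroup.index_ker, MonoidHom.range_eq_top.mpr hsurj, Subgroup.card_top]
  congr 1
  refine (Nat.card_congr ?_).symm
  exact
    { toFun := fun A => ⟨Matrix.SpecialLinearGroup.toGL A, Units.ext A.2⟩
      invFun := fun g => ⟨(g.1 : Matrix (Fin n) (Fin n) F), congrArg Units.val g.2⟩
      left_inv := fun A => rfl
      right_inv := fun g => Subtype.ext (Units.ext rfl) }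

theorem sylow_SL [Fact r.Prime] (hF : Fintype.card F = q) (hrq : ¬ r ∣ q) {n : ℕ} (hn : n < r)
    (P : Sylow r (Matrix.SpecialLinearGroup (Fin n) F)) :
    Nonempty (↥(P : Subgroup (Matrix.SpecialLinearGroup (Fin n) F)) ≃*
      (Fin ((Finset.Icc 2 n).filter (fun i => orderOf (q : ZMod r) ∣ i)).card →
        Multiplicative (ZMod (r ^ ap q r)))) := by
  classical
  have hq : 2 ≤ q := hF ▸ Fintype.one_lt_card
  have he0 : 0 < orderOf (q : ZMod r) := ord_pos hrq
  rcases Nat.eq_zero_or_pos n with rfl | hn0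
  · refine sylow_equiv 1 (fun a b _ => funext fun i => absurd i.2 (by simp)) ?_ P
    haveI : Subsingleton (Matrix.SpecialLinearGroup (Fin 0) F) := ⟨fun A B => Subtype.ext (Subsingleton.elim _ _)⟩
    rw [Nat.card_fun, Nat.card_fin, Nat.card_of_subsingleton (α := Matrix.SpecialLinearGroup (Fin 0) F) 1]
    simp
  have hunits : Nat.card Fˣ = q - 1 := by rw [Nat.card_units, Nat.card_eq_fintype_card, hF]
  have hq1 : padicValNat r (q - 1) = if orderOf (q : ZMod r) ∣ 1 then ap q r else 0 := by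
    simpa using val_pow hq hrq one_pos (Fact.out : r.Prime).not_dvd_one
  have hval : padicValNat r (Nat.card (Matrix.SpecialLinearGroup (Fin n) F)) =
      ((Finset.Icc 2 n).filter (fun i => orderOf (q : ZMod r) ∣ i)).card * ap q r := by
    have h := val_card_GL hF hrq hn
    rw [card_SL_mul hn0.ne', hunits, padicValNat.mul Nat.card_pos.ne' (by omega), hq1,
      ← Nat.Ioc_filter_dvd_card_eq_div] at h
    have hsplit : Finset.Ioc 0 n = insert 1 (Finset.Icc 2 n) := by
      ext x; simp; omega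
    rw [hsplit, Finset.filter_insert] at h
    split_ifs at h with h1
    · rw [Finset.card_insert_of_notMem (by simp), add_mul, one_mul] at h; omega
    · simpa using h
  by_cases he : orderOf (q : ZMod r) = 1
  · have hc : ((Finset.Icc 2 n).filter (fun i => orderOf (q : ZMod r) ∣ i)).card = n - 1 := by
      rw [he, Finset.filter_true_of_mem (fun x _ => one_dvd x)]; simp
    rw [hc] at hval ⊢
    obtain ⟨θ, hθ⟩ := exists_zmod_hom (M := Fˣ) (R := r ^ ap q r) (by
      rw [hunits]; simpa [he] using ap_dvd (r := r) hq hrq)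
    obtain ⟨m, rfl⟩ : ∃ m, n = m + 1 := ⟨n - 1, by omega⟩
    rw [Nat.add_sub_cancel] at hval ⊢
    let d : (Fin m → Fˣ) →* Matrix.SpecialLinearGroup (Fin (m + 1)) F :=
      { toFun := fun u => ⟨Matrix.diagonal (fun i => ((Fin.cons (∏ j, u j)⁻¹ u : Fin (m + 1) → Fˣ) i : F)), by
          rw [Matrix.det_diagonal, ← Units.coe_prod, Fin.prod_cons, inv_mul_cancel, Units.val_one]⟩
        map_one' := Subtype.ext (by
          refine (congrArg Matrix.diagonal ?_).trans Matrix.diagonal_one
          funext i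
          refine Fin.cases ?_ (fun j => ?_) i <;> simp)
        map_mul' := fun u v => Subtype.ext (by
          show Matrix.diagonal _ = Matrix.diagonal _ * Matrix.diagonal _
          rw [Matrix.diagonal_mul_diagonal]
          refine congrArg Matrix.diagonal (funext fun i => ?_)
          refine Fin.cases ?_ (fun j => ?_) i <;> simp [Finset.prod_mul_distrib, mul_inv, mul_comm]) }
    refine sylow_equiv (d.comp (Pi.monoidHom fun i => θ.comp (Pi.evalMonoidHom (fun _ => Multiplicative (ZMod (r ^ ap q r))) i))) ?_ ?_ P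
    · intro u v h
      have h1 : Matrix.diagonal _ = Matrix.diagonal _ := congrArg Subtype.val h
      have h2 := Matrix.diagonal_injective h1
      funext i
      have h3 := congrFun h2 i.succ
      simp only [Fin.cons_succ] at h3
      exact hθ (Units.ext h3)
    · rw [Nat.card_fun, hval, Nat.card_fin, Nat.card_congr Multiplicative.toAdd, Nat.card_zmod, ← pow_mul, mul_comm]
  · have hc : ((Finset.Icc 2 n).filter (fun i => orderOf (q : ZMod r) ∣ i)).card = n / orderOf (q : ZMod r) := by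
      rw [← Nat.Ioc_filter_dvd_card_eq_div]
      congr 1
      ext x
      simp only [Finset.mem_filter, Finset.mem_Icc, Finset.mem_Ioc]
      constructor
      · rintro ⟨⟨h1, h2⟩, h3⟩; exact ⟨⟨by omega, h2⟩, h3⟩
      · rintro ⟨⟨h1, h2⟩, h3⟩
        have := Nat.le_of_dvd h1 h3
        exact ⟨⟨by omega, h2⟩, h3⟩
    rw [hc] at hval ⊢
    obtain ⟨f, hf⟩ := exists_GL_hom hF hrq n
    have hdet : ∀ v, ((f v : GL (Fin n) F) : Matrix (Fin n) (Fin n) F).det = 1 := by
      intro v
      set c := Matrix.GeneralLinearGroup.det (f v)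
      have h1 : c ^ r ^ ap q r = 1 := by
        rw [← map_pow, ← map_pow]
        have : v ^ r ^ ap q r = 1 := funext fun i => by
          simpa [Nat.card_zmod] using pow_card_eq_one' (x := v i)
        rw [this, map_one, map_one]
      have h2 : orderOf c ∣ Nat.gcd (r ^ ap q r) (q - 1) :=
        Nat.dvd_gcd (orderOf_dvd_of_pow_eq_one h1) (hunits ▸ orderOf_dvd_natCard c)
      have h3 : Nat.Coprime (r ^ ap q r) (q - 1) := by
        refine Nat.Coprime.pow_left _ ((Fact.out : r.Prime).coprime_iff_not_dvd.mpr fun h => he ?_)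
        exact Nat.dvd_one.mp ((dvd_pow_sub_one_iff (by omega) 1).mp (by simpa using h))
      rw [h3.gcd_eq_one, Nat.dvd_one, orderOf_eq_one_iff] at h2
      exact congrArg Units.val h2
    refine sylow_equiv
      (MonoidHom.mk' (fun v => mkSL ((f v : GL (Fin n) F) : Matrix (Fin n) (Fin n) F) (hdet v)) (fun u v => Subtype.ext (by rw [Matrix.SpecialLinearGroup.coe_mul, coe_mkSL, coe_mkSL, coe_mkSL, map_mul, Units.val_mul]))) ?_ ?_ P
    · intro u v h
      exact hf (Units.ext (congrArg Subtype.val h))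
    · rw [Nat.card_fun, hval, Nat.card_fin, Nat.card_congr Multiplicative.toAdd, Nat.card_zmod, ← pow_mul, mul_comm]

end Cfsg.Lib.SylowLargePrime
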