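import Mathlib
import Cfsg.Agent.Lib.Classical.PSpAut.Basis

/-! Embeddings into symplectic groups by restriction of scalars. -/

set_option autoImplicit false

namespace Cfsg.Agent.SympEmbed

open Matrix

variable {F V G : Type*} [Field F] [AddCommGroup V] [Module F V] [FiniteDimensional F V] [Group G]

theorem exists_embed (m : ℕ) (hV : Module.finrank F V = 2 * m) (B : LinearMap.BilinForm F V) (hA : B.IsAlt)
    (hB : ∀ x : V, x ≠ 0 → ∃ y, B x y ≠ 0) (ρ : G →* (V →ₗ[F] V)) (hρ : Function.Injective ρ)
    (hiso : ∀ g x y, B (ρ g x) (ρ g y) = B x y) :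
    ∃ φ : G →* ↥(Matrix.symplecticGroup (Fin m) F), Function.Injective φ := by
  classical
  obtain ⟨u, v, -, huv⟩ := Cfsg.Lib.Classical.PSpAut.exists_symp_family B hA m ⊤
    (fun w _ hw0 => by obtain ⟨y, hy⟩ := hB w hw0; exact ⟨y, trivial, hy⟩) (by rw [finrank_top, hV])
  have hvu : ∀ i j, B (u i) (v j) = -(if j = i then (1 : F) else 0) := fun i j => by
    rw [Cfsg.Lib.Classical.alt_swap hA (v j) (u i), (huv j i).2.2]
  let w : Fin m ⊕ Fin m → V := Sum.elim u v
  have hLI : LinearIndependent F w := by
    rw [Fintype.linearIndependent_iff]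
    intro c hc x
    have key : ∀ y : V, ∑ k, c k * B (w k) y = 0 := fun y => by
      have := congrArg (fun z => B z y) hc
      simpa [map_sum, LinearMap.sum_apply] using this
    rcases x with i | i
    · have := key (v i)
      simpa [w, Fintype.sum_sum_type, hvu, (huv _ i).2.1] using this
    · have := key (u i)
      simpa [w, Fintype.sum_sum_type, (huv _ i).1, (huv _ i).2.2] using this
  let b : Module.Basis (Fin m ⊕ Fin m) F V := basisOfLinearIndependentOfCardEqFinrank' w hLI (by
    rw [hV, Fintype.card_sum, Fintype.card_fin, two_mul])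
  have hb : ⇑b = w := coe_basisOfLinearIndependentOfCardEqFinrank' w hLI _
  have hJ : LinearMap.BilinForm.toMatrix b B = Matrix.J (Fin m) F := by
    ext x y
    rw [LinearMap.BilinForm.toMatrix_apply, hb]
    rcases x with i | i <;> rcases y with j | j <;>
      simp [w, Matrix.J, (huv i j).1, (huv i j).2.1, (huv i j).2.2, hvu, Matrix.one_apply, eq_comm]
  refine ⟨{ toFun := fun g => ⟨LinearMap.toMatrix b b (ρ g), ?_⟩, map_one' := ?_, map_mul' := ?_ }, ?_⟩
  · rw [SymplecticGroup.mem_iff', ← hJ, ← LinearMap.BilinForm.toMatrix_comp]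
    congr 1
    exact LinearMap.ext fun x => LinearMap.ext fun y => hiso g x y
  · apply Subtype.ext
    show LinearMap.toMatrix b b (ρ 1) = 1
    rw [map_one]; exact LinearMap.toMatrix_id b
  · intro g h
    apply Subtype.ext
    show LinearMap.toMatrix b b (ρ (g * h)) = LinearMap.toMatrix b b (ρ g) * LinearMap.toMatrix b b (ρ h)
    rw [map_mul]
    exact LinearMap.toMatrix_mul b (ρ g) (ρ h)
  · intro g h e
    exact hρ ((LinearMap.toMatrix b b).injective (congrArg Subtype.val e))

theorem exists_field_embedding {K F : Type*} [Field K] [Fintype K] [Field F] [Fintype F] {q : ℕ}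
    (hK : Fintype.card K = q ^ 2) (hF : Fintype.card F = q) : Nonempty (F →+* K) := by
  obtain ⟨p, hp⟩ := CharP.exists K
  obtain ⟨p', hp'⟩ := CharP.exists F
  obtain ⟨n, hpn, hn⟩ := FiniteField.card K p
  obtain ⟨n', hpn', hn'⟩ := FiniteField.card F p'
  have hpp : p = p' := by
    have h1 : p ∣ (p' ^ (n' : ℕ)) ^ 2 := by
      rw [← hn', hF, ← hK, hn]; exact dvd_pow_self p n.ne_zero
    exact (Nat.prime_dvd_prime_iff_eq hpn hpn').1 (hpn.dvd_of_dvd_pow (hpn.dvd_of_dvd_pow h1))
  subst hpp
  have := Fact.mk hpn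
  let _ : Algebra (ZMod p) K := ZMod.algebra K p
  let _ : Algebra (ZMod p) F := ZMod.algebra F p
  have hd : Module.finrank (ZMod p) F ∣ Module.finrank (ZMod p) K := by
    have e1 := Module.card_eq_pow_finrank (K := ZMod p) (V := F)
    have e2 := Module.card_eq_pow_finrank (K := ZMod p) (V := K)
    rw [ZMod.card] at e1 e2
    rw [hK, ← hF, e1, ← pow_mul] at e2
    exact ⟨2, (Nat.pow_right_injective hpn.two_le e2).symm⟩
  obtain ⟨f⟩ := FiniteField.nonempty_algHom_of_finrank_dvd hd
  exact ⟨f.toRingHom⟩

theorem finrank_two {K F : Type*} [Field K] [Fintype K] [Field F] [Fintype F] [Algebra F K] {q : ℕ}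
    (hK : Fintype.card K = q ^ 2) (hF : Fintype.card F = q) : Module.finrank F K = 2 := by
  have e := Module.card_eq_pow_finrank (K := F) (V := K)
  rw [hK, hF] at e
  exact (Nat.pow_right_injective (hF ▸ Fintype.one_lt_card) e).symm

theorem mem_range_of_pow_eq {K F : Type*} [Field K] [Field F] [Fintype F] [Algebra F K] {q : ℕ}
    (hF : Fintype.card F = q) {x : K} (hx : x ^ q = x) : ∃ c : F, algebraMap F K c = x := by
  classical
  by_contra hcon
  push Not at hcon
  have h1 : 1 < q := hF ▸ Fintype.one_lt_card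
  have hne : (Polynomial.X ^ q - Polynomial.X : Polynomial K) ≠ 0 := FiniteField.X_pow_card_sub_X_ne_zero K h1
  let S : Finset K := insert x (Finset.univ.image (algebraMap F K))
  have hS : S ⊆ (Polynomial.X ^ q - Polynomial.X : Polynomial K).roots.toFinset := by
    intro y hy
    rw [Multiset.mem_toFinset, Polynomial.mem_roots hne]
    rcases Finset.mem_insert.1 hy with rfl | hy
    · simp [hx]
    · obtain ⟨c, -, rfl⟩ := Finset.mem_image.1 hy
      simp [← map_pow, ← hF, FiniteField.pow_card]
  have h2 := (Finset.card_le_card hS).trans (Multiset.toFinset_card_le _)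
  have h3 := Polynomial.card_roots' (Polynomial.X ^ q - Polynomial.X : Polynomial K)
  rw [FiniteField.X_pow_card_sub_X_natDegree_eq K h1] at h3
  rw [Finset.card_insert_of_notMem (by
      rw [Finset.mem_image]; rintro ⟨c, -, hc⟩; exact hcon c hc),
    Finset.card_image_of_injective _ (algebraMap F K).injective, Finset.card_univ, hF] at h2
  omega

end Cfsg.Agent.SympEmbed
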