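import Cfsg.Agent.Lib.Classical.TwoDimHalves

/-! There are exactly two characters of `SL₂` of each of the degrees `(q ± 1) / 2`. -/

set_option autoImplicit false
set_option linter.unusedSectionVars false

namespace Cfsg.Lib.Classical.TwoDim

open Matrix
open scoped ComplexConjugate
open Cfsg Cfsg.Lib.Characters Cfsg.Lib.Classical Cfsg.Lib.Classical.ProjLine

variable {F : Type*} [Field F] [Fintype F] [DecidableEq F]

lemma card_centralizer_uS (hodd : Odd (Fintype.card F)) {a : F} (ha : a ≠ 0) :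
    Nat.card (Subgroup.centralizer ({uS a} : Set (SpecialLinearGroup (Fin 2) F))) = 2 * Fintype.card F := by
  classical
  have hmem : ∀ g : SpecialLinearGroup (Fin 2) F, g ∈ Subgroup.centralizer ({uS a} : Set (SpecialLinearGroup (Fin 2) F)) ↔
      (g : Matrix (Fin 2) (Fin 2) F) 1 0 = 0 ∧ (g : Matrix (Fin 2) (Fin 2) F) 0 0 = (g : Matrix (Fin 2) (Fin 2) F) 1 1 := by
    intro g
    rw [Subgroup.mem_centralizer_singleton_iff]
    constructor
    · intro h
      have h0 := congrArg (fun z : SpecialLinearGroup (Fin 2) F => (z : Matrix (Fin 2) (Fin 2) F) 0 0) h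
      have h1 := congrArg (fun z : SpecialLinearGroup (Fin 2) F => (z : Matrix (Fin 2) (Fin 2) F) 0 1) h
      simp [Matrix.mul_apply, Fin.sum_univ_two] at h0 h1
      exact ⟨h0.resolve_left ha, mul_right_cancel₀ ha (by linear_combination h1)⟩
    · rintro ⟨h0, h1⟩
      refine Subtype.ext ?_
      ext i j
      fin_cases i <;> fin_cases j <;> simp [Matrix.mul_apply, Fin.sum_univ_two, h0, h1] <;> ring
  have e : Subgroup.centralizer ({uS a} : Set (SpecialLinearGroup (Fin 2) F)) ≃ {s : F // s * s = 1} × F :=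
    { toFun := fun g => (⟨(g.1 : Matrix (Fin 2) (Fin 2) F) 0 0, by
        have hd := g.1.2
        rw [det_fin_two, ((hmem _).1 g.2).1, mul_zero, sub_zero, ← ((hmem _).1 g.2).2] at hd
        exact hd⟩, (g.1 : Matrix (Fin 2) (Fin 2) F) 0 1)
      invFun := fun p => ⟨⟨!![p.1.1, p.2; 0, p.1.1], by simp [det_fin_two, p.1.2]⟩, (hmem _).2 (by simp)⟩
      left_inv := fun g => Subtype.ext (Subtype.ext (by
        obtain ⟨h0, h1⟩ := (hmem g.1).1 g.2
        ext i j
        fin_cases i <;> fin_cases j <;> simp [h0, h1]))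
      right_inv := fun p => by
        refine Prod.ext (Subtype.ext ?_) ?_ <;> simp }
  have h2 : Nat.card {s : F // s * s = 1} = 2 := by
    rw [Nat.card_eq_fintype_card, Fintype.card_subtype,
      show (Finset.univ.filter fun s : F => s * s = 1) = {1, -1} by ext s; simp [mul_self_eq_one_iff],
      Finset.card_pair]
    intro h
    exact two_ne_zero_of_odd hodd (by linear_combination h)
  rw [Nat.card_congr e, Nat.card_prod, h2, Nat.card_eq_fintype_card]

lemma not_isConj_uS {e : F} (he : ¬ IsSquare e) : ¬ IsConj (uS (1 : F)) (uS e) := by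
  intro h
  obtain ⟨A, hA⟩ := isConj_iff.1 h
  rw [mul_inv_eq_iff_eq_mul] at hA
  have h0 := congrArg (fun z : SpecialLinearGroup (Fin 2) F => (z : Matrix (Fin 2) (Fin 2) F) 0 0) hA
  have h1 := congrArg (fun z : SpecialLinearGroup (Fin 2) F => (z : Matrix (Fin 2) (Fin 2) F) 0 1) hA
  simp [Matrix.mul_apply, Fin.sum_univ_two] at h0 h1
  have he0 : e ≠ 0 := fun h => he (h ▸ IsSquare.zero)
  have h10 : (A : Matrix (Fin 2) (Fin 2) F) 1 0 = 0 := h0.resolve_left he0
  have hd := A.2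
  rw [det_fin_two, h10, mul_zero, sub_zero] at hd
  have h00 : (A : Matrix (Fin 2) (Fin 2) F) 0 0 = e * (A : Matrix (Fin 2) (Fin 2) F) 1 1 := by linear_combination h1
  refine he ⟨(A : Matrix (Fin 2) (Fin 2) F) 0 0, ?_⟩
  calc e = e * ((A : Matrix (Fin 2) (Fin 2) F) 0 0 * (A : Matrix (Fin 2) (Fin 2) F) 1 1) := by rw [hd, mul_one]
    _ = (A : Matrix (Fin 2) (Fin 2) F) 0 0 * (e * (A : Matrix (Fin 2) (Fin 2) F) 1 1) := by ring
    _ = _ := by rw [← h00]

lemma half_norm {r : ℕ} (hr : Fintype.card F = 2 * r + 1) {e : F} (he : ¬ IsSquare e)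
    {π : GL (Fin 2) F → ℂ} (hπ : IsIrrCharacter _ π) (hπ1 : π 1 ≠ 1)
    {χ χ' : SpecialLinearGroup (Fin 2) F → ℂ} (hχ : IsIrrCharacter _ χ) (hχ' : IsIrrCharacter _ χ') (hne : χ' ≠ χ)
    {x : GL (Fin 2) F} (hx : ∀ A, χ' A = χ (conjS x A))
    (hsum : ∀ A, π (SpecialLinearGroup.toGL A) = χ A + χ' A) :
    (χ (uS 1) - χ (uS e)) * conj (χ (uS 1) - χ (uS e)) = Fintype.card F := by
  have h := (half_diff_sq hr hπ hπ1 hχ hχ' hne hx hsum).1
  have hns := conjS_halves_nonsquare hχ.isClassFunction hne hx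
  set d : F := ((GeneralLinearGroup.det x : Fˣ) : F)
  have hd0 : d ≠ 0 := Units.ne_zero _
  have he0 : e ≠ 0 := fun h => he (h ▸ IsSquare.zero)
  have hs : IsSquare (e / d) := by
    rw [← quadraticChar_one_iff_isSquare (div_ne_zero he0 hd0), div_eq_mul_inv, map_mul,
      quadraticChar_neg_one_iff_not_isSquare.2 he,
      quadraticChar_neg_one_iff_not_isSquare.2 (fun h => hns (isSquare_inv.1 h))]
    norm_num
  obtain ⟨s, hs⟩ := hs
  have hs0 : s ≠ 0 := fun h => div_ne_zero he0 hd0 (by rw [hs, h, mul_zero])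
  have key : χ' (uS 1) = χ (uS e) := by
    rw [half_uS hχ.isClassFunction hx, mul_one]
    have := apply_uS_sq hχ.isClassFunction (Units.mk0 s hs0) d
    rw [Units.val_mk0, sq, ← hs, div_mul_cancel₀ e hd0] at this
    exact this.symm
  rwa [key] at h

lemma exists_plus {r : ℕ} (hr : Fintype.card F = 2 * r + 1) :
    ∃ (π : GL (Fin 2) F → ℂ) (x : GL (Fin 2) F) (θ θ' : SpecialLinearGroup (Fin 2) F → ℂ),
      IsIrrCharacter _ π ∧ π 1 ≠ 1 ∧ IsIrrCharacter _ θ ∧ IsIrrCharacter _ θ' ∧ θ' ≠ θ ∧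
      θ 1 = (r : ℂ) + 1 ∧ (∀ A, θ' A = θ (conjS x A)) ∧ ∀ A, π (SpecialLinearGroup.toGL A) = θ A + θ' A := by
  classical
  have hne := quadC_ne_one (F := F) ⟨r, hr⟩
  set π := indFun (upperTriangularGL 2 F) (thGL (quadC : MulChar F ℂ) 1)
  have hπ : IsIrrCharacter _ π := isIrrCharacter_of_classInner_eq_one
    (isCharacter_indFun _ (isCharacter_thGL _ _)) (by rw [inner_GL]; simp [hne])
  have hπd : π 1 = (Fintype.card F : ℂ) + 1 := indFun_one' _ _
  have h1 : π 1 ≠ 1 := fun e => Nat.cast_ne_zero.2 Fintype.card_ne_zero (show (Fintype.card F : ℂ) = 0 by linear_combination e - hπd)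
  rcases res_cases hπ h1 with hirr | ⟨x, θ, θ', hθ, hθ', hd, hx, hsum⟩
  · exfalso
    have h2 := inner_SL (quadC : MulChar F ℂ) quadC
    have e1 : (quadC : MulChar F ℂ) = quadC⁻¹ := eq_inv_of_mul_eq_one_left (by rw [← sq]; exact quadC_sq)
    rw [if_pos rfl, if_pos e1, show indFun _ (thSL (quadC : MulChar F ℂ)) =
      fun A => π (SpecialLinearGroup.toGL A) from funext fun A => by simp [π, res_indFun],
      classInner_irr_self hirr] at h2
    norm_num at h2
  · refine ⟨π, x, θ, θ', hπ, h1, hθ, hθ', hd.symm, ?_, hx, hsum⟩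
    have h := hsum 1
    rw [map_one, hπd, hx, map_one, hr] at h
    push_cast at h
    linear_combination -h / 2

/-- Two distinct characters of degree `(q ± 1) / 2` are the halves of one restriction. -/
theorem two_halves {r : ℕ} (hr : Fintype.card F = 2 * r + 1) (hr2 : 2 ≤ r)
    {χ₁ χ₂ : SpecialLinearGroup (Fin 2) F → ℂ} (h1 : IsIrrCharacter _ χ₁) (h2 : IsIrrCharacter _ χ₂) (h12 : χ₁ ≠ χ₂)
    (hd : χ₁ 1 = (r : ℂ) ∨ χ₁ 1 = (r : ℂ) + 1) (he : χ₂ 1 = χ₁ 1) :
    ∃ π : GL (Fin 2) F → ℂ, IsIrrCharacter _ π ∧ π 1 ≠ 1 ∧ π 1 = 2 * χ₁ 1 ∧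
      ∀ A, π (SpecialLinearGroup.toGL A) = χ₁ A + χ₂ A := by
  classical
  have hodd : Odd (Fintype.card F) := ⟨r, hr⟩
  obtain ⟨π, x, χ', hπ, hπ1, hdeg, hχ', hne, hx, hsum⟩ := half_cases hr hr2 h1 hd
  obtain ⟨π₂, x₂, χ₂', hπ₂, hπ₂1, hdeg₂, hχ₂', hne₂, hx₂, hsum₂⟩ := half_cases hr hr2 h2 (he.symm ▸ hd)
  suffices hcl : χ₂ = χ' by
    subst hcl
    exact ⟨π, hπ, hπ1, hdeg, hsum⟩
  by_contra hne2
  rcases hd with hd | hd
  · obtain ⟨π₀, x₀, θ, θ', hπ₀, hπ₀1, hθ, hθ', hθne, hθd, hxθ, hsumθ⟩ := exists_plus hr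
    obtain ⟨e, he'⟩ := FiniteField.exists_nonsquare (ringChar_ne_two hodd)
    have he0 : e ≠ 0 := fun h => he' (h ▸ IsSquare.zero)
    let D : IrrCharacter (SpecialLinearGroup (Fin 2) F) → ℂ := fun ξ => (ξ.1 (uS 1) - ξ.1 (uS e)) * conj (ξ.1 (uS 1) - ξ.1 (uS e))
    have hnc := not_isConj_uS he'
    have o1 := column_orthogonality (uS (1 : F)) (uS 1)
    have o2 := column_orthogonality (uS e) (uS e)
    have o3 := column_orthogonality (uS (1 : F)) (uS e)
    have o4 := column_orthogonality (uS e) (uS (1 : F))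
    rw [if_pos (IsConj.refl _), card_centralizer_uS hodd one_ne_zero] at o1
    rw [if_pos (IsConj.refl _), card_centralizer_uS hodd he0] at o2
    rw [if_neg hnc] at o3
    rw [if_neg fun h => hnc (isConj_comm.1 h)] at o4
    have htot : ∑ ξ, D ξ = ((4 * Fintype.card F : ℕ) : ℂ) := by
      simp only [D]
      rw [Finset.sum_congr rfl fun ξ _ => show _ = (ξ.1 (uS 1) * conj (ξ.1 (uS 1)) + ξ.1 (uS e) * conj (ξ.1 (uS e))) -
          (ξ.1 (uS 1) * conj (ξ.1 (uS e)) + ξ.1 (uS e) * conj (ξ.1 (uS 1))) by rw [map_sub]; ring,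
        Finset.sum_sub_distrib, Finset.sum_add_distrib, Finset.sum_add_distrib, o1, o2, o3, o4]
      push_cast; ring
    set S : Finset (IrrCharacter (SpecialLinearGroup (Fin 2) F)) :=
      {⟨θ, hθ⟩, ⟨θ', hθ'⟩, ⟨χ₁, h1⟩, ⟨χ', hχ'⟩, ⟨χ₂, h2⟩} with hS
    have hdne : (r : ℂ) + 1 ≠ r := fun h => one_ne_zero (α := ℂ) (by linear_combination h)
    have hθ'd : θ' 1 = (r : ℂ) + 1 := by rw [hxθ, map_one, hθd]
    have hχ'd : χ' 1 = (r : ℂ) := by rw [hx, map_one, hd]
    have hχ₂d : χ₂ 1 = (r : ℂ) := by rw [he, hd]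
    have d1 : ∀ {f g : SpecialLinearGroup (Fin 2) F → ℂ}, f 1 = (r : ℂ) + 1 → g 1 = (r : ℂ) → f ≠ g :=
      fun hf hg h => hdne (by rw [← hf, h, hg])
    have hcard : S.card = 5 := by
      rw [hS]
      simp [Subtype.ext_iff, hθne.symm, hne.symm, h12, Ne.symm hne2, d1 hθd hd, d1 hθd hχ'd, d1 hθd hχ₂d,
        d1 hθ'd hd, d1 hθ'd hχ'd, d1 hθ'd hχ₂d]
    have hval : ∀ ξ ∈ S, D ξ = Fintype.card F := by
      intro ξ hξ
      simp only [hS, Finset.mem_insert, Finset.mem_singleton] at hξ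
      have flip : ∀ {π : GL (Fin 2) F → ℂ} {a b : SpecialLinearGroup (Fin 2) F → ℂ} {x : GL (Fin 2) F},
          IsIrrCharacter _ π → π 1 ≠ 1 → IsIrrCharacter _ a → ∀ (hb : IsIrrCharacter _ b), b ≠ a → (∀ A, b A = a (conjS x A)) →
          (∀ A, π (SpecialLinearGroup.toGL A) = a A + b A) → D ⟨b, hb⟩ = Fintype.card F := by
        intro π a b x hπ hπ1 ha hb hab hx hs
        refine half_norm hr he' hπ hπ1 hb ha hab.symm (x := x⁻¹) (fun A => ?_) fun A => by rw [hs, add_comm]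
        show a A = b (conjS x⁻¹ A); rw [hx, ← conjS_mul, mul_inv_cancel, conjS_of_commute (Commute.one_left _)]
      rcases hξ with rfl | rfl | rfl | rfl | rfl
      · exact half_norm hr he' hπ₀ hπ₀1 hθ hθ' hθne hxθ hsumθ
      · exact flip hπ₀ hπ₀1 hθ hθ' hθne hxθ hsumθ
      · exact half_norm hr he' hπ hπ1 h1 hχ' hne hx hsum
      · exact flip hπ hπ1 h1 hχ' hne hx hsum
      · exact half_norm hr he' hπ₂ hπ₂1 h2 hχ₂' hne₂ hx₂ hsum₂
    have hre : ∀ ξ, (D ξ).re = Complex.normSq (ξ.1 (uS 1) - ξ.1 (uS e)) := fun ξ => by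
      simp only [D]; rw [Complex.mul_conj, Complex.ofReal_re]
    have h5 : ((5 * Fintype.card F : ℕ) : ℝ) ≤ ((4 * Fintype.card F : ℕ) : ℝ) := by
      have ht := congrArg Complex.re htot
      rw [Complex.re_sum, Complex.natCast_re] at ht
      rw [← ht]
      refine le_trans (le_of_eq ?_) (Finset.sum_le_univ_sum_of_nonneg (s := S) fun ξ => by rw [hre]; exact Complex.normSq_nonneg _)
      rw [Finset.sum_congr rfl fun ξ hξ => by rw [hval ξ hξ, Complex.natCast_re], Finset.sum_const, hcard, nsmul_eq_mul]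
      push_cast; ring
    have := Nat.cast_le.1 h5
    have := Fintype.card_pos (α := F)
    omega
  · have e1 := plus_res hr hπ (by rw [hdeg, hd]) h1 hχ' hne hsum
    have e2 := plus_res hr hπ₂ (by rw [hdeg₂, he, hd]) h2 hχ₂' hne₂ hsum₂
    have h3 : classInner (χ₁ + χ') χ₂ = classInner (χ₂ + χ₂') χ₂ := by
      rw [show χ₁ + χ' = χ₂ + χ₂' from funext fun A => (e1 A).trans (e2 A).symm]
    rw [classInner_add_left, classInner_add_left, classInner_irr_ne h1 h2 h12,
      classInner_irr_ne hχ' h2 (fun h => hne2 h.symm), classInner_irr_self h2, classInner_irr_ne hχ₂' h2 hne₂] at h3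
    norm_num at h3

end Cfsg.Lib.Classical.TwoDim
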