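import Cfsg.Agent.Lib.Classical.TwoDimDiscrete
import Cfsg.Agent.Lib.Classical.TwoDimHalvesCount

/-! Conjugacy classes of `SL₂` in odd characteristic. -/

set_option autoImplicit false
set_option linter.unusedSectionVars false

namespace Cfsg.Lib.Classical.TwoDim

open Matrix

variable {F : Type*} [Field F] [Fintype F] [DecidableEq F]

lemma card_centralizer_conj {G : Type*} [Group G] (g x : G) :
    Nat.card (Subgroup.centralizer ({x * g * x⁻¹} : Set G)) = Nat.card (Subgroup.centralizer ({g} : Set G)) := by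
  refine Nat.card_congr ((MulAut.conj x⁻¹).toEquiv.subtypeEquiv fun y => ?_)
  simp only [Subgroup.mem_centralizer_singleton_iff, MulEquiv.toEquiv_eq_coe, EquivLike.coe_coe, MulAut.conj_apply, inv_inv]
  constructor
  · intro h
    calc x⁻¹ * y * x * g = x⁻¹ * (y * (x * g * x⁻¹)) * x := by group
      _ = g * (x⁻¹ * y * x) := by rw [h]; group
  · intro h
    calc y * (x * g * x⁻¹) = x * (x⁻¹ * y * x * g) * x⁻¹ := by group
      _ = x * g * x⁻¹ * y := by rw [h]; group

/-- An element of trace `2 z` other than `z` is conjugate to `z` times an upper unipotent. -/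
lemma exists_unip (h2 : (2 : F) ≠ 0) {z g : SpecialLinearGroup (Fin 2) F} (hz : z = 1 ∨ z = -1) (hgz : g ≠ z)
    (ht : tr g = tr z) : ∃ (x : SpecialLinearGroup (Fin 2) F) (b : F), b ≠ 0 ∧ x * g * x⁻¹ = z * uS b := by
  have hnell : ¬ Elliptic (g : Matrix (Fin 2) (Fin 2) F) := fun he => tr_ne_elliptic h2 he (by rw [ht]; exact tr_central hz)
  obtain ⟨x, hx⟩ := exists_upper hnell
  set g' := x * g * x⁻¹ with hg'
  obtain ⟨e, he, hzm⟩ : ∃ e : F, e * e = 1 ∧ (z : Matrix (Fin 2) (Fin 2) F) = !![e, 0; 0, e] := by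
    rcases hz with rfl | rfl
    · exact ⟨1, one_mul 1, by ext i j; fin_cases i <;> fin_cases j <;> simp⟩
    · exact ⟨-1, by simp, by ext i j; fin_cases i <;> fin_cases j <;> simp⟩
  have htr' : (g' : Matrix (Fin 2) (Fin 2) F) 0 0 + (g' : Matrix (Fin 2) (Fin 2) F) 1 1 = 2 * e := by
    have h : tr g' = tr z := by rw [hg', tr_conj, ht]
    simp only [tr, hzm] at h
    simp at h
    linear_combination h
  have hd := g'.2
  rw [det_fin_two, hx, mul_zero, sub_zero] at hd
  have h00 : (g' : Matrix (Fin 2) (Fin 2) F) 0 0 = e := by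
    have : ((g' : Matrix (Fin 2) (Fin 2) F) 0 0 - e) * ((g' : Matrix (Fin 2) (Fin 2) F) 0 0 - e) = 0 := by
      linear_combination (g' : Matrix (Fin 2) (Fin 2) F) 0 0 * htr' - hd + he
    exact sub_eq_zero.1 (mul_self_eq_zero.1 this)
  have h11 : (g' : Matrix (Fin 2) (Fin 2) F) 1 1 = e := by linear_combination htr' - h00
  have hgz' : g' ≠ z := fun k => hgz (by
    have h' := congrArg (fun y => x⁻¹ * y * x) k
    rcases hz with rfl | rfl <;> simpa [g', mul_assoc] using h')
  have hb : (g' : Matrix (Fin 2) (Fin 2) F) 0 1 ≠ 0 := fun hb => hgz' (Subtype.ext (by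
    rw [hzm]; ext i j; fin_cases i <;> fin_cases j <;> simp [hx, hb, h00, h11]))
  refine ⟨x, e * (g' : Matrix (Fin 2) (Fin 2) F) 0 1, mul_ne_zero (left_ne_zero_of_mul_eq_one he) hb, ?_⟩
  refine Subtype.ext ?_
  show (g' : Matrix (Fin 2) (Fin 2) F) = (z : Matrix (Fin 2) (Fin 2) F) * !![1, e * (g' : Matrix (Fin 2) (Fin 2) F) 0 1; 0, 1]
  rw [hzm]
  ext i j
  fin_cases i <;> fin_cases j <;> simp [Matrix.mul_apply, Fin.sum_univ_two, hx, h00, h11, ← mul_assoc, he]

lemma card_centralizer_unip (hodd : Odd (Fintype.card F)) {z g : SpecialLinearGroup (Fin 2) F} (hz : z = 1 ∨ z = -1)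
    (hgz : g ≠ z) (ht : tr g = tr z) :
    Nat.card (Subgroup.centralizer ({g} : Set (SpecialLinearGroup (Fin 2) F))) = 2 * Fintype.card F := by
  obtain ⟨x, b, hb, hx⟩ := exists_unip (two_ne_zero_of_odd hodd) hz hgz ht
  rw [← card_centralizer_conj g x, hx, ← card_centralizer_uS hodd hb]
  congr 1
  have : Subgroup.centralizer ({z * uS b} : Set (SpecialLinearGroup (Fin 2) F)) = Subgroup.centralizer {uS b} := by
    ext y
    simp only [Subgroup.mem_centralizer_singleton_iff]
    have hyz : y * z = z * y := by rcases hz with rfl | rfl <;> simp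
    rw [← mul_assoc, hyz, mul_assoc, mul_assoc, mul_right_inj]
  rw [this]

lemma card_centralizer_split (h2 : (2 : F) ≠ 0) {g : SpecialLinearGroup (Fin 2) F}
    (hg : ¬ Elliptic (g : Matrix (Fin 2) (Fin 2) F)) (h4 : tr g ^ 2 ≠ 4) :
    Nat.card (Subgroup.centralizer ({g} : Set (SpecialLinearGroup (Fin 2) F))) = Fintype.card F - 1 := by
  obtain ⟨x, hx⟩ := exists_upper hg
  rw [← card_centralizer_conj g x]
  set g' := x * g * x⁻¹ with hg'
  have h4' : tr g' ^ 2 ≠ 4 := by rw [hg', tr_conj]; exact h4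
  have hd := g'.2
  rw [det_fin_two, hx, mul_zero, sub_zero] at hd
  let D : SpecialLinearGroup (Fin 2) F := ⟨!![(g' : Matrix (Fin 2) (Fin 2) F) 0 0, 0; 0, (g' : Matrix (Fin 2) (Fin 2) F) 1 1],
    by rw [det_fin_two]; simpa using hd⟩
  obtain ⟨P, hP⟩ := Cfsg.Lib.SLTwoConj.isConj_of_trace h2 g' D (by simp [D]) h4'
  rw [← card_centralizer_conj g' P⁻¹, inv_inv, hP,
    (diag_data (F := F) h2).centralizer_elem h2 (show D ∈ diagTorus from ⟨rfl, rfl⟩)
      (fun e => h4' (by
        rw [show tr g' = tr D by simp [tr, D], e]; exact tr_central (Or.inl rfl)))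
      (fun e => h4' (by
        rw [show tr g' = tr D by simp [tr, D], e]; exact tr_central (Or.inr rfl))), card_diagTorus]

/-- The class number of `SL₂`. -/
theorem card_classes (hodd : Odd (Fintype.card F)) :
    Nat.card (ConjClasses (SpecialLinearGroup (Fin 2) F)) = Fintype.card F + 4 := by
  classical
  have h2 := two_ne_zero_of_odd hodd
  obtain ⟨ε, hε⟩ := FiniteField.exists_nonsquare (F := F) (ringChar_ne_two hodd)
  set f : SpecialLinearGroup (Fin 2) F → ℂ := fun g =>
    (Nat.card (Subgroup.centralizer ({g} : Set (SpecialLinearGroup (Fin 2) F))) : ℂ) - ((Fintype.card F : ℂ) - 1)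
  have hcls : Cfsg.IsClassFunction (SpecialLinearGroup (Fin 2) F) f := fun g x => by simp only [f, card_centralizer_conj]
  have hone : ∀ z : SpecialLinearGroup (Fin 2) F, (z = 1 ∨ z = -1) →
      f z = (Nat.card (SpecialLinearGroup (Fin 2) F) : ℂ) - ((Fintype.card F : ℂ) - 1) := fun z hz => by
    simp only [f]
    rw [show Subgroup.centralizer ({z} : Set (SpecialLinearGroup (Fin 2) F)) = ⊤ from
      eq_top_iff.2 fun y _ => Subgroup.mem_centralizer_singleton_iff.2 (by rcases hz with rfl | rfl <;> simp), Subgroup.card_top]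
  have hu : ∀ z : SpecialLinearGroup (Fin 2) F, (z = 1 ∨ z = -1) → ∀ g, g ≠ z → tr g = tr z → f g = (Fintype.card F : ℂ) + 1 :=
    fun z hz g h1 ht => by
      simp only [f, card_centralizer_unip hodd hz h1 ht]; push_cast; ring
  have hS := sum_formula h2 hε hcls (fun g he ht => by
      simp only [f, card_centralizer_split h2 he ht, Nat.cast_sub Fintype.card_pos, Nat.cast_one]; ring)
    (hu 1 (Or.inl rfl)) (hu (-1) (Or.inr rfl))
  have hT : ∀ c : nsTorus ε, (if (c : SpecialLinearGroup (Fin 2) F) = 1 ∨ (c : SpecialLinearGroup (Fin 2) F) = -1 then (0 : ℂ) else f c) =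
      2 - (if (c : SpecialLinearGroup (Fin 2) F) = 1 ∨ (c : SpecialLinearGroup (Fin 2) F) = -1 then 2 else 0) := by
    intro c
    split_ifs with h
    · ring
    · simp only [not_or] at h
      simp only [f, (ns_data h2 hε).centralizer_elem h2 c.2 h.1 h.2, card_nsTorus h2 hε]
      push_cast; ring
  have hexc : ∑ c : nsTorus ε, (if (c : SpecialLinearGroup (Fin 2) F) = 1 ∨ (c : SpecialLinearGroup (Fin 2) F) = -1 then (2 : ℂ) else 0) = 4 := by
    rw [sum_split h2 hε, Finset.sum_eq_zero fun c _ => by split_ifs <;> rfl]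
    simp; norm_num
  have hTs : ∑ c : nsTorus ε, (if (c : SpecialLinearGroup (Fin 2) F) = 1 ∨ (c : SpecialLinearGroup (Fin 2) F) = -1 then (0 : ℂ) else f c) =
      2 * (Fintype.card F : ℂ) - 2 := by
    rw [Finset.sum_congr rfl fun c _ => hT c, Finset.sum_sub_distrib, hexc, Finset.sum_const, Finset.card_univ,
      ← Nat.card_eq_fintype_card (α := nsTorus ε), card_nsTorus h2 hε, nsmul_eq_mul]
    push_cast; ring
  rw [hTs, hone 1 (Or.inl rfl), hone (-1) (Or.inr rfl)] at hS
  have hpairs : Nat.card {p : SpecialLinearGroup (Fin 2) F × SpecialLinearGroup (Fin 2) F // Commute p.1 p.2} =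
      ∑ g : SpecialLinearGroup (Fin 2) F, Nat.card (Subgroup.centralizer ({g} : Set (SpecialLinearGroup (Fin 2) F))) := by
    rw [Nat.card_congr (Equiv.subtypeProdEquivSigmaSubtype fun g x => Commute g x), Nat.card_sigma]
    exact Finset.sum_congr rfl fun g _ => Nat.card_congr (Equiv.subtypeEquivRight fun x => by
      rw [Subgroup.mem_centralizer_singleton_iff]; exact eq_comm)
  rw [card_comm_eq_card_conjClasses_mul_card] at hpairs
  have hpC := congrArg (Nat.cast (R := ℂ)) hpairs
  rw [Nat.cast_mul, Nat.cast_sum] at hpC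
  simp only [f, Finset.sum_sub_distrib, Finset.sum_const, Finset.card_univ, nsmul_eq_mul,
    ← Nat.card_eq_fintype_card (α := SpecialLinearGroup (Fin 2) F), ← hpC] at hS
  rw [card_SL] at hS
  push_cast [Nat.cast_sub Fintype.card_pos] at hS
  apply Nat.cast_injective (R := ℂ)
  push_cast
  have hq1 : (Fintype.card F : ℂ) + 1 ≠ 0 := by exact_mod_cast Nat.succ_ne_zero (Fintype.card F)
  have hq : (Fintype.card F : ℂ) * (((Fintype.card F : ℂ) + 1) * ((Fintype.card F : ℂ) - 1)) ≠ 0 :=
    mul_ne_zero (Nat.cast_ne_zero.2 Fintype.card_ne_zero) (mul_ne_zero hq1 (qsub_ne (F := F)))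
  refine mul_right_cancel₀ hq ?_
  linear_combination hS

end Cfsg.Lib.Classical.TwoDim
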