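import Cfsg.Agent.Lib.Classical.TwoDimSLFacts

/-! The cuspidal characters of `SL₂` of the field with three elements vanish at elliptic elements. -/

set_option autoImplicit false
set_option linter.unusedSectionVars false

namespace Cfsg.Lib.Classical.TwoDim

open Matrix
open scoped ComplexConjugate
open Cfsg Cfsg.Lib.Characters Cfsg.Lib.Classical Cfsg.Lib.Classical.ProjLine

variable {F : Type*} [Field F]

lemma isConj_of_tr_det {A B : GL (Fin 2) F} (hA : ∀ c : F, (A : Matrix (Fin 2) (Fin 2) F) ≠ diagonal fun _ => c)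
    (hB : ∀ c : F, (B : Matrix (Fin 2) (Fin 2) F) ≠ diagonal fun _ => c)
    (ht : (A : Matrix (Fin 2) (Fin 2) F).trace = (B : Matrix (Fin 2) (Fin 2) F).trace)
    (hd : (A : Matrix (Fin 2) (Fin 2) F).det = (B : Matrix (Fin 2) (Fin 2) F).det) : IsConj A B := by
  obtain ⟨P, hP, hPA⟩ := Cfsg.Agent.GLTwoForm.exists_companion _ hA
  obtain ⟨Q, hQ, hQB⟩ := Cfsg.Agent.GLTwoForm.exists_companion _ hB
  set C : GL (Fin 2) F := GeneralLinearGroup.mkOfDetNeZero
    !![0, -(A : Matrix (Fin 2) (Fin 2) F).det; 1, (A : Matrix (Fin 2) (Fin 2) F).trace]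
    (by simp [det_fin_two]; simpa [det_fin_two] using Matrix.GeneralLinearGroup.det_ne_zero A)
  have h1 : IsConj C A := isConj_iff.2 ⟨GeneralLinearGroup.mkOfDetNeZero P hP, mul_inv_eq_iff_eq_mul.2 (Units.ext hPA.symm)⟩
  have h2 : IsConj C B := isConj_iff.2 ⟨GeneralLinearGroup.mkOfDetNeZero Q hQ, mul_inv_eq_iff_eq_mul.2 (Units.ext (by
    show Q * _ = (B : Matrix (Fin 2) (Fin 2) F) * Q
    rw [hQB, ← hd, ← ht]; rfl))⟩
  exact h1.symm.trans h2

variable [Fintype F] [DecidableEq F]

theorem three_vanish (h3 : Fintype.card F = 3) {π : GL (Fin 2) F → ℂ} (hπ : IsIrrCharacter _ π) (hπd : π 1 = 2)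
    (hπu : π (GL2.u 1) = -1) {χ : SpecialLinearGroup (Fin 2) F → ℂ} (hχ : IsIrrCharacter _ χ)
    (hres : ∀ A, π (SpecialLinearGroup.toGL A) = χ A) {g : SpecialLinearGroup (Fin 2) F}
    (hg : Elliptic (g : Matrix (Fin 2) (Fin 2) F)) : χ g = 0 := by
  classical
  have h30 : (3 : F) = 0 := by
    have h : ((Fintype.card F : ℕ) : F) = 0 := Nat.cast_card_eq_zero F
    rw [h3] at h; exact_mod_cast h
  have h2 : (2 : F) ≠ 0 := two_ne_zero_of_odd ⟨1, h3⟩
  have hall : ∀ x : F, x = 0 ∨ x = 1 ∨ x = -1 := by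
    intro x
    have h := FiniteField.pow_card x
    rw [h3] at h
    have : x * ((x - 1) * (x + 1)) = 0 := by linear_combination h
    rcases mul_eq_zero.1 this with h | h
    · exact Or.inl h
    rcases mul_eq_zero.1 h with h | h
    · exact Or.inr (Or.inl (sub_eq_zero.1 h))
    · exact Or.inr (Or.inr (eq_neg_of_add_eq_zero_left h))
  obtain ⟨n, ρ, hρi, hρc⟩ := id hπ
  haveI := hρi
  set z : GL (Fin 2) F := dg (-1) (-1)
  have hz : ∀ x : GL (Fin 2) F, z * x = x * z := fun x =>
    Units.ext (by ext i j; fin_cases i <;> fin_cases j <;> simp [z, Matrix.mul_apply, Fin.sum_univ_two])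
  obtain ⟨ω, hω⟩ := schur_scalar ρ (ρ z) fun x => by rw [← map_mul, ← map_mul, hz]
  have hzx : ∀ x, π (z * x) = ω * π x := by
    intro x
    rw [← hρc]
    show LinearMap.trace ℂ _ (ρ (z * x)) = ω * LinearMap.trace ℂ _ (ρ x)
    rw [map_mul, hω, smul_mul_assoc, show (LinearMap.id : (Fin n → ℂ) →ₗ[ℂ] _) * ρ x = ρ x from LinearMap.id_comp _, map_smul, smul_eq_mul]
  have hω2 : ω = 1 ∨ ω = -1 := by
    have h1 : z * z = 1 := Units.ext (by ext i j; fin_cases i <;> fin_cases j <;> simp [z, Matrix.mul_apply, Fin.sum_univ_two])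
    have h := hzx z
    rw [h1, show π z = ω * π 1 by simpa using hzx 1, hπd] at h
    exact mul_self_eq_one_iff.1 (by linear_combination -h / 2)
  have hE : ∀ e : F, e = 1 ∨ e = -1 → ∀ B : GL (Fin 2) F, (∀ c : F, (B : Matrix (Fin 2) (Fin 2) F) ≠ diagonal fun _ => c) →
      (B : Matrix (Fin 2) (Fin 2) F).trace = 2 * e → (B : Matrix (Fin 2) (Fin 2) F).det = 1 →
      π B = if e = 1 then -1 else -ω := by
    intro e he B hB ht hd
    have hu1 : ∀ c : F, ((GL2.u (1 : F) : GL (Fin 2) F) : Matrix (Fin 2) (Fin 2) F) ≠ diagonal fun _ => c := fun c h => by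
      simpa using congrFun (congrFun h 0) 1
    rcases he with rfl | rfl
    · obtain ⟨c, hc⟩ := isConj_iff.1 (isConj_of_tr_det hu1 hB (by rw [ht]; simp [trace_fin_two]; norm_num)
        (by rw [hd]; simp [det_fin_two]))
      rw [if_pos rfl, ← hc, hπ.isClassFunction, hπu]
    · have hzu : ∀ c : F, ((z * GL2.u (1 : F) : GL (Fin 2) F) : Matrix (Fin 2) (Fin 2) F) ≠ diagonal fun _ => c := fun c h => by
        simpa [z, Matrix.mul_apply, Fin.sum_univ_two] using congrFun (congrFun h 0) 1
      obtain ⟨c, hc⟩ := isConj_iff.1 (isConj_of_tr_det hzu hB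
        (by rw [ht]; simp [z, trace_fin_two, Matrix.mul_apply, Fin.sum_univ_two]; ring)
        (by rw [hd]; simp [z, det_fin_two, Matrix.mul_apply, Fin.sum_univ_two]))
      rw [if_neg (fun h => h2 (by linear_combination -h)), ← hc, hπ.isClassFunction, hzx, hπu, mul_neg_one]
  have hsum0 : ∑ a : F, π (GL2.u a) = 0 := by
    rw [sum_u hπ.isClassFunction, hπd, hπu, h3]; norm_num
  have hval : ∀ A : SpecialLinearGroup (Fin 2) F, Elliptic (A : Matrix (Fin 2) (Fin 2) F) → χ A = 1 + ω := by
    intro A hA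
    have hc := hA.lower_ne
    have hd : (A : Matrix (Fin 2) (Fin 2) F).det = 1 := A.2
    have ht : (A : Matrix (Fin 2) (Fin 2) F) 0 0 + (A : Matrix (Fin 2) (Fin 2) F) 1 1 = 0 := by
      set t := (A : Matrix (Fin 2) (Fin 2) F) 0 0 + (A : Matrix (Fin 2) (Fin 2) F) 1 1
      by_contra h0
      have h4 : t * t = 4 := by
        rcases hall t with h | h | h
        · exact absurd h h0
        · rw [h]; linear_combination -h30
        · rw [h]; linear_combination -h30
      refine hA.no_root (((A : Matrix (Fin 2) (Fin 2) F) 0 0 - (A : Matrix (Fin 2) (Fin 2) F) 1 1) / (2 * (A : Matrix (Fin 2) (Fin 2) F) 1 0)) ?_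
      rw [det_fin_two] at hd
      field_simp
      linear_combination -h4 + 4 * hd
    have hs := sum_translate_eq_zero hπ.isCharacter hsum0 (SpecialLinearGroup.toGL A)
    rw [show (Finset.univ : Finset F) = {0, 1, -1} by ext x; simp [hall x],
      Finset.sum_insert (by simp [eq_comm (a := (0 : F))]), Finset.sum_insert (by
        simp only [Finset.mem_singleton]; exact fun h => h2 (by linear_combination h)), Finset.sum_singleton,
      u_zero, mul_one, hres] at hs
    have hB : ∀ a : F, a ≠ 0 → ∀ c : F,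
        ((SpecialLinearGroup.toGL A * GL2.u a : GL (Fin 2) F) : Matrix (Fin 2) (Fin 2) F) ≠ diagonal fun _ => c := fun a _ c h => by
      have := congrFun (congrFun h 1) 0
      simp [Matrix.mul_apply, Fin.sum_univ_two] at this
      exact hc this
    have htr : ∀ a : F, ((SpecialLinearGroup.toGL A * GL2.u a : GL (Fin 2) F) : Matrix (Fin 2) (Fin 2) F).trace =
        2 * (-((A : Matrix (Fin 2) (Fin 2) F) 1 0) * a) := fun a => by
      simp [trace_fin_two, Matrix.mul_apply, Fin.sum_univ_two]
      linear_combination ht + ((A : Matrix (Fin 2) (Fin 2) F) 1 0 * a) * h30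
    have hdt : ∀ a : F, ((SpecialLinearGroup.toGL A * GL2.u a : GL (Fin 2) F) : Matrix (Fin 2) (Fin 2) F).det = 1 := fun a => by
      simp [det_fin_two, Matrix.mul_apply, Fin.sum_univ_two]
    have hcc : (A : Matrix (Fin 2) (Fin 2) F) 1 0 = 1 ∨ (A : Matrix (Fin 2) (Fin 2) F) 1 0 = -1 := (hall _).resolve_left hc
    have hne : (-1 : F) ≠ 1 := fun h => h2 (by linear_combination -h)
    rw [hE (-((A : Matrix (Fin 2) (Fin 2) F) 1 0) * 1) (by rcases hcc with h | h <;> simp [h]) _ (hB 1 one_ne_zero) (htr 1) (hdt 1),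
      hE (-((A : Matrix (Fin 2) (Fin 2) F) 1 0) * -1) (by rcases hcc with h | h <;> simp [h]) _ (hB (-1) (neg_ne_zero.2 one_ne_zero)) (htr (-1)) (hdt (-1))] at hs
    rcases hcc with h | h <;> simp [h, hne] at hs <;> linear_combination hs
  rcases hω2 with rfl | rfl
  · exfalso
    let w : SpecialLinearGroup (Fin 2) F := ⟨!![0, 1; -1, 0], by simp [det_fin_two]⟩
    have hw : Elliptic (w : Matrix (Fin 2) (Fin 2) F) := by
      intro c v hv h
      have e0 := congrFun h 0
      have e1 := congrFun h 1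
      simp [w, Matrix.mulVec, dotProduct, Fin.sum_univ_two] at e0 e1
      have h5 : (c * c + 1) * v 0 = 0 := by linear_combination -e1 - c * e0
      rcases mul_eq_zero.1 h5 with h | h
      · rcases hall c with rfl | rfl | rfl
        · exact one_ne_zero (α := F) (by linear_combination h)
        · exact h2 (by linear_combination h)
        · exact h2 (by linear_combination h)
      · refine hv (funext fun i => ?_)
        fin_cases i
        · exact h
        · simp [e0, h]
    have hχd : χ 1 = 2 := by rw [← hres, map_one, hπd]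
    have := charKer_normal hχ.isCharacter
    set K := charKer hχ.isCharacter
    have hwK : w ∈ K := (mem_charKer _).2 (by rw [hval w hw, hχd]; norm_num)
    set H := K ⊔ Subgroup.zpowers (uS (1 : F))
    have hup : ∀ c : F, uS c ∈ H := by
      intro c
      refine Subgroup.mem_sup_right ?_
      rcases hall c with rfl | rfl | rfl
      · rw [uS_zero]; exact one_mem _
      · exact Subgroup.mem_zpowers _
      · rw [show uS (-1 : F) = (uS 1)⁻¹ from eq_inv_of_mul_eq_one_left (Subtype.ext (by
          ext i j; fin_cases i <;> fin_cases j <;> simp [Matrix.mul_apply, Fin.sum_univ_two]))]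
        exact inv_mem (Subgroup.mem_zpowers _)
    have hH : H = ⊤ := by
      refine SLGroup.eq_top_of_transvection _ fun i j hij c => ?_
      fin_cases i <;> fin_cases j <;> simp only [Fin.zero_eta, Fin.mk_one] at hij ⊢
      · exact absurd rfl hij
      · have : SpecialLinearGroup.transvection hij c = uS c := Subtype.ext (by
          ext a b; fin_cases a <;> fin_cases b <;> simp [SpecialLinearGroup.transvection_coe, Matrix.single])
        rw [this]; exact hup c
      · have : SpecialLinearGroup.transvection hij c = w * uS (-c) * w⁻¹ := by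
          rw [eq_mul_inv_iff_mul_eq]
          refine Subtype.ext ?_
          show (1 + Matrix.single 1 0 c : Matrix (Fin 2) (Fin 2) F) * !![0, 1; -1, 0] = !![0, 1; -1, 0] * !![1, -c; 0, 1]
          ext a b; fin_cases a <;> fin_cases b <;>
            simp [Matrix.mul_apply, Fin.sum_univ_two, Matrix.single, Matrix.one_apply]
        rw [this]
        exact mul_mem (mul_mem (Subgroup.mem_sup_left hwK) (hup _)) (inv_mem (Subgroup.mem_sup_left hwK))
      · exact absurd rfl hij
    obtain ⟨ψ, -, hψi, hψe⟩ := exists_of_quotient (N := K) hχ.isCharacter fun k hk => (mem_charKer _).1 hk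
    have hmap : Subgroup.zpowers (QuotientGroup.mk' K (uS (1 : F))) = ⊤ := by
      have h := congrArg (Subgroup.map (QuotientGroup.mk' K)) hH
      rw [Subgroup.map_sup, QuotientGroup.map_mk'_self, bot_sup_eq, MonoidHom.map_zpowers,
        Subgroup.map_top_of_surjective _ (QuotientGroup.mk'_surjective K)] at h
      exact h
    have : IsCyclic (SpecialLinearGroup (Fin 2) F ⧸ K) :=
      ⟨⟨_, fun x => Subgroup.mem_zpowers_iff.1 (hmap.ge (Subgroup.mem_top x))⟩⟩
    have : IsMulCommutative (SpecialLinearGroup (Fin 2) F ⧸ K) := ⟨⟨IsCyclic.commGroup.mul_comm⟩⟩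
    have hd1 := degree_one_of_isMulCommutative (hψi hχ)
    rw [← QuotientGroup.mk_one, hψe, hχd] at hd1
    norm_num at hd1
  · rw [hval g hg]; ring

end Cfsg.Lib.Classical.TwoDim
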