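import Cfsg.Agent.Lib.Classical.TwoDimTorusSylow
import Cfsg.Agent.Lib.Classical.TwoDimThree

/-! The discrete series of `SL₂` in odd characteristic. -/

set_option autoImplicit false
set_option linter.unusedSectionVars false

namespace Cfsg.Lib.Classical.TwoDim

open Matrix
open scoped ComplexConjugate
open Cfsg Cfsg.Lib.Characters Cfsg.Lib.Classical Cfsg.Lib.Classical.ProjLine

variable {F : Type*} [Field F]

/-- The trace. -/
def tr (g : SpecialLinearGroup (Fin 2) F) : F :=
  (g : Matrix (Fin 2) (Fin 2) F) 0 0 + (g : Matrix (Fin 2) (Fin 2) F) 1 1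

lemma tr_conj (h g : SpecialLinearGroup (Fin 2) F) : tr (h * g * h⁻¹) = tr g := by
  have key : ∀ A B : SpecialLinearGroup (Fin 2) F, tr (A * B) = tr (B * A) := fun A B => by
    simp [tr, Matrix.mul_apply, Fin.sum_univ_two]; ring
  rw [key, inv_mul_cancel_left]

lemma elliptic_of_disc {g : SpecialLinearGroup (Fin 2) F} (h : ¬ IsSquare (tr g ^ 2 - 4)) :
    Elliptic (g : Matrix (Fin 2) (Fin 2) F) := by
  intro m v hv hm
  refine h ⟨2 * m - tr g, ?_⟩
  have e0 := congrFun hm 0
  have e1 := congrFun hm 1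
  simp [Matrix.mulVec, dotProduct, Fin.sum_univ_two] at e0 e1
  have hd := g.2
  rw [det_fin_two] at hd
  set a := (g : Matrix (Fin 2) (Fin 2) F) 0 0
  set b := (g : Matrix (Fin 2) (Fin 2) F) 0 1
  set c := (g : Matrix (Fin 2) (Fin 2) F) 1 0
  set d := (g : Matrix (Fin 2) (Fin 2) F) 1 1
  have h0 : ((a - m) * (d - m) - b * c) * v 0 = 0 := by linear_combination (d - m) * e0 - b * e1
  have h1 : ((a - m) * (d - m) - b * c) * v 1 = 0 := by linear_combination (a - m) * e1 - c * e0
  have hz : (a - m) * (d - m) - b * c = 0 := by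
    by_contra hz
    exact hv (funext fun i => by
      fin_cases i
      · exact (mul_eq_zero.1 h0).resolve_left hz
      · exact (mul_eq_zero.1 h1).resolve_left hz)
  simp only [tr]
  linear_combination 4 * hd - 4 * hz

lemma elliptic_iff (h2 : (2 : F) ≠ 0) {g : SpecialLinearGroup (Fin 2) F} [Fintype F] [DecidableEq F] :
    Elliptic (g : Matrix (Fin 2) (Fin 2) F) ↔ ¬ IsSquare (tr g ^ 2 - 4) :=
  ⟨disc_elliptic h2, elliptic_of_disc⟩

lemma elliptic_conj (h2 : (2 : F) ≠ 0) [Fintype F] [DecidableEq F] {g : SpecialLinearGroup (Fin 2) F} (h : SpecialLinearGroup (Fin 2) F) :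
    Elliptic ((h * g * h⁻¹ : SpecialLinearGroup (Fin 2) F) : Matrix (Fin 2) (Fin 2) F) ↔ Elliptic (g : Matrix (Fin 2) (Fin 2) F) := by
  rw [elliptic_iff h2, elliptic_iff h2, tr_conj]

variable [Fintype F] [DecidableEq F]

lemma tr_ne_elliptic (h2 : (2 : F) ≠ 0) {g : SpecialLinearGroup (Fin 2) F} (hg : Elliptic (g : Matrix (Fin 2) (Fin 2) F)) :
    tr g ^ 2 ≠ 4 := fun h => (elliptic_iff h2).1 hg (by rw [h, sub_self]; exact IsSquare.zero)

lemma tr_central {z : SpecialLinearGroup (Fin 2) F} (hz : z = 1 ∨ z = -1) : tr z ^ 2 = 4 := by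
  rcases hz with rfl | rfl <;> simp [tr] <;> norm_num

lemma tr_sq_four {g : SpecialLinearGroup (Fin 2) F} (h : tr g ^ 2 = 4) :
    tr g = tr (1 : SpecialLinearGroup (Fin 2) F) ∨ tr g = tr (-1 : SpecialLinearGroup (Fin 2) F) := by
  have : (tr g - 2) * (tr g + 2) = 0 := by linear_combination h
  rcases mul_eq_zero.1 this with h | h
  · exact Or.inl (by simp [tr] at h ⊢; linear_combination h)
  · exact Or.inr (by simp [tr] at h ⊢; linear_combination h)

lemma card_tr {e : F} (he : e * e = 1) :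
    (Finset.univ.filter fun g : SpecialLinearGroup (Fin 2) F => tr g = 2 * e).card = Fintype.card F ^ 2 := by
  classical
  let f : (Fˣ × F) ⊕ F → {g : SpecialLinearGroup (Fin 2) F // tr g = 2 * e} := fun p =>
    match p with
    | Sum.inl (b, x) => ⟨⟨!![e + x, (b : F); -(x * x) * ((b⁻¹ : Fˣ) : F), e - x], by
        simp [det_fin_two]; field_simp; linear_combination he⟩, by simp [tr]; ring⟩
    | Sum.inr c => ⟨⟨!![e, 0; c, e], by simp [det_fin_two, he]⟩, by simp [tr]; ring⟩
  have hf : Function.Bijective f := by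
    refine ⟨?_, ?_⟩
    · rintro (⟨b, x⟩ | c) (⟨b', x'⟩ | c') h
      all_goals
        have h00 := congrArg (fun g : {g : SpecialLinearGroup (Fin 2) F // tr g = 2 * e} => (g.1 : Matrix (Fin 2) (Fin 2) F) 0 0) h
        have h01 := congrArg (fun g : {g : SpecialLinearGroup (Fin 2) F // tr g = 2 * e} => (g.1 : Matrix (Fin 2) (Fin 2) F) 0 1) h
        have h10 := congrArg (fun g : {g : SpecialLinearGroup (Fin 2) F // tr g = 2 * e} => (g.1 : Matrix (Fin 2) (Fin 2) F) 1 0) h
        simp [f] at h00 h01 h10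
      all_goals first
        | exact congrArg Sum.inl (Prod.ext (Units.ext h01) h00)
        | exact congrArg Sum.inr h10
        | exact absurd h01 (Units.ne_zero _)
        | exact absurd h01.symm (Units.ne_zero _)
    · rintro ⟨g, hg⟩
      have hd := g.2
      rw [det_fin_two] at hd
      simp only [tr] at hg
      by_cases hb : (g : Matrix (Fin 2) (Fin 2) F) 0 1 = 0
      · have hae : (g : Matrix (Fin 2) (Fin 2) F) 0 0 = e := by
          rw [hb, zero_mul, sub_zero] at hd
          have : ((g : Matrix (Fin 2) (Fin 2) F) 0 0 - e) * ((g : Matrix (Fin 2) (Fin 2) F) 0 0 - e) = 0 := by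
            linear_combination (g : Matrix (Fin 2) (Fin 2) F) 0 0 * hg - hd + he
          exact sub_eq_zero.1 (mul_self_eq_zero.1 this)
        have hde : (g : Matrix (Fin 2) (Fin 2) F) 1 1 = e := by linear_combination hg - hae
        refine ⟨Sum.inr ((g : Matrix (Fin 2) (Fin 2) F) 1 0), Subtype.ext (Subtype.ext ?_)⟩
        show !![e, 0; (g : Matrix (Fin 2) (Fin 2) F) 1 0, e] = (g : Matrix (Fin 2) (Fin 2) F)
        ext i j
        fin_cases i <;> fin_cases j <;> simp [hb, hae, hde]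
      · refine ⟨Sum.inl (Units.mk0 _ hb, (g : Matrix (Fin 2) (Fin 2) F) 0 0 - e), Subtype.ext (Subtype.ext ?_)⟩
        show !![_, _; _, _] = (g : Matrix (Fin 2) (Fin 2) F)
        ext i j
        fin_cases i <;> fin_cases j <;> simp
        · field_simp
          linear_combination -((g : Matrix (Fin 2) (Fin 2) F) 0 0) * hg + hd - he
        · linear_combination -hg
  rw [← Fintype.card_subtype, ← Fintype.card_congr (Equiv.ofBijective f hf), Fintype.card_sum, Fintype.card_prod,
    Fintype.card_units]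
  have h1 := Fintype.card_pos (α := F)
  obtain ⟨k, hk⟩ : ∃ k, Fintype.card F = k + 1 := ⟨Fintype.card F - 1, by omega⟩
  rw [hk, Nat.add_sub_cancel]; ring

variable {ε : F}

noncomputable instance nsTorusFintype (ε : F) : Fintype (nsTorus ε) := Fintype.ofFinite _

lemma nsTorus_facts (h2 : (2 : F) ≠ 0) (hε : ¬ IsSquare ε) {c : SpecialLinearGroup (Fin 2) F} (hc : c ∈ nsTorus ε)
    (h1 : c ≠ 1) (hn : c ≠ -1) : Elliptic (c : Matrix (Fin 2) (Fin 2) F) :=
  elliptic_of_mem hε hc (ns_ne h2 hc h1 hn)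

/-- Induction from the non-split torus at a regular element. -/
lemma indFun_nsTorus (h2 : (2 : F) ≠ 0) (hε : ¬ IsSquare ε) (φ : nsTorus ε → ℂ) {c : SpecialLinearGroup (Fin 2) F}
    (hc : c ∈ nsTorus ε) (h1 : c ≠ 1) (hn : c ≠ -1) :
    indFun (nsTorus ε) φ c = φ ⟨c, hc⟩ + φ ⟨c⁻¹, inv_mem hc⟩ := by
  classical
  have D := ns_data h2 hε
  set W : Set (SpecialLinearGroup (Fin 2) F) := {g | (g : Matrix (Fin 2) (Fin 2) F) 0 0 = -(g : Matrix (Fin 2) (Fin 2) F) 1 1 ∧
      (g : Matrix (Fin 2) (Fin 2) F) 0 1 = -(ε * (g : Matrix (Fin 2) (Fin 2) F) 1 0)}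
  have hinvW : ∀ x ∈ W, x⁻¹ ∈ W := fun x hx => by
    rw [show x⁻¹ = x * -1 by rw [inv_eq_iff_mul_eq_one, ← mul_assoc, D.sqW x hx]; simp]
    exact D.mulT x hx _ D.neg_mem
  have hval : ∀ x, extendByZero (nsTorus ε) φ (x⁻¹ * c * x) =
      (if x ∈ (nsTorus ε) then φ ⟨c, hc⟩ else 0) + (if x ∈ W then φ ⟨c⁻¹, inv_mem hc⟩ else 0) := by
    intro x
    by_cases hxT : x ∈ (nsTorus ε)
    · have hcx : x⁻¹ * c * x = c := by rw [mul_assoc, D.comm c hc x hxT, inv_mul_cancel_left]
      rw [if_pos hxT, if_neg (fun hW => D.disj x hW hxT), add_zero, hcx, extendByZero_mem φ hc]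
    by_cases hxW : x ∈ W
    · have hcx : x⁻¹ * c * x = c⁻¹ := by simpa using D.inv_conj (hinvW x hxW) hc
      rw [if_neg hxT, if_pos hxW, zero_add, hcx, extendByZero_mem φ (inv_mem hc)]
    · rw [if_neg hxT, if_neg hxW, add_zero, extendByZero_not_mem]
      intro hmem
      rcases D.norm x⁻¹ c hc h1 hn (by rwa [inv_inv]) with h | h
      · exact hxT (inv_mem_iff.1 h)
      · exact hxW (by simpa using hinvW _ h)
  obtain ⟨w, hw⟩ := D.neW
  have hcardW : (Finset.univ.filter fun x => x ∈ W).card = (Finset.univ.filter fun x => x ∈ (nsTorus ε)).card := by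
    refine (Finset.card_bij' (fun x _ => w * x) (fun x _ => w⁻¹ * x) ?_ ?_ ?_ ?_).symm
    · intro x hx
      simp only [Finset.mem_filter, Finset.mem_univ, true_and] at hx ⊢
      exact D.mulT w hw x hx
    · intro x hx
      simp only [Finset.mem_filter, Finset.mem_univ, true_and] at hx ⊢
      have : w⁻¹ * x ∈ Subgroup.normalizer ((nsTorus ε) : Set (SpecialLinearGroup (Fin 2) F)) :=
        mul_mem (inv_mem ((D.mem_normalizer hc h1 hn w).2 (Or.inr hw))) ((D.mem_normalizer hc h1 hn x).2 (Or.inr hx))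
      refine ((D.mem_normalizer hc h1 hn _).1 this).resolve_right fun hW => ?_
      have i1 := D.inv_conj hW hc
      rw [show w⁻¹ * x * c * (w⁻¹ * x)⁻¹ = w⁻¹ * (x * c * x⁻¹) * (w⁻¹)⁻¹ by group, D.inv_conj hx hc,
        D.inv_conj (hinvW w hw) (inv_mem hc), inv_inv] at i1
      rcases eq_one_or_neg_one_of_inv_eq h2 (show c * c = 1 by nth_rewrite 1 [i1]; exact inv_mul_cancel c) with h | h
      · exact h1 h
      · exact hn h
    · intro x _; simp
    · intro x _; simp
  have hT : ((Finset.univ.filter fun x => x ∈ (nsTorus ε)).card : ℂ) = Nat.card (nsTorus ε) := by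
    rw [Nat.card_eq_fintype_card, ← Fintype.card_subtype]
  have hWs : ∀ a : ℂ, ∑ x, (if x ∈ W then a else 0) = (Nat.card (nsTorus ε) : ℂ) * a := fun a => by
    rw [← hT, ← hcardW, Finset.sum_ite, Finset.sum_const_zero, add_zero, Finset.sum_const, nsmul_eq_mul]
  simp only [indFun, hval, Finset.sum_add_distrib]
  rw [hWs, ← Finset.sum_filter, Finset.sum_const, nsmul_eq_mul, hT]
  field_simp [(Nat.cast_ne_zero (R := ℂ)).mpr (Nat.card_pos (α := (nsTorus ε))).ne']

/-- The sum of a class function supported on elliptic and unipotent-type elements. -/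
theorem sum_formula (h2 : (2 : F) ≠ 0) (hε : ¬ IsSquare ε) {f : SpecialLinearGroup (Fin 2) F → ℂ} (hf : IsClassFunction _ f)
    (hzero : ∀ g : SpecialLinearGroup (Fin 2) F, ¬ Elliptic (g : Matrix (Fin 2) (Fin 2) F) → tr g ^ 2 ≠ 4 → f g = 0) {v w : ℂ}
    (hv : ∀ g, g ≠ 1 → tr g = tr (1 : SpecialLinearGroup (Fin 2) F) → f g = v)
    (hw : ∀ g, g ≠ -1 → tr g = tr (-1 : SpecialLinearGroup (Fin 2) F) → f g = w) :
    ∑ g, f g = f 1 + f (-1) + ((Fintype.card F : ℂ) ^ 2 - 1) * (v + w) +
      (Fintype.card F : ℂ) * ((Fintype.card F : ℂ) - 1) / 2 *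
        ∑ c : nsTorus ε, (if (c : SpecialLinearGroup (Fin 2) F) = 1 ∨ (c : SpecialLinearGroup (Fin 2) F) = -1 then 0 else f c) := by
  classical
  set T := nsTorus ε
  set φ : T → ℂ := fun c => if (c : SpecialLinearGroup (Fin 2) F) = 1 ∨ (c : SpecialLinearGroup (Fin 2) F) = -1 then 0 else f c
  have D := ns_data h2 hε
  have hI : ∀ g, indFun T φ g = if Elliptic (g : Matrix (Fin 2) (Fin 2) F) then 2 * f g else 0 := by
    intro g
    by_cases hg : Elliptic (g : Matrix (Fin 2) (Fin 2) F)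
    · rw [if_pos hg]
      obtain ⟨h, hh, hc0⟩ := exists_conj_nsTorus h2 hε hg
      have h1 : h * g * h⁻¹ ≠ 1 := fun e => by rw [e] at hc0; simp at hc0
      have hn : h * g * h⁻¹ ≠ -1 := fun e => by rw [e] at hc0; simp at hc0
      rw [← isClassFunction_indFun T φ g h, indFun_nsTorus h2 hε φ hh h1 hn, ← hf g h]
      obtain ⟨w, hw'⟩ := D.neW
      have hinv : f (h * g * h⁻¹)⁻¹ = f (h * g * h⁻¹) := by rw [← D.inv_conj hw' hh, hf]
      simp only [φ]
      rw [if_neg (not_or.2 ⟨h1, hn⟩), if_neg (not_or.2 ⟨inv_ne_one.2 h1, fun e => hn (by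
        rw [← inv_inv (h * g * h⁻¹), e]; exact inv_eq_of_mul_eq_one_left (by simp))⟩), hinv]
      ring
    · rw [if_neg hg]
      simp only [indFun]
      rw [Finset.sum_eq_zero, mul_zero]
      intro x _
      by_cases hx : x⁻¹ * g * x ∈ T
      · rw [extendByZero_mem φ hx]
        refine if_pos ?_
        by_contra hc
        simp only [not_or] at hc
        have := nsTorus_facts h2 hε hx hc.1 hc.2
        rw [show x⁻¹ * g * x = x⁻¹ * g * (x⁻¹)⁻¹ by rw [inv_inv], elliptic_conj h2] at this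
        exact hg this
      · exact extendByZero_not_mem φ hx
  have hsumI : ∑ g, indFun T φ g = (Fintype.card F : ℂ) * ((Fintype.card F : ℂ) - 1) * ∑ c, φ c := by
    have h := classInner_indFun T φ (isClassFunction_of_isCharacter (isCharacter_one (G := SpecialLinearGroup (Fin 2) F)))
    simp only [classInner, map_one, mul_one] at h
    have hS : (Nat.card (SpecialLinearGroup (Fin 2) F) : ℂ) =
        (Fintype.card F : ℂ) * ((Fintype.card F : ℂ) - 1) * (Nat.card T : ℂ) := by
      rw [card_SL, card_nsTorus h2 hε]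
      push_cast [Nat.cast_sub Fintype.card_pos]
      ring
    have hT : (Nat.card T : ℂ) ≠ 0 := Nat.cast_ne_zero.2 Nat.card_pos.ne'
    have hS0 : (Nat.card (SpecialLinearGroup (Fin 2) F) : ℂ) ≠ 0 := Nat.cast_ne_zero.2 Nat.card_pos.ne'
    calc ∑ g, indFun T φ g = (Nat.card (SpecialLinearGroup (Fin 2) F) : ℂ) * ((Nat.card (SpecialLinearGroup (Fin 2) F) : ℂ)⁻¹ * ∑ g, indFun T φ g) := by
          rw [mul_inv_cancel_left₀ hS0]
      _ = _ := by rw [h, hS, mul_assoc, mul_inv_cancel_left₀ hT]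
  have hell : ∑ g : SpecialLinearGroup (Fin 2) F, (if Elliptic (g : Matrix (Fin 2) (Fin 2) F) then f g else 0) = ∑ g, indFun T φ g / 2 :=
    Finset.sum_congr rfl fun g _ => by
      rw [hI]; split
      · ring
      · simp
  have htr : ∀ z : SpecialLinearGroup (Fin 2) F, (z = 1 ∨ z = -1) → ∀ u : ℂ, (∀ g, g ≠ z → tr g = tr z → f g = u) →
      ∑ g, (if tr g = tr z then f g else 0) = f z + ((Fintype.card F : ℂ) ^ 2 - 1) * u := by
    intro z hz u hu
    obtain ⟨e, he, hze⟩ : ∃ e : F, e * e = 1 ∧ tr z = 2 * e := by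
      rcases hz with rfl | rfl
      · exact ⟨1, one_mul 1, by simp [tr]; norm_num⟩
      · exact ⟨-1, by simp, by simp [tr]; ring⟩
    rw [← Finset.sum_filter, ← Finset.add_sum_erase _ _ (show z ∈ Finset.univ.filter (fun g => tr g = tr z) by simp),
      Finset.sum_congr rfl (fun g hg => hu g (Finset.ne_of_mem_erase hg)
        (Finset.mem_filter.1 (Finset.mem_of_mem_erase hg)).2),
      Finset.sum_const, Finset.card_erase_of_mem (by simp), hze, card_tr he, nsmul_eq_mul,
      Nat.cast_sub (Nat.one_le_pow _ _ Fintype.card_pos), Nat.cast_pow, Nat.cast_one]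
  have h1n : tr (1 : SpecialLinearGroup (Fin 2) F) ≠ tr (-1 : SpecialLinearGroup (Fin 2) F) := fun e => by
    simp [tr] at e
    exact mul_ne_zero h2 h2 (by linear_combination e)
  have hdec : ∀ g, f g = (if Elliptic (g : Matrix (Fin 2) (Fin 2) F) then f g else 0) +
      ((if tr g = tr (1 : SpecialLinearGroup (Fin 2) F) then f g else 0) + (if tr g = tr (-1 : SpecialLinearGroup (Fin 2) F) then f g else 0)) := by
    intro g
    by_cases hg : Elliptic (g : Matrix (Fin 2) (Fin 2) F)
    · have := tr_ne_elliptic h2 hg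
      rw [if_pos hg, if_neg (fun e => this (by rw [e]; exact tr_central (Or.inl rfl))),
        if_neg (fun e => this (by rw [e]; exact tr_central (Or.inr rfl)))]
      ring
    · rw [if_neg hg]
      by_cases h4 : tr g ^ 2 = 4
      · rcases tr_sq_four h4 with e | e
        · rw [if_pos e, if_neg (fun e' => h1n (e.symm.trans e'))]; ring
        · rw [if_neg (fun e' => h1n (e'.symm.trans e)), if_pos e]; ring
      · rw [hzero g hg h4]; simp
  rw [Finset.sum_congr rfl fun g _ => hdec g, Finset.sum_add_distrib, Finset.sum_add_distrib,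
    htr 1 (Or.inl rfl) v hv, htr (-1) (Or.inr rfl) w hw, hell, ← Finset.sum_div, hsumI]
  ring

/-- Class functions shaped like cuspidal characters. -/
structure CuspLike (f : SpecialLinearGroup (Fin 2) F → ℂ) : Prop where
  cls : IsClassFunction (SpecialLinearGroup (Fin 2) F) f
  zero : ∀ g : SpecialLinearGroup (Fin 2) F, ¬ Elliptic (g : Matrix (Fin 2) (Fin 2) F) → tr g ^ 2 ≠ 4 → f g = 0
  unip : ∀ z, (z = 1 ∨ z = -1) → ∀ g, g ≠ z → tr g = tr z → f g = -f z / ((Fintype.card F : ℂ) - 1)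

/-- The function on the torus attached to a cuspidal-like function. -/
noncomputable def hat (f : SpecialLinearGroup (Fin 2) F → ℂ) (c : nsTorus ε) : ℂ :=
  if (c : SpecialLinearGroup (Fin 2) F) = 1 ∨ (c : SpecialLinearGroup (Fin 2) F) = -1
    then -2 * f c / ((Fintype.card F : ℂ) - 1) else f c

lemma qsub_ne : (Fintype.card F : ℂ) - 1 ≠ 0 := by
  rw [sub_ne_zero]; exact_mod_cast (Fintype.one_lt_card (α := F)).ne'

lemma sum_split (h2 : (2 : F) ≠ 0) (hε : ¬ IsSquare ε) (H : nsTorus ε → ℂ) :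
    ∑ c : nsTorus ε, H c = H ⟨1, one_mem _⟩ + H ⟨-1, (ns_data h2 hε).neg_mem⟩ +
      ∑ c : nsTorus ε, (if (c : SpecialLinearGroup (Fin 2) F) = 1 ∨ (c : SpecialLinearGroup (Fin 2) F) = -1 then 0 else H c) := by
  classical
  rw [← Finset.sum_filter_add_sum_filter_not Finset.univ
    (fun c : nsTorus ε => (c : SpecialLinearGroup (Fin 2) F) = 1 ∨ (c : SpecialLinearGroup (Fin 2) F) = -1)]
  congr 1
  · rw [show (Finset.univ.filter fun c : nsTorus ε => (c : SpecialLinearGroup (Fin 2) F) = 1 ∨ (c : SpecialLinearGroup (Fin 2) F) = -1) =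
      {⟨1, one_mem _⟩, ⟨-1, (ns_data h2 hε).neg_mem⟩} by ext c; simp only [Finset.mem_filter, Finset.mem_univ, true_and, Finset.mem_insert, Finset.mem_singleton, Subtype.ext_iff],
      Finset.sum_pair (fun e => neg_one_ne' h2 (congrArg Subtype.val e).symm)]
  · rw [Finset.sum_filter]
    exact Finset.sum_congr rfl fun c _ => by split_ifs <;> simp_all

/-- The isometry to class functions on the torus. -/
theorem CuspLike.inner_eq (h2 : (2 : F) ≠ 0) (hε : ¬ IsSquare ε) {f g : SpecialLinearGroup (Fin 2) F → ℂ}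
    (hf : CuspLike f) (hg : CuspLike g) :
    classInner f g = (1 / 2 : ℂ) * classInner (hat (ε := ε) f) (hat (ε := ε) g) := by
  classical
  have hq := qsub_ne (F := F)
  have hP := sum_formula h2 hε (f := fun x => f x * conj (g x))
    (fun a b => by simp only [hf.cls a b, hg.cls a b]) (fun x he ht => by rw [hf.zero x he ht, zero_mul])
    (v := -f 1 / ((Fintype.card F : ℂ) - 1) * conj (-g 1 / ((Fintype.card F : ℂ) - 1)))
    (w := -f (-1) / ((Fintype.card F : ℂ) - 1) * conj (-g (-1) / ((Fintype.card F : ℂ) - 1)))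
    (fun x h1 ht => by rw [hf.unip 1 (Or.inl rfl) x h1 ht, hg.unip 1 (Or.inl rfl) x h1 ht])
    (fun x h1 ht => by rw [hf.unip (-1) (Or.inr rfl) x h1 ht, hg.unip (-1) (Or.inr rfl) x h1 ht])
  have hT := sum_split h2 hε fun c => hat f c * conj (hat g c)
  have hrest : ∀ c : nsTorus ε, (if (c : SpecialLinearGroup (Fin 2) F) = 1 ∨ (c : SpecialLinearGroup (Fin 2) F) = -1 then (0 : ℂ) else hat f c * conj (hat g c)) =
      if (c : SpecialLinearGroup (Fin 2) F) = 1 ∨ (c : SpecialLinearGroup (Fin 2) F) = -1 then 0 else f c * conj (g c) := by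
    intro c; unfold hat; split_ifs <;> rfl
  rw [Finset.sum_congr rfl fun c _ => hrest c] at hT
  simp only [hat, true_or, or_true, if_true, map_div₀, map_mul, map_neg, map_sub, map_natCast, map_one, map_ofNat] at hT hP
  simp only [classInner]
  rw [hP]
  have hd : ∀ (R : ℂ), (∑ c : nsTorus ε, hat f c * conj (hat g c)) = R → ∑ c : nsTorus ε, hat f c * conj (hat g c) = R := fun _ h => h
  rw [show (∑ c : nsTorus ε, hat f c * conj (hat g c)) = _ from hT, card_SL, card_nsTorus h2 hε]
  push_cast [Nat.cast_sub Fintype.card_pos]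
  have hq0 : (Fintype.card F : ℂ) ≠ 0 := Nat.cast_ne_zero.2 Fintype.card_ne_zero
  have hq1 : (Fintype.card F : ℂ) + 1 ≠ 0 := by exact_mod_cast Nat.succ_ne_zero (Fintype.card F)
  field_simp
  ring

/-- The elements with an eigenvector are triangular up to conjugacy. -/
lemma exists_upper {g : SpecialLinearGroup (Fin 2) F} (hg : ¬ Elliptic (g : Matrix (Fin 2) (Fin 2) F)) :
    ∃ x : SpecialLinearGroup (Fin 2) F, ((x * g * x⁻¹ : SpecialLinearGroup (Fin 2) F) : Matrix (Fin 2) (Fin 2) F) 1 0 = 0 := by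
  simp only [Elliptic, not_forall, not_not] at hg
  obtain ⟨m, v, hv, hm⟩ := hg
  by_cases h10 : (g : Matrix (Fin 2) (Fin 2) F) 1 0 = 0
  · exact ⟨1, by simpa using h10⟩
  have e0 := congrFun hm 0
  have e1 := congrFun hm 1
  simp [Matrix.mulVec, dotProduct, Fin.sum_univ_two] at e0 e1
  have hv1 : v 1 ≠ 0 := fun h => by
    rw [h, mul_zero, mul_zero, add_zero] at e1
    exact hv (funext fun i => by fin_cases i <;> simp [h, (mul_eq_zero.1 e1).resolve_left h10])
  refine ⟨(rSL (some (v 0 / v 1)))⁻¹, ?_⟩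
  rw [inv_inv, (conj_rSL g _).1]
  field_simp
  linear_combination v 0 * e1 - v 1 * e0

/-- The discrete series function. -/
noncomputable def disc (α : MulChar F ℂ) (θ : nsTorus ε →* ℂˣ) (g : SpecialLinearGroup (Fin 2) F) : ℂ :=
  indFun _ (thSL (1 : MulChar F ℂ)) g * indFun _ (thSL α) g - 2 * indFun _ (thSL α) g -
    indFun (nsTorus ε) (fun c => (θ c : ℂ)) g

lemma indFun_thSL_central (α : MulChar F ℂ) {z : SpecialLinearGroup (Fin 2) F} (hz : z = 1 ∨ z = -1) :
    indFun _ (thSL α) z = ((Fintype.card F : ℂ) + 1) * α ((z : Matrix (Fin 2) (Fin 2) F) 0 0) := by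
  unfold thSL
  rw [indFun_eq]
  rcases hz with rfl | rfl <;> simp <;> ring

lemma indFun_thSL_upper (α : MulChar F ℂ) {g : SpecialLinearGroup (Fin 2) F} (h10 : (g : Matrix (Fin 2) (Fin 2) F) 1 0 = 0) :
    ((g : Matrix (Fin 2) (Fin 2) F) 0 0 ≠ (g : Matrix (Fin 2) (Fin 2) F) 1 1 →
      indFun _ (thSL α) g = α ((g : Matrix (Fin 2) (Fin 2) F) 0 0) + α ((g : Matrix (Fin 2) (Fin 2) F) 1 1)) ∧
    ((g : Matrix (Fin 2) (Fin 2) F) 0 0 = (g : Matrix (Fin 2) (Fin 2) F) 1 1 → (g : Matrix (Fin 2) (Fin 2) F) 0 1 ≠ 0 →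
      indFun _ (thSL α) g = α ((g : Matrix (Fin 2) (Fin 2) F) 0 0)) := by
  unfold thSL
  refine ⟨fun hne => ?_, fun he hb => ?_⟩
  · rw [indFun_eq, if_pos h10, Finset.sum_eq_single ((g : Matrix (Fin 2) (Fin 2) F) 0 1 / ((g : Matrix (Fin 2) (Fin 2) F) 1 1 - (g : Matrix (Fin 2) (Fin 2) F) 0 0))]
    · have h := sub_ne_zero.2 hne.symm
      rw [if_pos (by rw [h10, zero_mul, zero_add, mul_div_cancel₀ _ h, sub_self]), h10, zero_mul, zero_add]
    · intro t _ ht
      refine if_neg fun e => ht ?_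
      rw [eq_div_iff (sub_ne_zero.2 hne.symm)]
      rw [h10, zero_mul, zero_add] at e
      linear_combination e
    · simp
  · rw [indFun_eq, if_pos h10, Finset.sum_eq_zero (fun t _ => if_neg fun e => hb (by
      rw [h10, ← he, sub_self] at e; linear_combination -e)), add_zero]

variable (h2 : (2 : F) ≠ 0) (hε : ¬ IsSquare ε) (α : MulChar F ℂ) (θ : nsTorus ε →* ℂˣ)
  (hαθ : α (-1) = (θ ⟨-1, (ns_data h2 hε).neg_mem⟩ : ℂ))

include hε h2

lemma indC_central {z : SpecialLinearGroup (Fin 2) F} (hz : z = 1 ∨ z = -1) (hzT : z ∈ nsTorus ε) :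
    indFun (nsTorus ε) (fun c => (θ c : ℂ)) z = (Fintype.card F : ℂ) * ((Fintype.card F : ℂ) - 1) * (θ ⟨z, hzT⟩ : ℂ) := by
  classical
  have hc : ∀ x : SpecialLinearGroup (Fin 2) F, x⁻¹ * z * x = z := fun x => by
    rcases hz with rfl | rfl <;> simp
  simp only [indFun, hc, extendByZero_mem (fun c : nsTorus ε => (θ c : ℂ)) hzT, Finset.sum_const, Finset.card_univ, nsmul_eq_mul,
    ← Nat.card_eq_fintype_card (α := SpecialLinearGroup (Fin 2) F), card_SL, card_nsTorus h2 hε]
  push_cast [Nat.cast_sub Fintype.card_pos]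
  have hq1 : (Fintype.card F : ℂ) + 1 ≠ 0 := by exact_mod_cast Nat.succ_ne_zero (Fintype.card F)
  field_simp

include hαθ

lemma disc_central {z : SpecialLinearGroup (Fin 2) F} (hz : z = 1 ∨ z = -1) (hzT : z ∈ nsTorus ε) :
    disc α θ z = ((Fintype.card F : ℂ) - 1) * (θ ⟨z, hzT⟩ : ℂ) := by
  have ha : α ((z : Matrix (Fin 2) (Fin 2) F) 0 0) = (θ ⟨z, hzT⟩ : ℂ) := by
    rcases hz with rfl | rfl
    · rw [show (⟨1, hzT⟩ : nsTorus ε) = 1 from rfl]; simp
    · simpa using hαθ
  have h1 : (1 : MulChar F ℂ) ((z : Matrix (Fin 2) (Fin 2) F) 0 0) = 1 := by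
    rcases hz with rfl | rfl <;> exact MulChar.one_apply (isUnit_iff_ne_zero.2 (by simp))
  simp only [disc, indFun_thSL_central _ hz, ha, h1, indC_central h2 hε θ hz hzT]
  ring

theorem disc_cuspLike : CuspLike (disc α θ) := by
  classical
  have hcls : IsClassFunction (SpecialLinearGroup (Fin 2) F) (disc α θ) := fun a b => by
    simp only [disc, isClassFunction_indFun _ _ a b]
  have hC : ∀ g : SpecialLinearGroup (Fin 2) F, ¬ Elliptic (g : Matrix (Fin 2) (Fin 2) F) → g ≠ 1 → g ≠ -1 →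
      indFun (nsTorus ε) (fun c => (θ c : ℂ)) g = 0 := by
    intro g hg h1 hn
    refine indFun_eq_zero_of_forall _ _ fun x hx => hg ?_
    have := nsTorus_facts h2 hε hx (fun e => h1 (by
      have := congrArg (fun y => x * y * x⁻¹) e; simpa [mul_assoc] using this))
      (fun e => hn (by have := congrArg (fun y => x * y * x⁻¹) e; simpa [mul_assoc] using this))
    rwa [show x⁻¹ * g * x = x⁻¹ * g * (x⁻¹)⁻¹ by rw [inv_inv], elliptic_conj h2] at this
  refine ⟨hcls, fun g hg h4 => ?_, fun z hz g hgz htr => ?_⟩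
  · obtain ⟨x, hx⟩ := exists_upper hg
    rw [← hcls g x]
    set g' := x * g * x⁻¹
    have h4' : tr g' ^ 2 ≠ 4 := by simpa [g', tr_conj] using h4
    have hne : (g' : Matrix (Fin 2) (Fin 2) F) 0 0 ≠ (g' : Matrix (Fin 2) (Fin 2) F) 1 1 := fun e => h4' (by
      have hd := g'.2
      rw [det_fin_two, hx, mul_zero, sub_zero, ← e] at hd
      simp only [tr, ← e]; linear_combination 4 * hd)
    have hd := g'.2
    rw [det_fin_two, hx, mul_zero, sub_zero] at hd
    simp only [disc, (indFun_thSL_upper _ hx).1 hne, hC g' (by rwa [elliptic_conj h2])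
      (fun e => h4' (by rw [e]; exact tr_central (Or.inl rfl))) (fun e => h4' (by rw [e]; exact tr_central (Or.inr rfl))),
      MulChar.one_apply (isUnit_iff_ne_zero.2 (left_ne_zero_of_mul_eq_one hd)),
      MulChar.one_apply (isUnit_iff_ne_zero.2 (right_ne_zero_of_mul_eq_one hd))]
    ring
  · have hnell : ¬ Elliptic (g : Matrix (Fin 2) (Fin 2) F) := fun he => tr_ne_elliptic h2 he (by rw [htr]; exact tr_central hz)
    obtain ⟨x, hx⟩ := exists_upper hnell
    rw [← hcls g x]
    set g' := x * g * x⁻¹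
    have hgz' : g' ≠ z := fun e => hgz (by
      have h' := congrArg (fun y => x⁻¹ * y * x) e
      rcases hz with rfl | rfl <;> simpa [g', mul_assoc] using h')
    have htr' : tr g' = tr z := by simpa [g', tr_conj] using htr
    have hzT : z ∈ nsTorus ε := by
      rcases hz with rfl | rfl
      exacts [one_mem _, (ns_data h2 hε).neg_mem]
    obtain ⟨e, he, hze, hzm⟩ : ∃ e : F, e * e = 1 ∧ tr z = 2 * e ∧ (z : Matrix (Fin 2) (Fin 2) F) = !![e, 0; 0, e] := by
      rcases hz with rfl | rfl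
      · exact ⟨1, one_mul 1, by simp [tr]; norm_num, by ext i j; fin_cases i <;> fin_cases j <;> simp⟩
      · exact ⟨-1, by simp, by simp [tr]; ring, by ext i j; fin_cases i <;> fin_cases j <;> simp⟩
    have hd := g'.2
    rw [det_fin_two, hx, mul_zero, sub_zero] at hd
    have h00 : (g' : Matrix (Fin 2) (Fin 2) F) 0 0 = e := by
      simp only [tr] at htr' hze
      have : ((g' : Matrix (Fin 2) (Fin 2) F) 0 0 - e) * ((g' : Matrix (Fin 2) (Fin 2) F) 0 0 - e) = 0 := by
        linear_combination (g' : Matrix (Fin 2) (Fin 2) F) 0 0 * (htr'.trans hze) - hd + he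
      exact sub_eq_zero.1 (mul_self_eq_zero.1 this)
    have h11 : (g' : Matrix (Fin 2) (Fin 2) F) 1 1 = e := by
      simp only [tr] at htr' hze; linear_combination (htr'.trans hze) - h00
    have hb : (g' : Matrix (Fin 2) (Fin 2) F) 0 1 ≠ 0 := fun hb => hgz' (Subtype.ext (by
      rw [hzm]; ext i j; fin_cases i <;> fin_cases j <;> simp [hx, hb, h00, h11]))
    have hae : α e = (θ ⟨z, hzT⟩ : ℂ) := by
      have h := disc_central h2 hε α θ hαθ hz hzT
      rcases hz with rfl | rfl
      · have : e = 1 := by simpa using (congrFun (congrFun hzm 0) 0).symm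
        rw [this, show (⟨1, hzT⟩ : nsTorus ε) = 1 from rfl]; simp
      · have : e = -1 := by simpa using (congrFun (congrFun hzm 0) 0).symm
        rw [this]; exact hαθ
    have hg1 : g' ≠ 1 := fun e' => hb (by rw [e']; simp)
    have hgn : g' ≠ -1 := fun e' => hb (by rw [e']; simp)
    simp only [disc_central h2 hε α θ hαθ hz hzT]
    rw [neg_div, mul_div_cancel_left₀ _ (qsub_ne (F := F))]
    simp only [disc, (indFun_thSL_upper _ hx).2 (h00.trans h11.symm) hb, hC g' (by rwa [elliptic_conj h2]) hg1 hgn, h00, hae,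
      MulChar.one_apply (isUnit_iff_ne_zero.2 (left_ne_zero_of_mul_eq_one he))]
    ring

lemma disc_torus {c : SpecialLinearGroup (Fin 2) F} (hc : c ∈ nsTorus ε) (h1 : c ≠ 1) (hn : c ≠ -1) :
    disc α θ c = -((θ ⟨c, hc⟩ : ℂ) + ((θ ⟨c, hc⟩)⁻¹ : ℂˣ)) := by
  have he := nsTorus_facts h2 hε hc h1 hn
  have h0 : ∀ β : MulChar F ℂ, indFun _ (thSL β) c = 0 := fun β => by
    unfold thSL
    rw [indFun_eq, if_neg he.lower_ne, Finset.sum_eq_zero fun t _ => if_neg (he.no_root t), add_zero]
  simp only [disc, h0, indFun_nsTorus h2 hε _ hc h1 hn, show (⟨c⁻¹, inv_mem hc⟩ : nsTorus ε) = (⟨c, hc⟩ : nsTorus ε)⁻¹ from rfl, map_inv]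
  ring

lemma hat_disc : hat (ε := ε) (disc α θ) = fun c => -((θ c : ℂ) + ((θ c)⁻¹ : ℂˣ)) := by
  funext c
  unfold hat
  split_ifs with h
  · have hsq : θ c * θ c = 1 := by
      rw [← map_mul, show c * c = 1 from Subtype.ext (by rcases h with h | h <;> simp [h]), map_one]
    rw [disc_central h2 hε α θ hαθ h c.2, inv_eq_of_mul_eq_one_right hsq, mul_left_comm, mul_div_cancel_left₀ _ (qsub_ne (F := F))]
    ring
  · exact disc_torus h2 hε α θ hαθ c.2 (fun e => h (Or.inl e)) fun e => h (Or.inr e)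

/-- The discrete series characters. -/
theorem disc_irr (hθ : ∃ c, θ c ^ 2 ≠ 1) : IsIrrCharacter (SpecialLinearGroup (Fin 2) F) (disc α θ) := by
  classical
  have hgen : IsGeneralizedCharacter (SpecialLinearGroup (Fin 2) F) (disc α θ) := by
    have gI : ∀ β : MulChar F ℂ, IsGeneralizedCharacter _ (indFun _ (thSL β)) := fun β =>
      isGeneralized_of_isCharacter (isCharacter_indFun _ (isCharacter_thSL β))
    rw [show disc α θ = indFun _ (thSL (1 : MulChar F ℂ)) * indFun _ (thSL α) - (indFun _ (thSL α) + indFun _ (thSL α)) -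
        indFun (nsTorus ε) (fun c => (θ c : ℂ)) from funext fun g => by simp [disc]; ring]
    exact isGeneralized_sub (isGeneralized_sub (isGeneralized_mul (gI 1) (gI α)) (isGeneralized_add (gI α) (gI α)))
      (isGeneralized_of_isCharacter (isCharacter_indFun _ (isIrrCharacter_linear θ).isCharacter))
  have D := disc_cuspLike h2 hε α θ hαθ
  have h1 : classInner (disc α θ) (disc α θ) = 1 := by
    rw [D.inner_eq h2 hε D, hat_disc h2 hε α θ hαθ]
    have hne : θ ≠ θ⁻¹ := by
      obtain ⟨c, hc⟩ := hθ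
      intro e
      apply hc
      rw [sq]
      nth_rewrite 2 [e]
      rw [MonoidHom.inv_apply, mul_inv_cancel]
    set a : nsTorus ε → ℂ := fun c => (θ c : ℂ)
    set b : nsTorus ε → ℂ := fun c => ((θ⁻¹ c : ℂˣ) : ℂ)
    have ha : IsIrrCharacter _ a := isIrrCharacter_linear θ
    have hb : IsIrrCharacter _ b := isIrrCharacter_linear θ⁻¹
    have hab : a ≠ b := fun e => hne (MonoidHom.ext fun c => Units.ext (congrFun e c))
    rw [show (fun c : nsTorus ε => -((θ c : ℂ) + ((θ c)⁻¹ : ℂˣ))) = -(a + b) from rfl, classInner_neg_left,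
      classInner_neg_right, neg_neg, classInner_add_left, classInner_add_right, classInner_add_right,
      classInner_irr_self ha, classInner_irr_self hb, classInner_irr_ne ha hb hab, classInner_irr_ne hb ha hab.symm]
    norm_num
  refine (isGeneralized_norm_one hgen h1).resolve_right fun h => ?_
  obtain ⟨d, hd, hd1⟩ := h.exists_degree_pos
  simp only [Pi.neg_apply, disc_central h2 hε α θ hαθ (Or.inl rfl) (one_mem _),
    show (⟨1, one_mem _⟩ : nsTorus ε) = 1 from rfl, map_one, Units.val_one, mul_one] at hd1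
  have : ((Fintype.card F + d : ℕ) : ℂ) = ((1 : ℕ) : ℂ) := by push_cast; linear_combination -hd1
  have := Nat.cast_injective this
  have := Fintype.one_lt_card (α := F)
  omega

omit hαθ
omit hε h2

lemma exists_alpha (h2 : (2 : F) ≠ 0) (hε : ¬ IsSquare ε) (θ : nsTorus ε →* ℂˣ) :
    ∃ α : MulChar F ℂ, α (-1) = (θ ⟨-1, (ns_data h2 hε).neg_mem⟩ : ℂ) := by
  set z : nsTorus ε := ⟨-1, (ns_data h2 hε).neg_mem⟩
  have hsq : (θ z : ℂ) * θ z = 1 := by
    rw [← Units.val_mul, ← map_mul, show z * z = 1 from Subtype.ext (by simp [z]), map_one, Units.val_one]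
  rcases mul_self_eq_one_iff.1 hsq with h | h
  · exact ⟨1, by rw [h]; exact MulChar.one_apply isUnit_one.neg⟩
  · obtain ⟨α, hα⟩ := MulChar.exists_apply_ne_one_of_hasEnoughRootsOfUnity F ℂ
      (a := (-1 : F)) (fun e => h2 (by linear_combination -e))
    refine ⟨α, ?_⟩
    have : α (-1) * α (-1) = 1 := by rw [← map_mul]; simp
    rw [h]
    exact (mul_self_eq_one_iff.1 this).resolve_left hα

end Cfsg.Lib.Classical.TwoDim
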