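import Cfsg.Agent.Lib.Classical.PrincipalSeries
import Cfsg.Agent.Lib.Classical.GL2
import Cfsg.Agent.Lib.Classical.Transvection
import Cfsg.Agent.Lib.Characters.Integrality
import Cfsg.Agent.Lib.Characters.Induction
import Cfsg.Agent.S2330

/-! The irreducible characters of `GL₂` of a finite field, by degree and value on a transvection. -/

set_option autoImplicit false
set_option linter.unusedSectionVars false

namespace Cfsg.Lib.Classical.TwoDim

open Matrix
open scoped ComplexConjugate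
open Cfsg Cfsg.Lib.Characters Cfsg.Lib.Classical Cfsg.Lib.Classical.ProjLine

variable {F : Type*} [Field F]

/-- No eigenvector. -/
def Elliptic (g : Matrix (Fin 2) (Fin 2) F) : Prop :=
  ∀ (c : F) (v : Fin 2 → F), v ≠ 0 → g *ᵥ v ≠ c • v

lemma Elliptic.lower_ne {g : Matrix (Fin 2) (Fin 2) F} (hg : Elliptic g) : g 1 0 ≠ 0 := fun h10 =>
  hg (g 0 0) ![1, 0] (fun h => one_ne_zero (congrFun h 0))
    (by ext i; fin_cases i <;> simp [Matrix.mulVec, dotProduct, Fin.sum_univ_two, h10])

lemma Elliptic.no_root {g : Matrix (Fin 2) (Fin 2) F} (hg : Elliptic g) (t : F) :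
    g 1 0 * t ^ 2 + (g 1 1 - g 0 0) * t - g 0 1 ≠ 0 := by
  intro ht
  refine hg (g 1 0 * t + g 1 1) ![t, 1] (fun h => one_ne_zero (congrFun h 1)) ?_
  ext i
  fin_cases i <;> simp [Matrix.mulVec, dotProduct, Fin.sum_univ_two]
  linear_combination -ht

/-- The unipotent one-parameter subgroup. -/
noncomputable def uHom : Multiplicative F →* GL (Fin 2) F where
  toFun a := GL2.u a.toAdd
  map_one' := Units.ext (by ext i j; fin_cases i <;> fin_cases j <;> simp)
  map_mul' a b := Units.ext (by ext i j; fin_cases i <;> fin_cases j <;> simp [add_comm])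

lemma u_mul (a b : F) : GL2.u a * GL2.u b = GL2.u (a + b) :=
  ((uHom (F := F)).map_mul (Multiplicative.ofAdd a) (Multiplicative.ofAdd b)).symm

lemma u_zero : GL2.u (0 : F) = 1 := (uHom (F := F)).map_one

/-- A diagonal element. -/
noncomputable def dg (a d : Fˣ) : GL (Fin 2) F :=
  GeneralLinearGroup.mkOfDetNeZero !![(a : F), 0; 0, (d : F)] (by simp [det_fin_two])

@[simp] lemma coe_dg (a d : Fˣ) : (dg a d : Matrix (Fin 2) (Fin 2) F) = !![(a : F), 0; 0, (d : F)] := rfl

lemma dg_u (a d : Fˣ) (x : F) : dg a d * GL2.u x = GL2.u ((a : F) * x / d) * dg a d :=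
  Units.ext (by ext i j; fin_cases i <;> fin_cases j <;> simp [Matrix.mul_apply, Fin.sum_univ_two])

lemma isConj_u {a : F} (ha : a ≠ 0) : IsConj (GL2.u (1 : F)) (GL2.u a) :=
  isConj_iff.2 ⟨dg (Units.mk0 a ha) 1, by rw [mul_inv_eq_iff_eq_mul, dg_u]; simp⟩

lemma apply_u {χ : GL (Fin 2) F → ℂ} (hχ : IsClassFunction _ χ) {a : F} (ha : a ≠ 0) :
    χ (GL2.u a) = χ (GL2.u 1) := by
  obtain ⟨c, hc⟩ := isConj_iff.1 (isConj_u ha)
  rw [← hc]; exact hχ _ c

variable [Fintype F]

lemma sum_u [DecidableEq F] {χ : GL (Fin 2) F → ℂ} (hχ : IsClassFunction _ χ) :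
    ∑ a : F, χ (GL2.u a) = χ 1 + ((Fintype.card F : ℂ) - 1) * χ (GL2.u 1) := by
  rw [← Finset.add_sum_erase _ _ (Finset.mem_univ (0 : F)), u_zero,
    Finset.sum_congr rfl (fun a ha => apply_u hχ (Finset.ne_of_mem_erase ha)), Finset.sum_const,
    Finset.card_erase_of_mem (Finset.mem_univ _), Finset.card_univ, nsmul_eq_mul,
    Nat.cast_sub Fintype.card_pos, Nat.cast_one]

lemma exists_mult [DecidableEq F] {χ : GL (Fin 2) F → ℂ} (hχ : IsCharacter _ χ) :
    ∃ m k : ℕ, χ 1 + ((Fintype.card F : ℂ) - 1) * χ (GL2.u 1) = (Fintype.card F : ℂ) * m ∧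
      χ 1 - χ (GL2.u 1) = (Fintype.card F : ℂ) * k := by
  classical
  have hq : (Fintype.card F : ℂ) ≠ 0 := Nat.cast_ne_zero.2 Fintype.card_ne_zero
  have hres : IsCharacter (Multiplicative F) fun a => χ (uHom a) := isCharacter_comp hχ uHom
  have hcard : (Nat.card (Multiplicative F) : ℂ) = Fintype.card F := by
    rw [Nat.card_congr Multiplicative.toAdd, Nat.card_eq_fintype_card]
  have hsum : ∀ f : Multiplicative F → ℂ, ∑ a, f a = ∑ a : F, f (Multiplicative.ofAdd a) :=
    fun f => (Equiv.sum_comp Multiplicative.ofAdd f).symm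
  obtain ⟨φ, hφ⟩ := CommGroup.exists_apply_ne_one_of_hasEnoughRootsOfUnity (Multiplicative F) ℂ
    (a := Multiplicative.ofAdd (1 : F)) (by simp)
  obtain ⟨m, hm⟩ := classInner_nat hres (isCharacter_one (G := Multiplicative F))
  obtain ⟨k, hk⟩ := classInner_nat hres (isIrrCharacter_linear φ).isCharacter
  refine ⟨m, k, ?_, ?_⟩
  · rw [← hm, classInner, hcard, ← mul_assoc, mul_inv_cancel₀ hq, one_mul, hsum, ← sum_u
      (isClassFunction_of_isCharacter hχ)]
    simp [uHom]
  · have h0 : ∑ a : F, conj ((φ (Multiplicative.ofAdd a) : ℂˣ) : ℂ) = 0 := by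
      rw [← map_sum, ← map_zero (starRingEnd ℂ)]
      congr 1
      rw [← hsum fun a => ((φ a : ℂˣ) : ℂ)]
      refine sum_hom_units_eq_zero ((Units.coeHom ℂ).comp φ) fun h => hφ (Units.ext ?_)
      simpa using DFunLike.congr_fun h (Multiplicative.ofAdd (1 : F))
    rw [← hk, classInner, hcard, ← mul_assoc, mul_inv_cancel₀ hq, one_mul, hsum,
      ← Finset.add_sum_erase _ _ (Finset.mem_univ (0 : F))]
    rw [← Finset.add_sum_erase _ _ (Finset.mem_univ (0 : F))] at h0
    simp only [uHom, MonoidHom.coe_mk, OneHom.coe_mk, toAdd_ofAdd, u_zero]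
    rw [Finset.sum_congr rfl (fun a ha => by
      rw [apply_u (isClassFunction_of_isCharacter hχ) (Finset.ne_of_mem_erase ha)]), ← Finset.mul_sum]
    simp only [ofAdd_zero, map_one, Units.val_one, mul_one] at h0 ⊢
    linear_combination (-(χ (GL2.u 1))) * h0

/-- Characters trivial on the root element are linear through the determinant. -/
lemma linear_of_u [DecidableEq F] {χ : GL (Fin 2) F → ℂ} (hχ : IsIrrCharacter _ χ)
    (h : χ (GL2.u 1) = χ 1) : ∃ α : MulChar F ℂ, χ = fun g : GL (Fin 2) F => α (g : Matrix (Fin 2) (Fin 2) F).det := by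
  classical
  have := charKer_normal hχ.isCharacter
  set D : Subgroup (GL (Fin 2) F) := (GeneralLinearGroup.det : GL (Fin 2) F →* Fˣ).ker
  have hu : ∀ a : F, GL2.u a ∈ charKer hχ.isCharacter := by
    intro a
    rcases eq_or_ne a 0 with rfl | ha
    · rw [u_zero]; exact one_mem _
    · rw [mem_charKer, apply_u hχ.isClassFunction ha, h]
  have hD : D ≤ charKer hχ.isCharacter := by
    refine ker_det_le_of_transvection_mem _ fun i j hij c g hg => ?_
    let w : GL (Fin 2) F := GeneralLinearGroup.mkOfDetNeZero !![0, 1; 1, 0] (by simp [det_fin_two])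
    fin_cases i <;> fin_cases j <;> simp only [Fin.zero_eta, Fin.mk_one] at hij hg
    · exact absurd rfl hij
    · have : g = GL2.u c := Units.ext (by
        rw [hg]; ext a b; fin_cases a <;> fin_cases b <;> simp [Matrix.transvection, Matrix.single])
      rw [this]; exact hu c
    · have : g = w * GL2.u c * w⁻¹ := by
        rw [eq_mul_inv_iff_mul_eq]
        refine Units.ext ?_
        rw [Units.val_mul, hg, Units.val_mul]
        ext a b; fin_cases a <;> fin_cases b <;>
          simp [w, Matrix.mul_apply, Fin.sum_univ_two, Matrix.transvection, Matrix.single]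
      rw [this]; exact (charKer_normal hχ.isCharacter).conj_mem _ (hu c) w
    · exact absurd rfl hij
  obtain ⟨ψ, hψ, hψi, hψe⟩ := exists_of_quotient (N := D) hχ.isCharacter fun n hn => (mem_charKer _).1 (hD hn)
  have : IsMulCommutative (GL (Fin 2) F ⧸ D) := ⟨⟨fun a b => by
    induction a using QuotientGroup.induction_on
    induction b using QuotientGroup.induction_on
    rw [← QuotientGroup.mk_mul, ← QuotientGroup.mk_mul, QuotientGroup.eq]
    simp only [D, MonoidHom.mem_ker, map_mul, map_inv]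
    simp [mul_comm, mul_assoc, mul_left_comm]⟩⟩
  have h1 : χ 1 = 1 := by
    rw [← hψe 1, QuotientGroup.mk_one]; exact degree_one_of_isMulCommutative (hψi hχ)
  obtain ⟨lam, hlam⟩ := exists_hom_of_degree_one hχ.isCharacter h1
  let φ : Fˣ →* ℂˣ :=
    { toFun := fun a => lam (dg a 1)
      map_one' := by
        rw [show dg (1 : Fˣ) 1 = 1 from Units.ext (by ext i j; fin_cases i <;> fin_cases j <;> simp), map_one]
      map_mul' := fun a b => by
        rw [← map_mul]; congr 1
        exact Units.ext (by ext i j; fin_cases i <;> fin_cases j <;> simp [Matrix.mul_apply, Fin.sum_univ_two]) }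
  refine ⟨MulChar.ofUnitHom φ, ?_⟩
  funext g
  rw [← GeneralLinearGroup.val_det_apply, MulChar.ofUnitHom_coe, hlam]
  have hk : (dg (GeneralLinearGroup.det g) 1)⁻¹ * g ∈ D := by
    rw [MonoidHom.mem_ker, map_mul, map_inv, inv_mul_eq_one]
    exact Units.ext (by simp [det_fin_two])
  have h2 := (mem_charKer hχ.isCharacter).1 (hD hk)
  rw [h1, hlam] at h2
  simp only [map_mul, map_inv, Units.val_eq_one, inv_mul_eq_one] at h2
  simp [φ, h2]

lemma card_centralizer_u : Nat.card (Subgroup.centralizer ({GL2.u (1 : F)} : Set (GL (Fin 2) F))) =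
    Fintype.card F * (Fintype.card F - 1) := by
  have hmem : ∀ g : GL (Fin 2) F, g ∈ Subgroup.centralizer ({GL2.u (1 : F)} : Set (GL (Fin 2) F)) ↔
      (g : Matrix (Fin 2) (Fin 2) F) 1 0 = 0 ∧ (g : Matrix (Fin 2) (Fin 2) F) 0 0 = (g : Matrix (Fin 2) (Fin 2) F) 1 1 := by
    intro g
    rw [Subgroup.mem_centralizer_singleton_iff]
    constructor
    · intro h
      have h0 := congrArg (fun z : GL (Fin 2) F => (z : Matrix (Fin 2) (Fin 2) F) 0 0) h
      have h1 := congrArg (fun z : GL (Fin 2) F => (z : Matrix (Fin 2) (Fin 2) F) 0 1) h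
      simp [Matrix.mul_apply, Fin.sum_univ_two] at h0 h1
      exact ⟨h0, by linear_combination h1⟩
    · rintro ⟨h0, h1⟩
      refine Units.ext ?_
      ext i j
      fin_cases i <;> fin_cases j <;> simp [Matrix.mul_apply, Fin.sum_univ_two, h0, h1] <;> ring
  have e : Subgroup.centralizer ({GL2.u (1 : F)} : Set (GL (Fin 2) F)) ≃ F × Fˣ :=
    { toFun := fun g => ((g.1 : Matrix (Fin 2) (Fin 2) F) 0 1, Units.mk0 ((g.1 : Matrix (Fin 2) (Fin 2) F) 0 0) (fun e => by
        have hd := Matrix.GeneralLinearGroup.det_ne_zero g.1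
        rw [det_fin_two, e, ((hmem _).1 g.2).1] at hd
        simp at hd))
      invFun := fun p => ⟨GeneralLinearGroup.mkOfDetNeZero !![(p.2 : F), p.1; 0, (p.2 : F)] (by simp [det_fin_two]),
        (hmem _).2 (by simp)⟩
      left_inv := fun g => Subtype.ext (Units.ext (by
        obtain ⟨h0, h1⟩ := (hmem g.1).1 g.2
        ext i j
        fin_cases i <;> fin_cases j <;> simp [h0, h1]))
      right_inv := fun p => by
        refine Prod.ext ?_ (Units.ext ?_) <;> simp }
  rw [Nat.card_congr e, Nat.card_prod, Nat.card_units, Nat.card_eq_fintype_card]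

/-- A non-linear irreducible character of `GL₂` has multiplicity one Whittaker part. -/
theorem sub_u_eq [DecidableEq F] {χ : GL (Fin 2) F → ℂ} (hχ : IsIrrCharacter _ χ) (h1 : χ 1 ≠ 1) :
    χ 1 - χ (GL2.u 1) = Fintype.card F := by
  classical
  set q := Fintype.card F with hq
  have hq0 : (q : ℂ) ≠ 0 := Nat.cast_ne_zero.2 Fintype.card_ne_zero
  choose m k hm hk using fun χ : IrrCharacter (GL (Fin 2) F) => exists_mult χ.2.isCharacter
  have hsq : ∑ χ : IrrCharacter (GL (Fin 2) F), k χ ^ 2 = q * (q - 1) := by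
    have e1 := column_orthogonality (1 : GL (Fin 2) F) 1
    have e2 := column_orthogonality (GL2.u (1 : F)) 1
    have e3 := column_orthogonality (1 : GL (Fin 2) F) (GL2.u 1)
    have e4 := column_orthogonality (GL2.u (1 : F)) (GL2.u 1)
    have hne : GL2.u (1 : F) ≠ 1 := fun e => by
      simpa using congrArg (fun z : GL (Fin 2) F => (z : Matrix (Fin 2) (Fin 2) F) 0 1) e
    rw [if_pos (IsConj.refl _)] at e1 e4
    rw [if_neg fun h => hne (isConj_one_left.1 h)] at e2
    rw [if_neg fun h => hne (isConj_one_right.1 h)] at e3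
    have hC : Subgroup.centralizer ({1} : Set (GL (Fin 2) F)) = ⊤ :=
      eq_top_iff.2 fun x _ => Subgroup.mem_centralizer_singleton_iff.2 (by simp)
    rw [card_centralizer_u] at e4
    rw [hC, Subgroup.card_top] at e1
    have e : ∑ χ : IrrCharacter (GL (Fin 2) F), ((q : ℂ) * k χ) * conj ((q : ℂ) * k χ) =
        (Nat.card (GL (Fin 2) F) : ℂ) + ((q * (q - 1) : ℕ) : ℂ) := by
      rw [Finset.sum_congr rfl fun χ _ => show _ = (χ.1 1 * conj (χ.1 1) + χ.1 (GL2.u 1) * conj (χ.1 (GL2.u 1))) -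
          (χ.1 (GL2.u 1) * conj (χ.1 1) + χ.1 1 * conj (χ.1 (GL2.u 1))) by rw [← hk χ, map_sub]; ring,
        Finset.sum_sub_distrib, Finset.sum_add_distrib, Finset.sum_add_distrib, e1, e2, e3, e4, add_zero, sub_zero]
    have eN : ∑ χ : IrrCharacter (GL (Fin 2) F), q * k χ * (q * k χ) = Nat.card (GL (Fin 2) F) + q * (q - 1) := by
      apply Nat.cast_injective (R := ℂ)
      rw [Nat.cast_sum, Nat.cast_add, ← e]
      simp
    rw [Finset.sum_congr rfl fun χ _ => show q * k χ * (q * k χ) = q ^ 2 * k χ ^ 2 by ring, ← Finset.mul_sum,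
      GL2.card_gl2, ← hq] at eN
    obtain ⟨r, hr⟩ : ∃ r, q = r + 1 := ⟨q - 1, (Nat.sub_add_cancel Fintype.card_pos).symm⟩
    rw [hr] at eN ⊢
    simp only [Nat.add_sub_cancel] at eN ⊢
    apply Nat.eq_of_mul_eq_mul_left (show 0 < (r + 1) ^ 2 by positivity)
    rw [eN]; ring
  set L := Finset.univ.filter fun χ : IrrCharacter (GL (Fin 2) F) => k χ = 0
  have hlin : ∀ χ ∈ L, ∃ α : MulChar F ℂ, χ.1 = fun g : GL (Fin 2) F => α (g : Matrix (Fin 2) (Fin 2) F).det := by
    intro χ hχ'
    refine linear_of_u χ.2 ?_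
    have := hk χ
    rw [(Finset.mem_filter.1 hχ').2, Nat.cast_zero, mul_zero, sub_eq_zero] at this
    exact this.symm
  have hL : L.card ≤ q - 1 := by
    choose α hα using hlin
    have : Finite (MulChar F ℂ) := Finite.of_equiv _ (MulChar.equivToUnitHom).symm
    calc L.card = Nat.card L := (Nat.card_eq_finsetCard L).symm
      _ ≤ Nat.card (MulChar F ℂ) := Nat.card_le_card_of_injective (fun χ : L => α χ.1 χ.2) fun a b hab => by
          apply Subtype.ext; apply Subtype.ext
          rw [hα a.1 a.2, hα b.1 b.2]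
          simp only at hab
          rw [hab]
      _ = q - 1 := by
          rw [MulChar.card_eq_card_units_of_hasEnoughRootsOfUnity, Nat.card_units, Nat.card_eq_fintype_card]
  have hcnt : Fintype.card (IrrCharacter (GL (Fin 2) F)) = q ^ 2 - 1 := by
    rw [← Nat.card_eq_fintype_card, card_irr_eq_card_conjClasses, Cfsg.Agent.S2330.result]
  have hge : q * (q - 1) ≤ Lᶜ.card := by
    rw [Finset.card_compl, hcnt]
    obtain ⟨r, hr⟩ : ∃ r, q = r + 1 := ⟨q - 1, (Nat.sub_add_cancel Fintype.card_pos).symm⟩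
    rw [hr] at hL ⊢
    simp only [Nat.add_sub_cancel] at hL ⊢
    have : (r + 1) ^ 2 = (r + 1) * r + r + 1 := by ring
    omega
  have hone : ∀ χ ∈ Lᶜ, 1 ≤ k χ ^ 2 := by
    intro χ hc
    have : k χ ≠ 0 := by simpa [L] using hc
    exact Nat.one_le_pow _ _ (Nat.pos_of_ne_zero this)
  have hle : ∑ χ ∈ Lᶜ, k χ ^ 2 ≤ q * (q - 1) := hsq ▸ Finset.sum_le_univ_sum_of_nonneg (fun _ => Nat.zero_le _)
  have heq : ∑ χ ∈ Lᶜ, 1 = ∑ χ ∈ Lᶜ, k χ ^ 2 :=
    le_antisymm (Finset.sum_le_sum hone) (hle.trans (by simpa using hge))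
  have hχL : (⟨χ, hχ⟩ : IrrCharacter (GL (Fin 2) F)) ∈ Lᶜ := by
    rw [Finset.mem_compl]
    intro hc
    obtain ⟨α, hα⟩ := hlin _ hc
    apply h1
    have h2 := congrFun hα (1 : GL (Fin 2) F)
    simpa using h2
  have h1k := ((Finset.sum_eq_sum_iff_of_le hone).1 heq) _ hχL
  rw [hk ⟨χ, hχ⟩, show k ⟨χ, hχ⟩ = 1 by nlinarith]
  simp [hq]

/-- The Steinberg character. -/
noncomputable def st (g : GL (Fin 2) F) : ℂ := fixedPointCharacter (upperTriangularGL 2 F) g - 1

lemma sum_mulChar [Fintype (MulChar F ℂ)] {a : F} (ha : a ≠ 1) : ∑ α : MulChar F ℂ, α a = 0 := by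
  rcases eq_or_ne a 0 with rfl | ha0
  · exact Finset.sum_eq_zero fun α _ => MulChar.map_zero α
  obtain ⟨α₀, h0⟩ := MulChar.exists_apply_ne_one_of_hasEnoughRootsOfUnity F ℂ ha
  refine eq_zero_of_mul_eq_self_left h0 ?_
  rw [Finset.mul_sum]
  exact Fintype.sum_bijective _ (Group.mulLeft_bijective α₀) _ _ fun α => by simp

variable [DecidableEq F]

lemma inner_thGL (χ : GL (Fin 2) F → ℂ) (hχ : IsClassFunction _ χ) (α β : MulChar F ℂ) :
    classInner (indFun (upperTriangularGL 2 F) (thGL α β)) χ =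
      ((Fintype.card Fˣ : ℂ) * Fintype.card Fˣ * Fintype.card F)⁻¹ *
        ∑ p : Fˣ × Fˣ × F, α (p.1 : F) * β (p.2.1 : F) * conj (χ (bGL p : GL (Fin 2) F)) := by
  classical
  rw [classInner_indFun _ _ hχ, classInner, ← Nat.card_congr (bGL (F := F)), ← Equiv.sum_comp bGL]
  simp [thGL, coe_bGL, Nat.card_prod, mul_assoc]

lemma indFun_diag_eq (α : MulChar F ℂ) (g : GL (Fin 2) F) :
    indFun (upperTriangularGL 2 F) (thGL α α) g = α (g : Matrix (Fin 2) (Fin 2) F).det * (st g + 1) := by
  classical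
  rw [st, sub_add_cancel, indFun_thGL, fixedPointCharacter_eq, Nat.cast_add, mul_add, det_fin_two]
  congr 1
  · split
    case isTrue h => rw [Nat.cast_one, mul_one, h, mul_zero, sub_zero, map_mul]
    case isFalse h => simp
  · rw [Finset.card_filter, Nat.cast_sum, Finset.mul_sum]
    refine Finset.sum_congr rfl fun t _ => ?_
    split
    case isTrue h =>
      rw [Nat.cast_one, mul_one, ← map_mul]
      congr 1
      linear_combination (-(g : Matrix (Fin 2) (Fin 2) F) 1 0) * h
    case isFalse h => simp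

lemma indFun_u (α β : MulChar F ℂ) : indFun (upperTriangularGL 2 F) (thGL α β) (GL2.u 1) = 1 := by
  rw [indFun_thGL]; simp

lemma indFun_one' (α β : MulChar F ℂ) :
    indFun (upperTriangularGL 2 F) (thGL α β) 1 = (Fintype.card F : ℂ) + 1 := by
  rw [indFun_thGL]; simp [add_comm]

lemma indFun_elliptic (α β : MulChar F ℂ) {g : GL (Fin 2) F} (hg : Elliptic (g : Matrix (Fin 2) (Fin 2) F)) :
    indFun (upperTriangularGL 2 F) (thGL α β) g = 0 := by
  rw [indFun_thGL, if_neg hg.lower_ne, Finset.sum_eq_zero fun t _ => if_neg (hg.no_root t), add_zero]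

lemma st_one : st (1 : GL (Fin 2) F) = Fintype.card F := by
  have h := indFun_diag_eq (1 : MulChar F ℂ) (1 : GL (Fin 2) F)
  rw [indFun_one'] at h
  simp at h
  linear_combination -h

lemma st_u : st (GL2.u (1 : F)) = 0 := by
  have h := indFun_diag_eq (1 : MulChar F ℂ) (GL2.u (1 : F))
  rw [indFun_u] at h
  simp [det_fin_two] at h
  exact h

lemma detLin_irr (α : MulChar F ℂ) :
    IsIrrCharacter (GL (Fin 2) F) fun g : GL (Fin 2) F => α (g : Matrix (Fin 2) (Fin 2) F).det := by
  simpa using isIrrCharacter_linear (α.toUnitHom.comp (GeneralLinearGroup.det : GL (Fin 2) F →* Fˣ))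

lemma stTwist_irr (α : MulChar F ℂ) :
    IsIrrCharacter (GL (Fin 2) F) fun g : GL (Fin 2) F => α (g : Matrix (Fin 2) (Fin 2) F).det * st g := by
  classical
  set I := indFun (upperTriangularGL 2 F) (thGL α α)
  set L : GL (Fin 2) F → ℂ := fun g : GL (Fin 2) F => α (g : Matrix (Fin 2) (Fin 2) F).det
  have hf : (fun g : GL (Fin 2) F => α (g : Matrix (Fin 2) (Fin 2) F).det * st g) = I - L := by
    funext g; simp only [Pi.sub_apply, I, L, indFun_diag_eq]; ring
  rw [hf]
  have hI : IsCharacter _ I := isCharacter_indFun _ (isCharacter_thGL α α)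
  have hII : classInner I I = 2 := by rw [inner_GL]; norm_num
  have hIL : classInner I L = 1 := by
    rw [classInner_indFun _ _ (detLin_irr α).isClassFunction]
    have hfun : (fun h : upperTriangularGL 2 F => L h) = thGL α α := by
      funext h
      simp only [L, thGL, det_fin_two, mem_upper.1 h.2, mul_zero, sub_zero, map_mul]
    rw [hfun]
    refine classInner_irr_self ?_
    obtain ⟨l, hl⟩ := exists_hom_of_degree_one (isCharacter_thGL α α) (by simp [thGL])
    rw [hl]; exact isIrrCharacter_linear l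
  have hLI : classInner L I = 1 := by rw [← conj_classInner, hIL, map_one]
  have hn : classInner (I - L) (I - L) = 1 := by
    rw [classInner_sub_left, classInner_sub_right, classInner_sub_right, hII, hIL, hLI,
      classInner_irr_self (detLin_irr α)]
    norm_num
  refine (isGeneralized_norm_one (isGeneralized_sub (isGeneralized_of_isCharacter hI)
    (isGeneralized_of_isCharacter (detLin_irr α).isCharacter)) hn).resolve_right fun h => ?_
  obtain ⟨d, hd, hd1⟩ := h.exists_degree_pos
  simp [I, L, indFun_one'] at hd1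
  have : (((Fintype.card F + d : ℕ)) : ℂ) = ((0 : ℕ) : ℂ) := by push_cast; linear_combination -hd1
  have := Nat.cast_injective this
  omega

/-- The non-linear irreducible characters of `GL₂`. -/
theorem gl_cases {χ : GL (Fin 2) F → ℂ} (hχ : IsIrrCharacter _ χ) (h1 : χ 1 ≠ 1) :
    (χ 1 = (Fintype.card F : ℂ) - 1 ∧ χ (GL2.u 1) = -1) ∨
    (∃ α : MulChar F ℂ, χ = fun g : GL (Fin 2) F => α (g : Matrix (Fin 2) (Fin 2) F).det * st g) ∨
    (∃ α β : MulChar F ℂ, α ≠ β ∧ χ = indFun (upperTriangularGL 2 F) (thGL α β)) := by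
  classical
  have := Fintype.ofFinite (MulChar F ℂ)
  have hs := sub_u_eq hχ h1
  obtain ⟨m, k, hm, -⟩ := exists_mult hχ.isCharacter
  have hq : (Fintype.card F : ℂ) ≠ 0 := Nat.cast_ne_zero.2 Fintype.card_ne_zero
  rcases Nat.eq_zero_or_pos m with rfl | hm0
  · left
    rw [Nat.cast_zero, mul_zero] at hm
    have hc : χ (GL2.u 1) = -1 := by
      refine mul_left_cancel₀ hq ?_
      linear_combination hm - hs
    exact ⟨by linear_combination hs + hc, hc⟩
  right
  have hex : ∃ α β : MulChar F ℂ, classInner (indFun (upperTriangularGL 2 F) (thGL α β)) χ ≠ 0 := by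
    by_contra hcon
    simp only [not_exists, not_not] at hcon
    have h0 : ∑ α : MulChar F ℂ, ∑ β : MulChar F ℂ, classInner (indFun (upperTriangularGL 2 F) (thGL α β)) χ = 0 :=
      Finset.sum_eq_zero fun α _ => Finset.sum_eq_zero fun β _ => hcon α β
    simp only [inner_thGL χ hχ.isClassFunction, ← Finset.mul_sum] at h0
    have hne : ((Fintype.card Fˣ : ℂ) * Fintype.card Fˣ * Fintype.card F)⁻¹ ≠ 0 :=
      inv_ne_zero (mul_ne_zero (mul_ne_zero (Nat.cast_ne_zero.2 Fintype.card_ne_zero)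
        (Nat.cast_ne_zero.2 Fintype.card_ne_zero)) hq)
    replace h0 := (mul_eq_zero.1 h0).resolve_left hne
    rw [Finset.sum_congr rfl (fun α _ => Finset.sum_comm), Finset.sum_comm] at h0
    rw [Finset.sum_congr rfl fun p _ => show _ = (∑ α : MulChar F ℂ, α (p.1 : F)) * (∑ β : MulChar F ℂ, β (p.2.1 : F)) *
        conj (χ (bGL p : GL (Fin 2) F)) by
      rw [Finset.sum_mul_sum, Finset.sum_mul]
      exact Finset.sum_congr rfl fun α _ => by rw [Finset.sum_mul],
      Fintype.sum_prod_type, Finset.sum_eq_single 1 (fun a _ ha => Finset.sum_eq_zero fun p _ => by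
        rw [sum_mulChar (fun e => ha (Units.ext (by simpa using e)))]; simp) (by simp),
      Fintype.sum_prod_type, Finset.sum_eq_single 1 (fun a _ ha => Finset.sum_eq_zero fun p _ => by
        rw [sum_mulChar (a := (a : F)) (fun e => ha (Units.ext (by simpa using e)))]; simp) (by simp)] at h0
    have hb : ∀ x : F, (bGL ((1 : Fˣ), (1 : Fˣ), x) : GL (Fin 2) F) = GL2.u x := fun x =>
      Units.ext (by rw [coe_bGL]; simp)
    simp only [hb, ← Finset.mul_sum, ← map_sum, sum_u hχ.isClassFunction, hm] at h0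
    simp [Fintype.card_ne_zero, hm0.ne'] at h0
  obtain ⟨α, β, hab⟩ := hex
  by_cases e : α = β
  · subst e
    left
    refine ⟨α, ?_⟩
    by_contra hne
    apply hab
    have hI : indFun (upperTriangularGL 2 F) (thGL α α) =
        (fun g : GL (Fin 2) F => α (g : Matrix (Fin 2) (Fin 2) F).det) + fun g : GL (Fin 2) F => α (g : Matrix (Fin 2) (Fin 2) F).det * st g := by
      funext g; simp only [Pi.add_apply, indFun_diag_eq]; ring
    rw [hI, classInner_add_left, classInner_irr_ne (detLin_irr α) hχ, classInner_irr_ne (stTwist_irr α) hχ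
      (fun e => hne e.symm), add_zero]
    intro e
    apply h1
    rw [← e]; simp
  · right
    refine ⟨α, β, e, ?_⟩
    by_contra hne
    refine hab (classInner_irr_ne (isIrrCharacter_of_classInner_eq_one (isCharacter_indFun _ (isCharacter_thGL α β)) ?_) hχ
      fun e' => hne e'.symm)
    rw [inner_GL]; simp [e]

lemma degree_cases {χ : GL (Fin 2) F → ℂ} (hχ : IsIrrCharacter _ χ) :
    χ 1 = 1 ∨ χ 1 = (Fintype.card F : ℂ) - 1 ∨ χ 1 = Fintype.card F ∨ χ 1 = (Fintype.card F : ℂ) + 1 := by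
  by_cases h1 : χ 1 = 1
  · exact Or.inl h1
  right
  rcases gl_cases hχ h1 with ⟨h, -⟩ | ⟨α, rfl⟩ | ⟨α, β, -, rfl⟩
  · exact Or.inl h
  · exact Or.inr (Or.inl (by simp [st_one]))
  · exact Or.inr (Or.inr (indFun_one' α β))

/-- If the unipotent sum vanishes, so does every translate of it. -/
lemma sum_translate_eq_zero {χ : GL (Fin 2) F → ℂ} (hχ : IsCharacter _ χ) (h : ∑ a : F, χ (GL2.u a) = 0)
    (g : GL (Fin 2) F) : ∑ a : F, χ (g * GL2.u a) = 0 := by
  classical
  obtain ⟨n, ρ, rfl⟩ := hχ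
  set q := Fintype.card F
  have hq : (q : ℂ) ≠ 0 := Nat.cast_ne_zero.2 Fintype.card_ne_zero
  set P : (Fin n → ℂ) →ₗ[ℂ] (Fin n → ℂ) := ∑ a : F, ρ (GL2.u a)
  have hP : P * P = (q : ℂ) • P := by
    calc P * P = ∑ a : F, ∑ b : F, ρ (GL2.u (a + b)) := by
          simp only [P, Finset.sum_mul_sum, ← map_mul, u_mul]
      _ = ∑ a : F, P := Finset.sum_congr rfl fun a _ => Equiv.sum_comp (Equiv.addLeft a) fun b => ρ (GL2.u b)
      _ = (q : ℂ) • P := by rw [Finset.sum_const, Finset.card_univ, ← Nat.cast_smul_eq_nsmul ℂ]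
  have hidem : IsIdempotentElem ((q : ℂ)⁻¹ • P) := by
    unfold IsIdempotentElem
    rw [smul_mul_smul_comm, hP, smul_smul, mul_assoc, inv_mul_cancel₀ hq, mul_one]
  have htr : LinearMap.trace ℂ _ ((q : ℂ)⁻¹ • P) = 0 := by
    simp only [map_smul, P, map_sum, smul_eq_mul, Representation.character] at h ⊢
    rw [h, mul_zero]
  have hp := (LinearMap.isProj_range_iff_isIdempotentElem _).2 hidem
  rw [hp.trace, Nat.cast_eq_zero, Submodule.finrank_eq_zero, LinearMap.range_eq_bot] at htr
  have hP0 : P = 0 := (smul_eq_zero.1 htr).resolve_left (inv_ne_zero hq)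
  calc ∑ a : F, ρ.character (g * GL2.u a) = LinearMap.trace ℂ _ (ρ g * P) := by
        simp [P, Representation.character, Finset.mul_sum]
    _ = 0 := by rw [hP0, mul_zero, map_zero]

lemma eq_zero_diag {χ : GL (Fin 2) F → ℂ} (hχ : IsCharacter _ χ) (h : ∑ a : F, χ (GL2.u a) = 0)
    {g : GL (Fin 2) F} (h01 : (g : Matrix (Fin 2) (Fin 2) F) 0 1 = 0) (h10 : (g : Matrix (Fin 2) (Fin 2) F) 1 0 = 0)
    (hne : (g : Matrix (Fin 2) (Fin 2) F) 0 0 ≠ (g : Matrix (Fin 2) (Fin 2) F) 1 1) : χ g = 0 := by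
  classical
  have hd : (g : Matrix (Fin 2) (Fin 2) F) 0 0 * (g : Matrix (Fin 2) (Fin 2) F) 1 1 ≠ 0 := by
    have := Matrix.GeneralLinearGroup.det_ne_zero g
    rwa [det_fin_two, h01, zero_mul, sub_zero] at this
  set a := Units.mk0 _ (left_ne_zero_of_mul hd)
  set d := Units.mk0 _ (right_ne_zero_of_mul hd)
  have hg : g = dg a d := Units.ext (by ext i j; fin_cases i <;> fin_cases j <;> simp [a, d, h01, h10])
  have had : (d : F) / a - 1 ≠ 0 := by
    rw [sub_ne_zero, Ne, div_eq_one_iff_eq a.ne_zero]; exact fun e => hne e.symm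
  have hconst : ∀ x : F, χ (g * GL2.u x) = χ g := by
    intro x
    set y := x / ((d : F) / a - 1)
    have : g * GL2.u x = GL2.u y * g * (GL2.u y)⁻¹ := by
      rw [eq_mul_inv_iff_mul_eq, mul_assoc, u_mul, hg, dg_u]
      congr 2
      have hy : y * ((d : F) / a - 1) = x := div_mul_cancel₀ x had
      rw [← hy]
      field_simp
      ring
    rw [this]; exact isClassFunction_of_isCharacter hχ g _
  have := sum_translate_eq_zero hχ h g
  simp only [hconst, Finset.sum_const, Finset.card_univ, nsmul_eq_mul] at this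
  exact (mul_eq_zero.1 this).resolve_left (Nat.cast_ne_zero.2 Fintype.card_ne_zero)

end Cfsg.Lib.Classical.TwoDim
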