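import Cfsg.Agent.Lib.Classical.TwoDimSLFacts

/-! The characters of `SL₂` of degree `(q ± 1) / 2`. -/

set_option autoImplicit false
set_option linter.unusedSectionVars false

namespace Cfsg.Lib.Classical.TwoDim

open Matrix
open scoped ComplexConjugate
open Cfsg Cfsg.Lib.Characters Cfsg.Lib.Classical Cfsg.Lib.Classical.ProjLine

variable {F : Type*} [Field F] [Fintype F] [DecidableEq F]

lemma ringChar_ne_two (hodd : Odd (Fintype.card F)) : ringChar F ≠ 2 := fun h => by
  have := FiniteField.even_card_of_char_two h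
  rw [Nat.odd_iff] at hodd
  omega

/-- The quadratic character with complex values. -/
noncomputable def quadC : MulChar F ℂ := (quadraticChar F).ringHomComp (Int.castRingHom ℂ)

lemma quadC_square {a : F} (ha : a ≠ 0) (h : IsSquare a) : quadC a = 1 := by
  simp [quadC, (quadraticChar_one_iff_isSquare ha).2 h]

lemma quadC_nonsquare {a : F} (h : ¬ IsSquare a) : quadC a = -1 := by
  simp [quadC, quadraticChar_neg_one_iff_not_isSquare.2 h]

lemma quadC_sq : (quadC : MulChar F ℂ) ^ 2 = 1 := by
  refine MulChar.ext fun a => ?_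
  rw [MulChar.pow_apply_coe, MulChar.one_apply_coe]
  by_cases h : IsSquare (a : F)
  · rw [quadC_square a.ne_zero h, one_pow]
  · rw [quadC_nonsquare h, neg_one_sq]

lemma quadC_ne_one (hodd : Odd (Fintype.card F)) : (quadC : MulChar F ℂ) ≠ 1 := by
  obtain ⟨e, he⟩ := FiniteField.exists_nonsquare (ringChar_ne_two hodd)
  intro h
  have he0 : e ≠ 0 := fun e0 => he (e0 ▸ IsSquare.zero)
  have := quadC_nonsquare he
  rw [h, MulChar.one_apply (isUnit_iff_ne_zero.2 he0)] at this
  norm_num at this

lemma eq_quadC (hodd : Odd (Fintype.card F)) {α : MulChar F ℂ} (hα : α = α⁻¹) (hα1 : α ≠ 1) : α = quadC := by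
  have hsq : ∀ b : F, b ≠ 0 → α (b * b) = 1 := by
    intro b hb
    rw [map_mul]
    nth_rewrite 2 [hα]
    rw [MulChar.inv_apply', ← map_mul, mul_inv_cancel₀ hb, map_one]
  have hsq' : ∀ b : F, b ≠ 0 → IsSquare b → α b = 1 := by
    rintro b hb ⟨c, rfl⟩; exact hsq c (left_ne_zero_of_mul hb)
  obtain ⟨n, hn, hn1⟩ : ∃ n : Fˣ, ¬ IsSquare (n : F) ∧ α (n : F) ≠ 1 := by
    by_contra hc
    simp only [not_exists, not_and, not_not] at hc
    refine hα1 (MulChar.ext fun a => ?_)
    rw [MulChar.one_apply_coe]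
    by_cases h : IsSquare (a : F)
    · exact hsq' _ a.ne_zero h
    · exact hc a h
  have hnm : α (n : F) = -1 := by
    refine (mul_self_eq_one_iff.1 ?_).resolve_left hn1
    rw [← map_mul]; exact hsq _ n.ne_zero
  refine MulChar.ext fun a => ?_
  by_cases h : IsSquare (a : F)
  · rw [quadC_square a.ne_zero h, hsq' _ a.ne_zero h]
  · rw [quadC_nonsquare h]
    have h3 : IsSquare ((a : F) * n) := by
      rw [← quadraticChar_one_iff_isSquare (mul_ne_zero a.ne_zero n.ne_zero), map_mul,
        quadraticChar_neg_one_iff_not_isSquare.2 h, quadraticChar_neg_one_iff_not_isSquare.2 hn]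
      norm_num
    have h4 := hsq' _ (mul_ne_zero a.ne_zero n.ne_zero) h3
    rw [map_mul, hnm] at h4
    linear_combination -h4

/-- A character of degree `(q ± 1) / 2` is half of the restriction of one of degree `q ± 1`. -/
theorem half_cases {r : ℕ} (hr : Fintype.card F = 2 * r + 1) (hr2 : 2 ≤ r)
    {χ : SpecialLinearGroup (Fin 2) F → ℂ} (hχ : IsIrrCharacter _ χ) (hd : χ 1 = (r : ℂ) ∨ χ 1 = (r : ℂ) + 1) :
    ∃ (π : GL (Fin 2) F → ℂ) (x : GL (Fin 2) F) (χ' : SpecialLinearGroup (Fin 2) F → ℂ),
      IsIrrCharacter _ π ∧ π 1 ≠ 1 ∧ π 1 = 2 * χ 1 ∧ IsIrrCharacter _ χ' ∧ χ' ≠ χ ∧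
        (∀ A, χ' A = χ (conjS x A)) ∧ ∀ A, π (SpecialLinearGroup.toGL A) = χ A + χ' A := by
  have hqC : (Fintype.card F : ℂ) = 2 * r + 1 := by rw [hr]; push_cast; ring
  have hn : ∀ n : ℕ, n < 2 → (r : ℂ) ≠ n := fun n hn h => by have := Nat.cast_injective h; omega
  have hk : ∀ n : ℕ, (r : ℂ) + n + 1 ≠ 0 := fun n => by exact_mod_cast Nat.succ_ne_zero (r + n)
  have h1 : χ 1 ≠ 1 := by
    intro e
    rcases hd with h | h
    · exact hn 1 (by norm_num) (by push_cast; linear_combination e - h)
    · exact hn 0 (by norm_num) (by push_cast; linear_combination e - h)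
  obtain ⟨π, hπ, hπ1, hdeg, ⟨he, -⟩ | ⟨he, x, χ', hχ', hne, hx, hsum⟩⟩ := sl_cases hχ h1
  · exfalso
    rw [he, hqC] at hdeg
    rcases hd with h | h <;> rw [h] at hdeg <;> rcases hdeg with h' | h' | h'
    · exact hn 0 (by norm_num) (by push_cast; linear_combination -h')
    · exact hk 0 (by push_cast; linear_combination -h')
    · exact hk 1 (by push_cast; linear_combination -h')
    · exact hn 1 (by norm_num) (by push_cast; linear_combination -h')
    · exact hn 0 (by norm_num) (by push_cast; linear_combination -h')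
    · exact hk 0 (by push_cast; linear_combination -h')
  · exact ⟨π, x, χ', hπ, hπ1, he, hχ', hne, hx, hsum⟩

/-- The restriction of a split principal series is the quadratic one. -/
theorem plus_res {r : ℕ} (hr : Fintype.card F = 2 * r + 1)
    {π : GL (Fin 2) F → ℂ} (hπ : IsIrrCharacter _ π) (hd : π 1 = 2 * ((r : ℂ) + 1))
    {χ χ' : SpecialLinearGroup (Fin 2) F → ℂ} (hχ : IsIrrCharacter _ χ) (hχ' : IsIrrCharacter _ χ') (hne : χ' ≠ χ)
    (hsum : ∀ A, π (SpecialLinearGroup.toGL A) = χ A + χ' A) :
    (∀ A, χ A + χ' A = indFun _ (thSL quadC) A) := by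
  have hqC : (Fintype.card F : ℂ) = 2 * r + 1 := by rw [hr]; push_cast; ring
  have hπ1 : π 1 ≠ 1 := by
    rw [hd]; intro e
    exact absurd (show ((2 * r + 1 : ℕ) : ℂ) = 0 by push_cast; linear_combination e) (Nat.cast_ne_zero.2 (by omega))
  rcases gl_cases hπ hπ1 with ⟨h, -⟩ | ⟨α, rfl⟩ | ⟨α, β, hab, rfl⟩
  · exfalso
    rw [hd, hqC] at h
    exact two_ne_zero (α := ℂ) (by linear_combination h)
  · exfalso
    simp [st_one] at hd
    rw [hqC] at hd
    exact one_ne_zero (α := ℂ) (by linear_combination -hd)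
  · have hres : (fun A => χ A + χ' A) = indFun _ (thSL (α * β⁻¹)) := funext fun A => by rw [← hsum, res_indFun]
    have hn := inner_SL (α * β⁻¹) (α * β⁻¹)
    rw [← hres, if_pos rfl] at hn
    have h2 : classInner (χ + χ') (χ + χ') = 2 := by
      rw [classInner_add_left, classInner_add_right, classInner_add_right, classInner_irr_self hχ,
        classInner_irr_self hχ', classInner_irr_ne hχ hχ' hne.symm, classInner_irr_ne hχ' hχ hne]
      norm_num
    rw [show (fun A => χ A + χ' A) = χ + χ' from rfl, h2] at hn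
    have hg : (α * β⁻¹ : MulChar F ℂ) = (α * β⁻¹)⁻¹ := by
      by_contra hc
      rw [if_neg hc] at hn
      norm_num at hn
    rw [← eq_quadC ⟨r, hr⟩ hg (fun e => hab (mul_inv_eq_one.1 e))]
    exact fun A => congrFun hres A

lemma isChar_const : IsCharacter (Multiplicative F) fun _ => (1 : ℂ) := isCharacter_one

/-- The square of the difference of the two halves at a transvection. -/
theorem half_diff_sq {r : ℕ} (hr : Fintype.card F = 2 * r + 1)
    {π : GL (Fin 2) F → ℂ} (hπ : IsIrrCharacter _ π) (hπ1 : π 1 ≠ 1)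
    {χ χ' : SpecialLinearGroup (Fin 2) F → ℂ} (hχ : IsIrrCharacter _ χ) (hχ' : IsIrrCharacter _ χ') (hne : χ' ≠ χ)
    {x : GL (Fin 2) F} (hx : ∀ A, χ' A = χ (conjS x A))
    (hsum : ∀ A, π (SpecialLinearGroup.toGL A) = χ A + χ' A) :
    (χ (uS 1) - χ' (uS 1)) * conj (χ (uS 1) - χ' (uS 1)) = Fintype.card F ∧
    (χ (uS 1) - χ' (uS 1)) ^ 2 = (-1 : ℂ) ^ r * Fintype.card F := by
  classical
  have hodd : Odd (Fintype.card F) := ⟨r, hr⟩
  have hns := conjS_halves_nonsquare hχ.isClassFunction hne hx
  set e : F := ((GeneralLinearGroup.det x : Fˣ) : F) with he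
  have he0 : e ≠ 0 := Units.ne_zero _
  set δ := χ (uS 1) - χ' (uS 1)
  have hcl := hχ.isClassFunction
  have hsqe : ∀ a : F, a ≠ 0 → IsSquare a → χ (uS a) = χ (uS 1) ∧ χ' (uS a) = χ' (uS 1) := by
    rintro a ha ⟨s, rfl⟩
    have key : ∀ f : SpecialLinearGroup (Fin 2) F → ℂ, IsClassFunction _ f → f (uS (s * s)) = f (uS 1) := fun f hf => by
      have := apply_uS_sq hf (Units.mk0 s (left_ne_zero_of_mul ha)) 1
      rwa [Units.val_mk0, mul_one, sq] at this
    exact ⟨key χ hcl, key χ' hχ'.isClassFunction⟩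
  have hq2 : ∀ a : F, a ≠ 0 → χ (uS a) - χ' (uS a) = (quadC a) * δ := by
    intro a ha
    by_cases hs : IsSquare a
    · obtain ⟨h1, h2⟩ := hsqe a ha hs
      rw [h1, h2, quadC_square ha hs, one_mul]
    · have hea : IsSquare (e * a) := by
        rw [← quadraticChar_one_iff_isSquare (mul_ne_zero he0 ha), map_mul,
          quadraticChar_neg_one_iff_not_isSquare.2 hns, quadraticChar_neg_one_iff_not_isSquare.2 hs]
        norm_num
      have h1 : χ' (uS a) = χ (uS 1) := by
        rw [half_uS hcl hx a]; exact (hsqe _ (mul_ne_zero he0 ha) hea).1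
      obtain ⟨s, hs'⟩ := hea
      have hs0 : s ≠ 0 := fun h => mul_ne_zero he0 ha (by rw [hs', h, mul_zero])
      have h2 : χ (uS a) = χ' (uS 1) := by
        have h := apply_uS_sq hcl (Units.mk0 (s / e) (div_ne_zero hs0 he0)) e
        rw [half_uS hcl hx 1, mul_one, ← he, ← h, Units.val_mk0]
        congr 2
        field_simp
        linear_combination hs'
      rw [h1, h2, quadC_nonsquare hs]; ring
  obtain ⟨φ, -, hφ⟩ := exists_phi (F := F)
  have hq0 : (Fintype.card F : ℂ) ≠ 0 := Nat.cast_ne_zero.2 Fintype.card_ne_zero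
  set R : (SpecialLinearGroup (Fin 2) F → ℂ) → Multiplicative F → ℂ := fun f a => f (uSHom a) with hR
  have hRc : ∀ f, IsCharacter _ f → IsCharacter (Multiplicative F) (R f) := fun f hf => isCharacter_comp hf uSHom
  have hcfm : ∀ f : Multiplicative F → ℂ, IsClassFunction (Multiplicative F) f := fun f a b => by
    rw [mul_inv_cancel_comm]
  set m : ℂ := classInner (R χ) fun _ => 1
  set one' : IrrCharacter (Multiplicative F) := ⟨fun _ => 1, isIrrCharacter_one⟩
  have hc : π (GL2.u 1) + 1 = 2 * m := by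
    have h := half_sum_res hπ hπ1 hcl hx hsum
    have hm : m = (Fintype.card F : ℂ)⁻¹ * ∑ a : F, χ (uS a) := by
      simp [m, hR, classInner_uS]
    rw [hm]
    field_simp
    linear_combination -h
  have hm' : classInner (R χ') (fun _ => (1 : ℂ)) = m := by
    simp [m, hR, classInner_uS, half_sum hcl hx]
  have hcross : classInner (R χ) (R χ') = m * conj m := by
    rw [classInner_eq_sum (hcfm _), Finset.sum_eq_single one']
    · simp only [one']
      rw [← conj_classInner (R χ') fun _ => (1 : ℂ), hm']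
    · intro ξ _ hξ
      rcases hφ ξ with h | ⟨t, ht, h⟩
      · exact absurd (Subtype.ext (funext h)) hξ
      · obtain ⟨k, hk⟩ := classInner_nat (hRc χ hχ.isCharacter) ξ.2.isCharacter
        obtain ⟨k', hk'⟩ := classInner_nat (hRc χ' hχ'.isCharacter) ξ.2.isCharacter
        have hs : classInner (R fun A => π (SpecialLinearGroup.toGL A)) ξ.1 = 1 := by
          refine (classInner_uS (fun A => π (SpecialLinearGroup.toGL A)) ξ.1).trans ?_
          simp only [toGL_uS, h]
          have h0 : ∑ a : F, conj ((φ (Multiplicative.ofAdd (t * a)) : ℂˣ) : ℂ) = 0 := by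
            have h1 := classInner_irr_ne ξ.2 (isIrrCharacter_one (G := Multiplicative F))
              (fun e => hξ (Subtype.ext e))
            have h2 : classInner (fun _ => (1 : ℂ)) ξ.1 = 0 := by rw [← conj_classInner, h1, map_zero]
            have h3 : classInner (fun a => (fun _ : SpecialLinearGroup (Fin 2) F => (1 : ℂ)) (uSHom a)) ξ.1 = 0 := h2
            replace h3 := (classInner_uS (fun _ => (1 : ℂ)) ξ.1).symm.trans h3
            simpa [h, hq0] using h3
          rw [← Finset.add_sum_erase _ _ (Finset.mem_univ (0 : F))] at h0 ⊢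
          rw [Finset.sum_congr rfl (fun a ha => by
            rw [apply_u hπ.isClassFunction (Finset.ne_of_mem_erase ha)]), ← Finset.mul_sum]
          simp only [mul_zero, ofAdd_zero, map_one, Units.val_one, u_zero, mul_one] at h0 ⊢
          rw [inv_mul_eq_one₀ hq0, ← sub_u_eq hπ hπ1]
          linear_combination (-(π (GL2.u 1))) * h0
        rw [show (R fun A => π (SpecialLinearGroup.toGL A)) = R χ + R χ' from funext fun a => hsum _,
          classInner_add_left, hk, hk'] at hs
        have : k + k' = 1 := by exact_mod_cast hs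
        rw [hk, ← conj_classInner (R χ') ξ.1, hk', map_natCast, ← Nat.cast_mul,
          show k * k' = 0 by rcases k with _ | k <;> rcases k' with _ | k' <;> omega, Nat.cast_zero]
    · simp
  have hnormπ : classInner (R fun A => π (SpecialLinearGroup.toGL A)) (R fun A => π (SpecialLinearGroup.toGL A)) =
      (Fintype.card F : ℂ)⁻¹ * (π 1 * π 1 + ((Fintype.card F : ℂ) - 1) * (π (GL2.u 1) * conj (π (GL2.u 1)))) := by
    refine (classInner_uS (fun A => π (SpecialLinearGroup.toGL A)) _).trans ?_
    congr 1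
    show ∑ a : F, π (SpecialLinearGroup.toGL (uS a)) * conj (π (SpecialLinearGroup.toGL (uS a))) = _
    simp only [toGL_uS]
    rw [← Finset.add_sum_erase _ _ (Finset.mem_univ (0 : F)), u_zero, conj_char_one hπ.isCharacter,
      Finset.sum_congr rfl (fun a ha => by rw [apply_u hπ.isClassFunction (Finset.ne_of_mem_erase ha)]),
      Finset.sum_const, Finset.card_erase_of_mem (Finset.mem_univ _), Finset.card_univ, nsmul_eq_mul,
      Nat.cast_sub Fintype.card_pos, Nat.cast_one]
  have hnormD : classInner (R χ - R χ') (R χ - R χ') = (Fintype.card F : ℂ)⁻¹ * (((Fintype.card F : ℂ) - 1) * (δ * conj δ)) := by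
    rw [show R χ - R χ' = (fun a => (χ - χ') (uSHom a)) from rfl, classInner_uS]
    congr 1
    show ∑ a : F, (χ (uS a) - χ' (uS a)) * conj (χ (uS a) - χ' (uS a)) = _
    rw [← Finset.add_sum_erase _ _ (Finset.mem_univ (0 : F)), uS_zero, show χ 1 - χ' 1 = 0 by rw [hx, map_one, sub_self],
      zero_mul, zero_add, Finset.sum_congr rfl (fun a ha => show _ = δ * conj δ by
        have hna := Finset.ne_of_mem_erase ha
        rw [hq2 a hna, map_mul]
        by_cases hs : IsSquare a
        · rw [quadC_square hna hs]; simp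
        · rw [quadC_nonsquare hs]; simp),
      Finset.sum_const, Finset.card_erase_of_mem (Finset.mem_univ _), Finset.card_univ, nsmul_eq_mul,
      Nat.cast_sub Fintype.card_pos, Nat.cast_one]
  have hpar : classInner (R χ - R χ') (R χ - R χ') = classInner (R fun A => π (SpecialLinearGroup.toGL A)) (R fun A => π (SpecialLinearGroup.toGL A)) - 4 * (m * conj m) := by
    rw [show (R fun A => π (SpecialLinearGroup.toGL A)) = R χ + R χ' from funext fun a => hsum _]
    simp only [classInner_add_left, classInner_add_right, classInner_sub_left, classInner_sub_right]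
    rw [← conj_classInner (R χ) (R χ'), hcross, map_mul, Complex.conj_conj]
    ring
  have hreal : conj (π (GL2.u 1)) = π (GL2.u 1) := by
    have h := sub_u_eq hπ hπ1
    rw [show π (GL2.u 1) = π 1 - Fintype.card F by linear_combination -h, map_sub, conj_char_one hπ.isCharacter, map_natCast]
  have hmm : conj m = m := by
    have := congrArg (starRingEnd ℂ) hc
    simp only [map_add, map_mul, map_one, hreal, map_ofNat] at this
    linear_combination (hc - this) / 2
  rw [hnormD, hnormπ, hreal, hmm] at hpar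
  have hA : δ * conj δ = Fintype.card F := by
    have hne1 : (Fintype.card F : ℂ) - 1 ≠ 0 := by
      rw [sub_ne_zero]; exact_mod_cast (Fintype.one_lt_card (α := F)).ne'
    refine mul_left_cancel₀ hne1 ?_
    field_simp at hpar
    have h := sub_u_eq hπ hπ1
    linear_combination hpar + (π 1 + (Fintype.card F : ℂ) + π (GL2.u 1)) * h +
      (Fintype.card F : ℂ) * (π (GL2.u 1) + 1 + 2 * m) * hc
  refine ⟨hA, ?_⟩
  have hconj : conj δ = (-1 : ℂ) ^ r * δ := by
    have hinv : ∀ f : SpecialLinearGroup (Fin 2) F → ℂ, IsCharacter _ f → conj (f (uS 1)) = f (uS (-1)) := fun f hf => by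
      rw [← char_inv_eq_conj hf]
      congr 1
      rw [inv_eq_iff_mul_eq_one]
      exact Subtype.ext (by ext i j; fin_cases i <;> fin_cases j <;> simp [Matrix.mul_apply, Fin.sum_univ_two])
    rw [map_sub, hinv χ hχ.isCharacter, hinv χ' hχ'.isCharacter, hq2 (-1) (neg_ne_zero.2 one_ne_zero)]
    congr 1
    simp only [quadC, MulChar.ringHomComp_apply, eq_intCast]
    rw [quadraticChar_neg_one (ringChar_ne_two hodd), ZMod.χ₄_eq_neg_one_pow (by omega), Int.cast_pow, Int.cast_neg, Int.cast_one,
      show Fintype.card F / 2 = r by omega]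
  rw [hconj] at hA
  have hp : (-1 : ℂ) ^ r * (-1) ^ r = 1 := by rw [← mul_pow]; norm_num
  rw [← hA]
  linear_combination (-δ ^ 2) * hp

end Cfsg.Lib.Classical.TwoDim
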