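import Cfsg.Agent.Lib.Classical.TwoDimGL
import Cfsg.Agent.Lib.Characters.Normal
import Cfsg.Agent.Lib.Characters.Correspondence
import Cfsg.Agent.Lib.Classical.SLGroup

/-! Restrictions of the irreducible characters of `GL₂` to `SL₂`. -/

set_option autoImplicit false
set_option linter.unusedSectionVars false

namespace Cfsg.Lib.Classical.TwoDim

open Matrix
open scoped ComplexConjugate
open Cfsg Cfsg.Lib.Characters Cfsg.Lib.Classical Cfsg.Lib.Classical.ProjLine

variable {F : Type*} [Field F]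

/-- Conjugation of `SL₂` by an element of `GL₂`. -/
noncomputable def conjS (x : GL (Fin 2) F) : SpecialLinearGroup (Fin 2) F →* SpecialLinearGroup (Fin 2) F where
  toFun A := ⟨((x * SpecialLinearGroup.toGL A * x⁻¹ : GL (Fin 2) F) : Matrix (Fin 2) (Fin 2) F), by
    rw [← GeneralLinearGroup.val_det_apply, map_mul, map_mul, map_inv, mul_inv_cancel_comm,
      GeneralLinearGroup.val_det_apply]
    exact A.2⟩
  map_one' := Subtype.ext (by simp)
  map_mul' A B := Subtype.ext (congrArg Units.val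
    (show x * SpecialLinearGroup.toGL (A * B) * x⁻¹ =
      (x * SpecialLinearGroup.toGL A * x⁻¹) * (x * SpecialLinearGroup.toGL B * x⁻¹) by rw [map_mul]; group))

lemma toGL_conjS (x : GL (Fin 2) F) (A : SpecialLinearGroup (Fin 2) F) :
    SpecialLinearGroup.toGL (conjS x A) = x * SpecialLinearGroup.toGL A * x⁻¹ := Units.ext rfl

lemma toGL_inj {A B : SpecialLinearGroup (Fin 2) F}
    (h : SpecialLinearGroup.toGL A = SpecialLinearGroup.toGL B) : A = B := Subtype.ext (congrArg Units.val h)

lemma conjS_toGL (y A : SpecialLinearGroup (Fin 2) F) : conjS (SpecialLinearGroup.toGL y) A = y * A * y⁻¹ :=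
  toGL_inj (by rw [toGL_conjS, map_mul, map_mul, map_inv])

lemma conjS_mul (x y : GL (Fin 2) F) (A : SpecialLinearGroup (Fin 2) F) :
    conjS (x * y) A = conjS x (conjS y A) := toGL_inj (by simp only [toGL_conjS]; group)

lemma conjS_of_commute {y : GL (Fin 2) F} {A : SpecialLinearGroup (Fin 2) F}
    (h : Commute y (SpecialLinearGroup.toGL A)) : conjS y A = A :=
  toGL_inj (by rw [toGL_conjS, h.eq, mul_inv_cancel_right])

lemma exists_toGL {g : GL (Fin 2) F} (h : GeneralLinearGroup.det g = 1) :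
    ∃ A : SpecialLinearGroup (Fin 2) F, SpecialLinearGroup.toGL A = g :=
  ⟨⟨g, by rw [← GeneralLinearGroup.val_det_apply, h, Units.val_one]⟩, Units.ext rfl⟩

/-- Conjugations by elements of equal determinant agree on class functions. -/
lemma conjS_congr {χ : SpecialLinearGroup (Fin 2) F → ℂ} (hχ : IsClassFunction _ χ) {x y : GL (Fin 2) F}
    (h : GeneralLinearGroup.det x = GeneralLinearGroup.det y) (A : SpecialLinearGroup (Fin 2) F) :
    χ (conjS x A) = χ (conjS y A) := by
  obtain ⟨z, hz⟩ := exists_toGL (g := x * y⁻¹) (by rw [map_mul, map_inv, h, mul_inv_cancel])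
  rw [show x = SpecialLinearGroup.toGL z * y by rw [hz, inv_mul_cancel_right], conjS_mul, conjS_toGL]
  exact hχ _ z

/-- The upper unipotent element of `SL₂`. -/
def uS (a : F) : SpecialLinearGroup (Fin 2) F := ⟨!![1, a; 0, 1], by simp [det_fin_two]⟩

@[simp] lemma coe_uS (a : F) : (uS a : Matrix (Fin 2) (Fin 2) F) = !![1, a; 0, 1] := rfl

lemma toGL_uS (a : F) : SpecialLinearGroup.toGL (uS a) = GL2.u a := Units.ext rfl

lemma uS_zero : uS (0 : F) = 1 := Subtype.ext (by ext i j; fin_cases i <;> fin_cases j <;> simp)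

/-- The one-parameter subgroup of `SL₂`. -/
def uSHom : Multiplicative F →* SpecialLinearGroup (Fin 2) F where
  toFun a := uS a.toAdd
  map_one' := uS_zero
  map_mul' a b := Subtype.ext (by
    ext i j; fin_cases i <;> fin_cases j <;> simp [Matrix.mul_apply, Fin.sum_univ_two, add_comm])

lemma conjS_dg_uS (a d : Fˣ) (x : F) : conjS (dg a d) (uS x) = uS ((a : F) * x / d) :=
  toGL_inj (by rw [toGL_conjS, toGL_uS, toGL_uS, dg_u, mul_inv_cancel_right])

lemma apply_uS_sq {χ : SpecialLinearGroup (Fin 2) F → ℂ} (hχ : IsClassFunction _ χ) (t : Fˣ) (x : F) :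
    χ (uS ((t : F) ^ 2 * x)) = χ (uS x) := by
  have h := conjS_congr hχ (x := dg t t⁻¹) (y := 1) (Units.ext (by simp [det_fin_two])) (uS x)
  rw [conjS_dg_uS, conjS_of_commute (Commute.one_left _)] at h
  convert h using 3
  simp; ring

/-- A commuting element of given determinant, for an elliptic element. -/
lemma exists_commute_det [Fintype F] (h2 : (2 : F) ≠ 0) {g : GL (Fin 2) F}
    (hg : Elliptic (g : Matrix (Fin 2) (Fin 2) F)) (e : Fˣ) :
    ∃ y : GL (Fin 2) F, Commute y g ∧ GeneralLinearGroup.det y = e := by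
  classical
  set M := (g : Matrix (Fin 2) (Fin 2) F) with hM
  set k : F := M.det - (M 0 0 + M 1 1) ^ 2 / 4 with hk
  have h4 : (4 : F) ≠ 0 := by
    rw [show (4 : F) = 2 * 2 by norm_num]; exact mul_ne_zero h2 h2
  have hk0 : k ≠ 0 := by
    intro h
    refine hg.no_root ((M 0 0 - M 1 1) / (2 * M 1 0)) ?_
    have hc := hg.lower_ne
    rw [hk, det_fin_two] at h
    field_simp at h ⊢
    linear_combination h
  obtain ⟨a, b, hab⟩ := FiniteField.exists_root_sum_quadratic (f := Polynomial.X ^ 2 - Polynomial.C (e : F))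
    (g := Polynomial.C k * Polynomial.X ^ 2) (by rw [Polynomial.degree_X_pow_sub_C (by norm_num)]; rfl)
    (by rw [Polynomial.degree_C_mul_X_pow _ hk0]; rfl)
    (FiniteField.odd_card_of_char_ne_two (fun h => by
      have := ringChar.Nat.cast_ringChar (R := F); rw [h] at this; exact h2 (by exact_mod_cast this)))
  simp only [Polynomial.eval_sub, Polynomial.eval_pow, Polynomial.eval_X, Polynomial.eval_C,
    Polynomial.eval_mul] at hab
  set Y : Matrix (Fin 2) (Fin 2) F := (a - b * (M 0 0 + M 1 1) / 2) • 1 + b • M with hY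
  have hdet : Y.det = e := by
    rw [hY, det_fin_two]
    simp [Matrix.one_apply]
    rw [hk, det_fin_two] at hab
    field_simp at hab ⊢
    linear_combination hab
  refine ⟨GeneralLinearGroup.mkOfDetNeZero Y (hdet ▸ e.ne_zero), Units.ext ?_, Units.ext ?_⟩
  · show Y * M = M * Y
    rw [hY]
    simp [add_mul, mul_add, Matrix.smul_mul, Matrix.mul_smul]
  · exact hdet

variable [Fintype F] [DecidableEq F]

/-- A character of `SL₂` read on the kernel of the determinant. -/
noncomputable def toN : SpecialLinearGroup (Fin 2) F ≃* (GeneralLinearGroup.det : GL (Fin 2) F →* Fˣ).ker :=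
  MulEquiv.ofBijective (SpecialLinearGroup.toGL.codRestrict _ fun A => Units.ext (by simp))
    ⟨fun _ _ h => toGL_inj (congrArg Subtype.val h), fun g => by
      obtain ⟨A, hA⟩ := exists_toGL g.2
      exact ⟨A, Subtype.ext hA⟩⟩

lemma coe_toN (A : SpecialLinearGroup (Fin 2) F) : (toN A : GL (Fin 2) F) = SpecialLinearGroup.toGL A := rfl

/-- An irreducible character of `SL₂` occurs in a restriction. -/
lemma exists_over {χ : SpecialLinearGroup (Fin 2) F → ℂ} (hχ : IsIrrCharacter _ χ) :
    ∃ π : GL (Fin 2) F → ℂ, IsIrrCharacter _ π ∧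
      classInner (fun A => π (SpecialLinearGroup.toGL A)) χ ≠ 0 := by
  classical
  set N := (GeneralLinearGroup.det : GL (Fin 2) F →* Fˣ).ker
  set θ : N → ℂ := fun n => χ (toN.symm n)
  have hθ : IsIrrCharacter N θ := isIrrCharacter_mulEquiv hχ toN.symm
  by_contra hcon
  have h0 : indFun N θ = 0 := by
    refine eq_zero_of_forall_classInner (isClassFunction_indFun _ _) fun π => ?_
    rw [classInner_indFun _ _ π.2.isClassFunction]
    by_contra hne
    refine hcon ⟨π, π.2, ?_⟩
    rw [← conj_classInner, map_ne_zero]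
    rw [← classInner_comp_equiv toN] at hne
    simpa [θ, coe_toN] using hne
  have h1 := indFun_one_apply N θ
  rw [h0] at h1
  simp only [Pi.zero_apply] at h1
  rcases mul_eq_zero.1 h1.symm with h | h
  · exact Subgroup.FiniteIndex.index_ne_zero (Nat.cast_eq_zero.1 h)
  · exact hθ.one_ne_zero h

lemma trivial_of_uS {χ : SpecialLinearGroup (Fin 2) F → ℂ} (hχ : IsIrrCharacter _ χ)
    (h : ∀ a, χ (uS a) = χ 1) : χ = fun _ => 1 := by
  have := charKer_normal hχ.isCharacter
  have hK : charKer hχ.isCharacter = ⊤ := by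
    refine SLGroup.eq_top_of_transvection _ fun i j hij c => ?_
    let w : SpecialLinearGroup (Fin 2) F := ⟨!![0, 1; -1, 0], by simp [det_fin_two]⟩
    fin_cases i <;> fin_cases j <;> simp only [Fin.zero_eta, Fin.mk_one] at hij ⊢
    · exact absurd rfl hij
    · have : SpecialLinearGroup.transvection hij c = uS c := Subtype.ext (by
        ext a b; fin_cases a <;> fin_cases b <;>
          simp [SpecialLinearGroup.transvection_coe, Matrix.single])
      rw [this]; exact (mem_charKer _).2 (h c)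
    · have : SpecialLinearGroup.transvection hij c = w * uS (-c) * w⁻¹ := by
        rw [eq_mul_inv_iff_mul_eq]
        refine Subtype.ext ?_
        show (1 + Matrix.single 1 0 c : Matrix (Fin 2) (Fin 2) F) * !![0, 1; -1, 0] = !![0, 1; -1, 0] * !![1, -c; 0, 1]
        ext a b; fin_cases a <;> fin_cases b <;>
          simp [Matrix.mul_apply, Fin.sum_univ_two, Matrix.single, Matrix.one_apply]
      rw [this]; exact (charKer_normal hχ.isCharacter).conj_mem _ ((mem_charKer _).2 (h _)) w
    · exact absurd rfl hij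
  have hall : χ = (χ 1) • (fun _ => (1 : ℂ)) := by
    funext g
    have : g ∈ charKer hχ.isCharacter := hK ▸ Subgroup.mem_top g
    simpa using (mem_charKer _).1 this
  by_contra hne
  have := classInner_irr_ne hχ (isIrrCharacter_one (G := SpecialLinearGroup (Fin 2) F)) hne
  rw [hall, classInner_smul_left, classInner_irr_self isIrrCharacter_one, mul_one] at this
  exact hχ.one_ne_zero this

/-- A nontrivial additive character, as a character of `Multiplicative F`. -/
lemma exists_phi : ∃ φ : Multiplicative F →* ℂˣ, φ (Multiplicative.ofAdd 1) ≠ 1 ∧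
    ∀ ψ : IrrCharacter (Multiplicative F), (∀ a, ψ.1 a = 1) ∨
    ∃ t : F, t ≠ 0 ∧ ∀ a : F, ψ.1 (Multiplicative.ofAdd a) = φ (Multiplicative.ofAdd (t * a)) := by
  classical
  obtain ⟨φ, hφ⟩ := CommGroup.exists_apply_ne_one_of_hasEnoughRootsOfUnity (Multiplicative F) ℂ
    (a := Multiplicative.ofAdd (1 : F)) (by simp)
  let m : F → IrrCharacter (Multiplicative F) := fun t =>
    ⟨fun a => (φ.comp (AddMonoidHom.toMultiplicative (AddMonoidHom.mulLeft t)) a : ℂ), isIrrCharacter_linear _⟩
  have hinj : Function.Injective m := by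
    intro s t hst
    by_contra hne
    apply hφ
    have h := congrFun (congrArg Subtype.val hst) (Multiplicative.ofAdd (s - t)⁻¹)
    simp only [m, MonoidHom.comp_apply] at h
    have h' : φ (Multiplicative.ofAdd (s * (s - t)⁻¹)) = φ (Multiplicative.ofAdd (t * (s - t)⁻¹)) := Units.ext h
    have h1 : (1 : F) + t * (s - t)⁻¹ = s * (s - t)⁻¹ := by
      have := sub_ne_zero.2 hne; field_simp; ring
    rw [← h1, ofAdd_add, map_mul] at h'
    exact mul_eq_right.1 h'
  have hsurj : Function.Surjective m := by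
    refine ((Fintype.bijective_iff_injective_and_card m).2 ⟨hinj, ?_⟩).2
    rw [← Nat.card_eq_fintype_card, ← Nat.card_eq_fintype_card, card_irr_eq_card_conjClasses,
      Nat.card_congr (ConjClasses.mkEquiv (α := Multiplicative F)).symm, Nat.card_congr Multiplicative.toAdd]
  refine ⟨φ, hφ, fun ψ => ?_⟩
  obtain ⟨t, rfl⟩ := hsurj ψ
  rcases eq_or_ne t 0 with rfl | ht
  · refine Or.inl fun a => ?_
    simp [m]
  · exact Or.inr ⟨t, ht, fun a => rfl⟩

/-- The multiplicity of a character of the upper unipotent group. -/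
noncomputable def wt (φ : Multiplicative F →* ℂˣ) (t : F) (f : SpecialLinearGroup (Fin 2) F → ℂ) : ℂ :=
  (Fintype.card F : ℂ)⁻¹ * ∑ a : F, f (uS a) * conj ((φ (Multiplicative.ofAdd (t * a)) : ℂˣ) : ℂ)

lemma classInner_uS (f : SpecialLinearGroup (Fin 2) F → ℂ) (g : Multiplicative F → ℂ) :
    classInner (fun a => f (uSHom a)) g =
      (Fintype.card F : ℂ)⁻¹ * ∑ a : F, f (uS a) * conj (g (Multiplicative.ofAdd a)) := by
  rw [classInner, Nat.card_congr Multiplicative.toAdd, Nat.card_eq_fintype_card,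
    ← Equiv.sum_comp Multiplicative.ofAdd]
  rfl

lemma wt_nat (φ : Multiplicative F →* ℂˣ) (t : F) {f : SpecialLinearGroup (Fin 2) F → ℂ}
    (hf : IsCharacter _ f) : ∃ k : ℕ, wt φ t f = k := by
  obtain ⟨k, hk⟩ := classInner_nat (isCharacter_comp hf uSHom)
    (isIrrCharacter_linear (φ.comp (AddMonoidHom.toMultiplicative (AddMonoidHom.mulLeft t)))).isCharacter
  exact ⟨k, by rw [← hk, classInner_uS]; rfl⟩

lemma wt_sq (φ : Multiplicative F →* ℂˣ) (t : F) (s : Fˣ) {f : SpecialLinearGroup (Fin 2) F → ℂ}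
    (hf : IsClassFunction _ f) : wt φ ((s : F) ^ 2 * t) f = wt φ t f := by
  unfold wt
  congr 1
  refine Fintype.sum_bijective (fun a => (s : F) ^ 2 * a) (mulLeft_bijective₀ _ (pow_ne_zero 2 s.ne_zero)) _ _ fun a => ?_
  rw [apply_uS_sq hf, mul_left_comm t, mul_assoc]

/-- The restriction of a non-linear irreducible character is irreducible or a sum of two conjugates. -/
theorem res_cases {π : GL (Fin 2) F → ℂ} (hπ : IsIrrCharacter _ π) (h1 : π 1 ≠ 1) :
    IsIrrCharacter _ (fun A : SpecialLinearGroup (Fin 2) F => π (SpecialLinearGroup.toGL A)) ∨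
    ∃ (x : GL (Fin 2) F) (θ θ' : SpecialLinearGroup (Fin 2) F → ℂ), IsIrrCharacter _ θ ∧ IsIrrCharacter _ θ' ∧
      θ ≠ θ' ∧ (∀ A, θ' A = θ (conjS x A)) ∧ ∀ A, π (SpecialLinearGroup.toGL A) = θ A + θ' A := by
  classical
  set N := (GeneralLinearGroup.det : GL (Fin 2) F →* Fˣ).ker
  obtain ⟨θN, hθN, hne⟩ := classInner_res_ne_zero (N := N) hπ
  obtain ⟨e, he⟩ := classInner_nat (isCharacter_restrict hπ.isCharacter N) hθN.isCharacter
  have hcl := clifford hπ hθN hne
  rw [he] at hcl
  set O := orbitFinset N θN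
  have hO : ∀ ψ ∈ O, IsIrrCharacter N ψ := by
    intro ψ hψ; obtain ⟨g, rfl⟩ := mem_orbitFinset.1 hψ; exact isIrrCharacter_conjFn hθN g
  set T : (N → ℂ) → SpecialLinearGroup (Fin 2) F → ℂ := fun ψ A => ψ (toN A)
  have hT : ∀ ψ ∈ O, IsIrrCharacter _ (T ψ) := fun ψ hψ => isIrrCharacter_mulEquiv (hO ψ hψ) toN
  have hres : ∀ A, π (SpecialLinearGroup.toGL A) = (e : ℂ) * ∑ ψ ∈ O, T ψ A := by
    intro A
    have := congrFun hcl (toN A)
    simpa [T, Finset.sum_apply, coe_toN] using this
  obtain ⟨φ, hφ1, hφ⟩ := exists_phi (F := F)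
  have hq0 : (Fintype.card F : ℂ) ≠ 0 := Nat.cast_ne_zero.2 Fintype.card_ne_zero
  have hphi : ∀ t : F, t ≠ 0 → (e : ℂ) * ∑ ψ ∈ O, wt φ t (T ψ) = 1 := by
    intro t ht
    have hsum : (e : ℂ) * ∑ ψ ∈ O, wt φ t (T ψ) = wt φ t fun A => π (SpecialLinearGroup.toGL A) := by
      simp only [wt, hres, Finset.mul_sum, Finset.sum_mul]
      rw [Finset.sum_comm]
      exact Finset.sum_congr rfl fun a _ => Finset.sum_congr rfl fun ψ _ => by ring
    rw [hsum, wt]
    simp only [toGL_uS]
    have h0 : ∑ a : F, conj ((φ (Multiplicative.ofAdd (t * a)) : ℂˣ) : ℂ) = 0 := by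
      rw [← map_sum, ← map_zero (starRingEnd ℂ)]
      congr 1
      refine (Fintype.sum_bijective _ (Equiv.mulLeft₀ t ht).bijective _
        (fun a => ((φ (Multiplicative.ofAdd a) : ℂˣ) : ℂ)) fun a => rfl).trans ?_
      rw [Equiv.sum_comp Multiplicative.ofAdd fun a => ((φ a : ℂˣ) : ℂ)]
      refine sum_hom_units_eq_zero ((Units.coeHom ℂ).comp φ) fun h => hφ1 (Units.ext ?_)
      simpa using DFunLike.congr_fun h (Multiplicative.ofAdd (1 : F))
    rw [← Finset.add_sum_erase _ _ (Finset.mem_univ (0 : F))] at h0 ⊢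
    rw [Finset.sum_congr rfl (fun a ha => by
      rw [apply_u hπ.isClassFunction (Finset.ne_of_mem_erase ha)]), ← Finset.mul_sum]
    simp only [mul_zero, ofAdd_zero, map_one, Units.val_one, u_zero, mul_one] at h0 ⊢
    rw [inv_mul_eq_one₀ hq0, ← sub_u_eq hπ h1]
    linear_combination (-(π (GL2.u 1))) * h0
  choose! k hk using fun ψ (hψ : ψ ∈ O) (t : F) => wt_nat φ t (hT ψ hψ).isCharacter
  have hphiN : ∀ t : F, t ≠ 0 → e * ∑ ψ ∈ O, k ψ t = 1 := by
    intro t ht
    apply Nat.cast_injective (R := ℂ)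
    rw [Nat.cast_mul, Nat.cast_sum, Nat.cast_one, ← hphi t ht]
    exact congrArg _ (Finset.sum_congr rfl fun ψ hψ => (hk ψ hψ t).symm)
  have he1 : e = 1 := Nat.eq_one_of_mul_eq_one_right (hphiN 1 one_ne_zero)
  subst he1
  simp only [one_mul, Nat.cast_one] at hphiN hres
  have hgen : ∀ ψ ∈ O, ∃ t : F, t ≠ 0 ∧ k ψ t ≠ 0 := by
    intro ψ hψ
    by_contra hcon
    simp only [not_exists, not_and, not_not] at hcon
    have hconst : (fun a => T ψ (uSHom a)) = (classInner (fun a => T ψ (uSHom a)) fun _ => 1) • fun _ => (1 : ℂ) := by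
      refine classFunction_ext (fun a b => by rw [mul_inv_cancel_comm]) (fun a b => rfl) fun ξ => ?_
      rw [classInner_smul_left]
      rcases hφ ξ with h | ⟨t, ht, h⟩
      · have hξ : ξ.1 = fun _ => 1 := funext h
        rw [hξ, classInner_irr_self isIrrCharacter_one, mul_one]
      · have hl : classInner (fun a => T ψ (uSHom a)) ξ.1 = 0 := by
          rw [classInner_uS]
          simp only [h]
          exact (hk ψ hψ t).trans (by rw [hcon t ht, Nat.cast_zero])
        rw [hl, classInner_irr_ne isIrrCharacter_one ξ.2 ?_, mul_zero]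
        intro e
        refine hφ1 (Units.ext ?_)
        have := h t⁻¹
        rw [mul_inv_cancel₀ ht, ← congrFun e] at this
        exact this.symm
    have htriv : T ψ = fun _ => 1 := by
      refine trivial_of_uS (hT ψ hψ) fun a => ?_
      have e1 := congrFun hconst (Multiplicative.ofAdd a)
      have e0 := congrFun hconst 1
      simp only [Pi.smul_apply, map_one] at e1 e0
      exact (e1.trans e0.symm).trans rfl
    have hψ1 : ψ = fun _ => 1 := by
      funext n
      have := congrFun htriv (toN.symm n)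
      simpa [T] using this
    obtain ⟨g, hg⟩ := mem_orbitFinset.1 hψ
    have hθ1 : θN = fun _ => 1 := by
      have : conjFn N (conjFn N θN g) g⁻¹ = θN := by rw [conjFn_conjFn]; simp
      rw [← hg, hψ1] at this
      rw [← this]; rfl
    have hO1 : O = {fun _ => 1} := by
      ext ξ
      simp only [O, mem_orbitFinset, hθ1, Finset.mem_singleton]
      exact ⟨fun ⟨g, hg⟩ => hg, fun h => ⟨1, h⟩⟩
    have a1 := hres 1
    have a2 := hres (uS 1)
    simp only [hO1, Finset.sum_singleton, T, map_one, toGL_uS] at a1 a2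
    have := sub_u_eq hπ h1
    rw [a1, a2, sub_self] at this
    exact hq0 this.symm
  -- a nonsquare representative
  obtain ⟨ε, hε0, hε⟩ : ∃ ε : F, ε ≠ 0 ∧ ∀ t : F, t ≠ 0 → ∃ s : Fˣ, t = (s : F) ^ 2 ∨ t = (s : F) ^ 2 * ε := by
    by_cases hc : ringChar F = 2
    · refine ⟨1, one_ne_zero, fun t ht => ?_⟩
      obtain ⟨s, hs⟩ := FiniteField.isSquare_of_char_two hc t
      exact ⟨Units.mk0 s (fun h => ht (by rw [hs, h, mul_zero])), Or.inl (hs.trans (sq s).symm)⟩
    · obtain ⟨ε, hε⟩ := FiniteField.exists_nonsquare hc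
      have hε0 : ε ≠ 0 := fun h => hε (h ▸ IsSquare.zero)
      refine ⟨ε, hε0, fun t ht => ?_⟩
      by_cases hsq : IsSquare t
      · obtain ⟨s, hs⟩ := hsq
        exact ⟨Units.mk0 s (fun h => ht (by rw [hs, h, mul_zero])), Or.inl (hs.trans (sq s).symm)⟩
      · have h3 : IsSquare (t / ε) := by
          rw [← quadraticChar_one_iff_isSquare (div_ne_zero ht hε0), div_eq_mul_inv, map_mul,
            quadraticChar_neg_one_iff_not_isSquare.2 hsq,
            quadraticChar_neg_one_iff_not_isSquare.2 (fun h => hε (isSquare_inv.1 h))]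
          norm_num
        obtain ⟨s, hs⟩ := h3
        have hts : t = s * s * ε := by rw [← hs, div_mul_cancel₀ t hε0]
        exact ⟨Units.mk0 s (fun h => ht (by rw [hts, h, mul_zero, zero_mul])),
          Or.inr (hts.trans (by rw [Units.val_mk0, sq]))⟩
  have hmem : ∀ ψ ∈ O, 0 < k ψ 1 + k ψ ε := by
    intro ψ hψ
    obtain ⟨t, ht, hkt⟩ := hgen ψ hψ
    obtain ⟨s, hs⟩ := hε t ht
    have : k ψ t = k ψ 1 ∨ k ψ t = k ψ ε := by
      rcases hs with rfl | rfl
      · left; apply Nat.cast_injective (R := ℂ)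
        rw [← hk ψ hψ, ← hk ψ hψ]
        simpa using wt_sq φ 1 s (hT ψ hψ).isClassFunction
      · right; apply Nat.cast_injective (R := ℂ)
        rw [← hk ψ hψ, ← hk ψ hψ]
        exact wt_sq φ ε s (hT ψ hψ).isClassFunction
    omega
  have hcard : O.card ≤ 2 := by
    have := Finset.sum_le_sum (s := O) (f := fun _ => 1) (g := fun ψ => k ψ 1 + k ψ ε) fun ψ hψ => hmem ψ hψ
    rw [Finset.sum_add_distrib, hphiN 1 one_ne_zero, hphiN ε hε0] at this
    simpa using this
  have hθmem : θN ∈ O := mem_orbitFinset.2 ⟨1, (conjFn_one _).symm⟩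
  by_cases hone : O.card = 1
  · left
    obtain ⟨ψ, hψ⟩ := Finset.card_eq_one.1 hone
    have : (fun A : SpecialLinearGroup (Fin 2) F => π (SpecialLinearGroup.toGL A)) = T ψ := by
      funext A; rw [hres A, hψ, Finset.sum_singleton]
    rw [this]; exact hT ψ (by rw [hψ]; exact Finset.mem_singleton_self ψ)
  · right
    have h2 : O.card = 2 := by have := Finset.card_pos.2 ⟨θN, hθmem⟩; omega
    have hce : (O.erase θN).card = 1 := by rw [Finset.card_erase_of_mem hθmem, h2]
    obtain ⟨ψ, hψ⟩ := Finset.card_eq_one.1 hce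
    have hψmem : ψ ∈ O.erase θN := by rw [hψ]; exact Finset.mem_singleton_self ψ
    obtain ⟨g, hg⟩ := mem_orbitFinset.1 (Finset.mem_of_mem_erase hψmem)
    refine ⟨g, T θN, T ψ, hT _ hθmem, hT _ (Finset.mem_of_mem_erase hψmem), ?_, ?_, ?_⟩
    · intro h
      refine Finset.ne_of_mem_erase hψmem ?_
      funext n
      have := congrFun h (toN.symm n)
      simpa [T] using this.symm
    · intro A
      simp only [T, hg, conjFn_apply]
      exact congrArg θN (Subtype.ext (show g * (toN A : GL (Fin 2) F) * g⁻¹ = (toN (conjS g A) : GL (Fin 2) F) by rw [coe_toN, coe_toN, toGL_conjS]))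
    · intro A
      rw [hres A, ← Finset.add_sum_erase _ _ hθmem, hψ, Finset.sum_singleton]

/-- Every nontrivial irreducible character of `SL₂` is a restriction or half of one. -/
theorem lift_cases {χ : SpecialLinearGroup (Fin 2) F → ℂ} (hχ : IsIrrCharacter _ χ) (h1 : χ 1 ≠ 1) :
    ∃ π : GL (Fin 2) F → ℂ, IsIrrCharacter _ π ∧ π 1 ≠ 1 ∧
      ((∀ A, π (SpecialLinearGroup.toGL A) = χ A) ∨
      ∃ (x : GL (Fin 2) F) (χ' : SpecialLinearGroup (Fin 2) F → ℂ), IsIrrCharacter _ χ' ∧ χ' ≠ χ ∧
        (∀ A, χ' A = χ (conjS x A)) ∧ ∀ A, π (SpecialLinearGroup.toGL A) = χ A + χ' A) := by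
  classical
  obtain ⟨π, hπ, hne⟩ := exists_over hχ
  have hπ1 : π 1 ≠ 1 := by
    intro h
    obtain ⟨lam, rfl⟩ := exists_hom_of_degree_one hπ.isCharacter h
    have hlin : IsIrrCharacter (SpecialLinearGroup (Fin 2) F) (fun A => (lam (SpecialLinearGroup.toGL A) : ℂ)) :=
      isIrrCharacter_linear (lam.comp SpecialLinearGroup.toGL)
    have he : χ = fun A => (lam (SpecialLinearGroup.toGL A) : ℂ) := by
      by_contra hc
      exact hne (classInner_irr_ne hlin hχ fun e => hc e.symm)
    exact h1 (by rw [he]; simp)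
  refine ⟨π, hπ, hπ1, ?_⟩
  rcases res_cases hπ hπ1 with hirr | ⟨x, θ, θ', hθ, hθ', hd, hx, hsum⟩
  · left
    intro A
    have : χ = fun A : SpecialLinearGroup (Fin 2) F => π (SpecialLinearGroup.toGL A) := by
      by_contra hc
      exact hne (classInner_irr_ne hirr hχ fun e => hc e.symm)
    rw [this]
  · right
    have hor : χ = θ ∨ χ = θ' := by
      by_contra hc
      simp only [not_or] at hc
      apply hne
      rw [show (fun A => π (SpecialLinearGroup.toGL A)) = θ + θ' from funext hsum, classInner_add_left,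
        classInner_irr_ne hθ hχ (Ne.symm hc.1), classInner_irr_ne hθ' hχ (Ne.symm hc.2), add_zero]
    rcases hor with rfl | rfl
    · exact ⟨x, θ', hθ', hd.symm, hx, hsum⟩
    · refine ⟨x⁻¹, θ, hθ, hd, fun A => ?_, fun A => by rw [hsum A, add_comm]⟩
      rw [hx, ← conjS_mul, mul_inv_cancel, conjS_of_commute (Commute.one_left _)]

lemma conjS_halves_nonsquare {χ χ' : SpecialLinearGroup (Fin 2) F → ℂ} (hχ : IsClassFunction _ χ)
    (hne : χ' ≠ χ) {x : GL (Fin 2) F} (hx : ∀ A, χ' A = χ (conjS x A)) :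
    ¬ IsSquare (((GeneralLinearGroup.det x : Fˣ)) : F) := by
  rintro ⟨s, hs⟩
  refine hne (funext fun A => ?_)
  have hs0 : s ≠ 0 := fun h => (GeneralLinearGroup.det x).ne_zero (by rw [hs, h, mul_zero])
  rw [hx, conjS_congr hχ (y := dg (Units.mk0 s hs0) (Units.mk0 s hs0)) (Units.ext (by
    simp only [GeneralLinearGroup.val_det_apply] at hs
    simp [det_fin_two, hs]))]
  rw [conjS_of_commute]
  exact Units.ext (by
    ext i j
    fin_cases i <;> fin_cases j <;> simp [Matrix.mul_apply, Fin.sum_univ_two, mul_comm])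

end Cfsg.Lib.Classical.TwoDim
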