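import Cfsg.Agent.Lib.Classical.TwoDimSL
import Cfsg.Agent.S2308

/-! Degrees, halves and unipotent values for the characters of `SL₂`. -/

set_option autoImplicit false
set_option linter.unusedSectionVars false

namespace Cfsg.Lib.Classical.TwoDim

open Matrix
open scoped ComplexConjugate
open Cfsg Cfsg.Lib.Characters Cfsg.Lib.Classical Cfsg.Lib.Classical.ProjLine

variable {F : Type*} [Field F] [Fintype F] [DecidableEq F]

lemma two_ne_zero_of_odd (hodd : Odd (Fintype.card F)) : (2 : F) ≠ 0 := by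
  intro h
  have hc : ringChar F = 2 := by
    rcases (Nat.dvd_prime Nat.prime_two).1 (ringChar.dvd (x := 2) (by exact_mod_cast h) : ringChar F ∣ 2) with h1 | h1
    · exact absurd h1 (CharP.ringChar_ne_one (R := F))
    · exact h1
  exact Nat.not_even_iff_odd.2 hodd (Nat.even_iff.2 (FiniteField.even_card_of_char_two hc))

lemma card_inj {n : ℕ} (h : (Fintype.card F : ℂ) = n) : Fintype.card F = n := Nat.cast_injective h

lemma res_indFun (α β : MulChar F ℂ) (A : SpecialLinearGroup (Fin 2) F) :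
    indFun (upperTriangularGL 2 F) (thGL α β) (SpecialLinearGroup.toGL A) =
      indFun ((upperTriangularGL 2 F).comap SpecialLinearGroup.toGL) (thSL (α * β⁻¹)) A := by
  classical
  have key : ∀ x y : F, x * y = 1 → α x * β y = (α * β⁻¹) x := fun x y h => by
    rw [MulChar.mul_apply, MulChar.inv_apply', eq_inv_of_mul_eq_one_right h]
  have hd : (A : Matrix (Fin 2) (Fin 2) F) 0 0 * (A : Matrix (Fin 2) (Fin 2) F) 1 1 -
      (A : Matrix (Fin 2) (Fin 2) F) 0 1 * (A : Matrix (Fin 2) (Fin 2) F) 1 0 = 1 := by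
    rw [← det_fin_two]; exact A.2
  rw [indFun_thGL]
  refine Eq.trans ?_ (indFun_eq (α * β⁻¹) A).symm
  simp only [show ((SpecialLinearGroup.toGL A : GL (Fin 2) F) : Matrix (Fin 2) (Fin 2) F) = (A : Matrix (Fin 2) (Fin 2) F) from rfl]
  congr 1
  · split
    case isTrue h => exact key _ _ (by rw [h, mul_zero, sub_zero] at hd; exact hd)
    case isFalse h => rfl
  · refine Finset.sum_congr rfl fun t _ => ?_
    split
    case isTrue h => exact key _ _ (by linear_combination hd - (A : Matrix (Fin 2) (Fin 2) F) 1 0 * h)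
    case isFalse h => rfl

/-- The halves agree on an element commuting with something of the same determinant. -/
lemma half_eq {χ χ' : SpecialLinearGroup (Fin 2) F → ℂ} (hχ : IsClassFunction _ χ) {x : GL (Fin 2) F}
    (hx : ∀ A, χ' A = χ (conjS x A)) {A : SpecialLinearGroup (Fin 2) F} {y : GL (Fin 2) F}
    (hy : Commute y (SpecialLinearGroup.toGL A)) (hd : GeneralLinearGroup.det y = GeneralLinearGroup.det x) :
    χ' A = χ A := by
  rw [hx, conjS_congr hχ hd.symm, conjS_of_commute hy]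

lemma half_eq_elliptic (h2 : (2 : F) ≠ 0) {χ χ' : SpecialLinearGroup (Fin 2) F → ℂ} (hχ : IsClassFunction _ χ)
    {x : GL (Fin 2) F} (hx : ∀ A, χ' A = χ (conjS x A)) {A : SpecialLinearGroup (Fin 2) F}
    (hA : Elliptic (A : Matrix (Fin 2) (Fin 2) F)) : χ' A = χ A := by
  obtain ⟨y, hy, hd⟩ := exists_commute_det h2 (g := SpecialLinearGroup.toGL A) hA (GeneralLinearGroup.det x)
  exact half_eq hχ hx hy hd

lemma half_eq_diag {χ χ' : SpecialLinearGroup (Fin 2) F → ℂ} (hχ : IsClassFunction _ χ)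
    {x : GL (Fin 2) F} (hx : ∀ A, χ' A = χ (conjS x A)) {A : SpecialLinearGroup (Fin 2) F}
    (h01 : (A : Matrix (Fin 2) (Fin 2) F) 0 1 = 0) (h10 : (A : Matrix (Fin 2) (Fin 2) F) 1 0 = 0) : χ' A = χ A := by
  refine half_eq hχ hx (y := dg (GeneralLinearGroup.det x) 1) (Units.ext ?_) (Units.ext (by simp [det_fin_two]))
  ext i j
  fin_cases i <;> fin_cases j <;> simp [Matrix.mul_apply, Fin.sum_univ_two, h01, h10, mul_comm]

lemma half_uS {χ χ' : SpecialLinearGroup (Fin 2) F → ℂ} (hχ : IsClassFunction _ χ)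
    {x : GL (Fin 2) F} (hx : ∀ A, χ' A = χ (conjS x A)) (a : F) :
    χ' (uS a) = χ (uS (((GeneralLinearGroup.det x : Fˣ) : F) * a)) := by
  rw [hx, conjS_congr hχ (y := dg (GeneralLinearGroup.det x) 1) (Units.ext (by simp [det_fin_two])), conjS_dg_uS]
  simp

lemma half_sum {χ χ' : SpecialLinearGroup (Fin 2) F → ℂ} (hχ : IsClassFunction _ χ)
    {x : GL (Fin 2) F} (hx : ∀ A, χ' A = χ (conjS x A)) : ∑ a : F, χ' (uS a) = ∑ a : F, χ (uS a) :=
  Fintype.sum_bijective _ (mulLeft_bijective₀ _ (GeneralLinearGroup.det x).ne_zero) _ _ fun a => half_uS hχ hx a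

lemma sum_res {π : GL (Fin 2) F → ℂ} (hπ : IsIrrCharacter _ π) (h1 : π 1 ≠ 1) :
    ∑ a : F, π (GL2.u a) = (Fintype.card F : ℂ) * (π (GL2.u 1) + 1) := by
  rw [sum_u hπ.isClassFunction]
  linear_combination sub_u_eq hπ h1

/-- Classification with degrees. -/
theorem sl_cases {χ : SpecialLinearGroup (Fin 2) F → ℂ} (hχ : IsIrrCharacter _ χ) (h1 : χ 1 ≠ 1) :
    ∃ π : GL (Fin 2) F → ℂ, IsIrrCharacter _ π ∧ π 1 ≠ 1 ∧
      (π 1 = (Fintype.card F : ℂ) - 1 ∨ π 1 = Fintype.card F ∨ π 1 = (Fintype.card F : ℂ) + 1) ∧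
      ((π 1 = χ 1 ∧ ∀ A, π (SpecialLinearGroup.toGL A) = χ A) ∨
      (π 1 = 2 * χ 1 ∧ ∃ (x : GL (Fin 2) F) (χ' : SpecialLinearGroup (Fin 2) F → ℂ), IsIrrCharacter _ χ' ∧ χ' ≠ χ ∧
        (∀ A, χ' A = χ (conjS x A)) ∧ ∀ A, π (SpecialLinearGroup.toGL A) = χ A + χ' A)) := by
  obtain ⟨π, hπ, hπ1, h⟩ := lift_cases hχ h1
  refine ⟨π, hπ, hπ1, (degree_cases hπ).resolve_left hπ1, ?_⟩
  rcases h with h | ⟨x, χ', hχ', hne, hx, hsum⟩
  · exact Or.inl ⟨by simpa using h 1, h⟩
  · refine Or.inr ⟨?_, x, χ', hχ', hne, hx, hsum⟩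
    have := hsum 1
    rw [map_one, hx, map_one] at this
    linear_combination this

/-- The unipotent sum of a half is half the unipotent sum. -/
lemma half_sum_res {π : GL (Fin 2) F → ℂ} (hπ : IsIrrCharacter _ π) (h1 : π 1 ≠ 1)
    {χ χ' : SpecialLinearGroup (Fin 2) F → ℂ} (hχ : IsClassFunction _ χ)
    {x : GL (Fin 2) F} (hx : ∀ A, χ' A = χ (conjS x A))
    (hsum : ∀ A, π (SpecialLinearGroup.toGL A) = χ A + χ' A) :
    2 * ∑ a : F, χ (uS a) = (Fintype.card F : ℂ) * (π (GL2.u 1) + 1) := by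
  rw [← sum_res hπ h1]
  simp only [← toGL_uS, hsum, Finset.sum_add_distrib, half_sum hχ hx]
  ring

end Cfsg.Lib.Classical.TwoDim
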