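import Cfsg.Agent.Lib.Classical.TwoDimTorusSylow
import Cfsg.Agent.Lib.Characters.Degree
import Cfsg.Agent.Lib.Characters.Induction

/-! The Sylow 2-subgroups of `SL₂` in odd characteristic, their centralizers and normalizers. -/

set_option autoImplicit false
set_option linter.unusedSectionVars false

namespace Cfsg.Lib.Classical.TwoDim

open Matrix

variable {F : Type*} [Field F]


lemma mem_center_of_pm {c : (SpecialLinearGroup (Fin 2) F)} (hc : c = 1 ∨ c = -1) : c ∈ Subgroup.center (SpecialLinearGroup (Fin 2) F) :=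
  Subgroup.mem_center_iff.2 fun g => by rcases hc with rfl | rfl <;> simp

lemma tr_zero_of_sq {A : (SpecialLinearGroup (Fin 2) F)} (hA : A * A = -1) : (A : Matrix (Fin 2) (Fin 2) F) 1 1 = -(A : Matrix (Fin 2) (Fin 2) F) 0 0 := by
  have hi : A⁻¹ = -A := inv_eq_of_mul_eq_one_right (by rw [mul_neg, hA, neg_neg])
  have e := congrArg (fun z : (SpecialLinearGroup (Fin 2) F) => (z : Matrix (Fin 2) (Fin 2) F) 0 0) hi
  simpa [adjugate_fin_two] using e

/-- An element normalizing the quaternion group on two anticommuting square roots of `-1`, of order dividing three modulo the centre. -/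
lemma exists_omega (h2 : (2 : F) ≠ 0) {X w : (SpecialLinearGroup (Fin 2) F)} (hX : X * X = -1) (hw : w * w = -1) (h : w * X = -(X * w)) :
    ∃ ω : (SpecialLinearGroup (Fin 2) F), ω * X * ω⁻¹ = X * w ∧ ω * w * ω⁻¹ = X ∧ ω * (X * w) * ω⁻¹ = w := by
  set x := (X : Matrix (Fin 2) (Fin 2) F) with hx
  set y := (w : Matrix (Fin 2) (Fin 2) F) with hy
  have exx : x * x = -1 := by simpa using congrArg Subtype.val hX
  have eyy : y * y = -1 := by simpa using congrArg Subtype.val hw
  have eyx : y * x = -(x * y) := by simpa using congrArg Subtype.val h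
  have exx' : ∀ z, x * (x * z) = -z := fun z => by rw [← mul_assoc, exx, neg_one_mul]
  have eyy' : ∀ z, y * (y * z) = -z := fun z => by rw [← mul_assoc, eyy, neg_one_mul]
  have eyx' : ∀ z, y * (x * z) = -(x * (y * z)) := fun z => by rw [← mul_assoc, eyx, neg_mul, mul_assoc]
  have hXw : (X * w) * (X * w) = -1 := Subtype.ext (by
    show (x * y) * (x * y) = -1
    simp [mul_assoc, eyx', eyy, exx])
  set M : Matrix (Fin 2) (Fin 2) F := (2 : F)⁻¹ • (-1 + x + y + x * y) with hM
  have hadj : adjugate M = (2 : F)⁻¹ • (-1 - x - y - x * y) := by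
    have t1 : x 1 1 = -x 0 0 := tr_zero_of_sq hX
    have t2 : y 1 1 = -y 0 0 := tr_zero_of_sq hw
    have t3 : (x * y) 1 1 = -(x * y) 0 0 := tr_zero_of_sq hXw
    rw [hM, adjugate_fin_two]
    generalize x * y = u at t3 ⊢
    ext i j
    fin_cases i <;> fin_cases j <;> simp [t1, t2, t3] <;> first | ring1 | exact Or.inl trivial | (ring_nf; simp) | skip
  have hprod : M * adjugate M = 1 := by
    rw [hadj, hM]
    simp only [smul_mul_assoc, mul_smul_comm, smul_smul, mul_add, add_mul, mul_sub, sub_mul, one_mul, mul_one,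
      mul_neg, neg_mul, mul_assoc, exx', eyy', eyx', exx, eyy, eyx, neg_neg, neg_one_mul]
    match_scalars <;> field_simp <;> ring
  have hdet : M.det = 1 := by
    have := congrFun (congrFun hprod 0) 0
    rw [mul_adjugate] at this
    simpa using this
  let ω : (SpecialLinearGroup (Fin 2) F) := ⟨M, hdet⟩
  refine ⟨ω, ?_, ?_, ?_⟩
  all_goals refine mul_inv_eq_iff_eq_mul.2 (Subtype.ext ?_)
  · show M * x = x * y * M
    simp only [hM, smul_mul_assoc, mul_smul_comm, mul_add, add_mul, one_mul, mul_one,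
      mul_neg, neg_mul, mul_assoc, exx', eyy', eyx', exx, eyy, eyx, neg_neg]
    module
  · show M * y = x * M
    simp only [hM, smul_mul_assoc, mul_smul_comm, mul_add, add_mul, one_mul, mul_one,
      mul_neg, neg_mul, mul_assoc, exx', eyy', eyx', exx, eyy, eyx, neg_neg]
    module
  · show M * (x * y) = y * M
    simp only [hM, smul_mul_assoc, mul_smul_comm, mul_add, add_mul, one_mul, mul_one,
      mul_neg, neg_mul, mul_assoc, exx', eyy', eyx', exx, eyy, eyx, neg_neg]
    module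

variable [Fintype F] [DecidableEq F]

namespace TorusData

variable {T : Subgroup (SpecialLinearGroup (Fin 2) F)} {W : Set (SpecialLinearGroup (Fin 2) F)}

lemma neg_mul_mem (D : TorusData T W) {w : (SpecialLinearGroup (Fin 2) F)} (hw : w ∈ W) : w⁻¹ ∈ W := by
  have : w⁻¹ = w * -1 := inv_eq_of_mul_eq_one_right (by rw [← mul_assoc, D.sqW w hw]; simp)
  rw [this]; exact D.mulT w hw _ D.neg_mem

lemma exists_orderOf (hcyc : IsCyclic T) {n : ℕ} (hn : n ∣ Nat.card T) : ∃ Y : (SpecialLinearGroup (Fin 2) F), Y ∈ T ∧ orderOf Y = n := by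
  obtain ⟨g, hg⟩ := IsCyclic.exists_ofOrder_eq_natCard (α := T)
  refine ⟨((g ^ (orderOf g / n) : T) : (SpecialLinearGroup (Fin 2) F)), SetLike.coe_mem _, ?_⟩
  rw [Subgroup.orderOf_coe, orderOf_pow_orderOf_div (orderOf_pos g).ne' (hg ▸ hn)]

/-- A Sylow 2-subgroup lies in the normalizer of the torus of order divisible by four. -/
theorem sylowTwo (D : TorusData T W) (h2 : (2 : F) ≠ 0) (hcyc : IsCyclic T) {k : ℕ}
    (hk : Nat.card (SpecialLinearGroup (Fin 2) F) = Nat.card T * (2 * k)) (hk2 : ¬ 2 ∣ k) (h4 : 4 ∣ Nat.card T) (P : Sylow 2 (SpecialLinearGroup (Fin 2) F)) :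
    Subgroup.centralizer ((P : Subgroup (SpecialLinearGroup (Fin 2) F)) : Set (SpecialLinearGroup (Fin 2) F)) = Subgroup.center (SpecialLinearGroup (Fin 2) F) ∧
    (8 ∣ Nat.card T → Subgroup.normalizer ((P : Subgroup (SpecialLinearGroup (Fin 2) F)) : Set (SpecialLinearGroup (Fin 2) F)) = (P : Subgroup (SpecialLinearGroup (Fin 2) F))) ∧
    (¬ 8 ∣ Nat.card T → Nat.card (Subgroup.normalizer ((P : Subgroup (SpecialLinearGroup (Fin 2) F)) : Set (SpecialLinearGroup (Fin 2) F))) = 3 * Nat.card P) ∧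
    (¬ 8 ∣ Nat.card T → (P : Subgroup (SpecialLinearGroup (Fin 2) F)) ≤ ⁅Subgroup.normalizer ((P : Subgroup (SpecialLinearGroup (Fin 2) F)) : Set (SpecialLinearGroup (Fin 2) F)),
      Subgroup.normalizer ((P : Subgroup (SpecialLinearGroup (Fin 2) F)) : Set (SpecialLinearGroup (Fin 2) F))⁆) ∧
    (4 * Nat.card (ConjClasses P) = Nat.card P + 12) ∧
    ∀ χ : P → ℂ, IsIrrCharacter P χ → ∀ d : ℕ, χ 1 = (d : ℂ) → d ∣ 2 := by
  classical
  have hneg := neg_one_ne' (F := F) h2
  obtain ⟨P₀⟩ : Nonempty (Sylow 2 T) := inferInstance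
  set C₀ : Subgroup (SpecialLinearGroup (Fin 2) F) := (P₀ : Subgroup T).map T.subtype with hC₀
  have hCT : C₀ ≤ T := Subgroup.map_subtype_le _
  have hCmem : ∀ t ∈ T, ∀ n : ℕ, t ^ 2 ^ n = 1 → t ∈ C₀ := by
    intro t ht n hn
    have hnormal : (P₀ : Subgroup T).Normal := ⟨fun a ha g => by
      rwa [show g * a * g⁻¹ = a from Subtype.ext (by simp [D.comm _ g.2 _ a.2])]⟩
    have hp : IsPGroup 2 (Subgroup.zpowers (⟨t, ht⟩ : T)) := by
      rintro ⟨x, m, rfl⟩
      refine ⟨n, Subtype.ext ?_⟩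
      show ((⟨t, ht⟩ : T) ^ m) ^ 2 ^ n = 1
      rw [← zpow_natCast, ← _root_.zpow_mul, mul_comm, _root_.zpow_mul, zpow_natCast, show (⟨t, ht⟩ : T) ^ 2 ^ n = 1 from Subtype.ext hn, _root_.one_zpow]
    obtain ⟨R, hR⟩ := hp.exists_le_sylow
    obtain rfl : R = P₀ := by
      have := Sylow.unique_of_normal P₀ hnormal
      exact Subsingleton.elim R P₀
    exact ⟨_, hR (Subgroup.mem_zpowers _), rfl⟩
  have hC2 : ∀ c ∈ C₀, ∃ n : ℕ, c ^ 2 ^ n = 1 := by
    intro c hc
    obtain ⟨n, hn⟩ := (P₀.isPGroup'.map T.subtype) ⟨c, hc⟩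
    exact ⟨n, congrArg Subtype.val hn⟩
  obtain ⟨X, hXT, hXo⟩ := exists_orderOf hcyc h4
  have hXX : X * X = -1 := by
    refine (eq_one_or_neg_one_of_inv_eq h2 (show X * X * (X * X) = 1 by
      rw [show X * X * (X * X) = X ^ 4 by rw [← sq, ← pow_two, ← pow_mul], ← hXo, pow_orderOf_eq_one])).resolve_left fun h => ?_
    have h' := orderOf_dvd_of_pow_eq_one (show X ^ 2 = 1 by rw [sq, h])
    rw [hXo] at h'; norm_num at h'
  have hX1 : X ≠ 1 := fun h => by rw [h, orderOf_one] at hXo; omega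
  have hXn : X ≠ -1 := fun h => hneg.symm (by rw [← hXX, h]; simp)
  have hXC : X ∈ C₀ := hCmem X hXT 2 (by rw [show 2 ^ 2 = orderOf X by rw [hXo]; rfl, pow_orderOf_eq_one])
  have hnC : (-1 : (SpecialLinearGroup (Fin 2) F)) ∈ C₀ := hXX ▸ C₀.mul_mem hXC hXC
  obtain ⟨w, hw⟩ := D.neW
  have hww := D.sqW w hw
  have hwT := D.disj w hw
  have hwi : w⁻¹ = w * -1 := inv_eq_of_mul_eq_one_right (by rw [← mul_assoc, hww]; simp)
  let Q : Subgroup (SpecialLinearGroup (Fin 2) F) :=
    { carrier := {g | g ∈ C₀ ∨ g * w ∈ C₀}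
      one_mem' := Or.inl C₀.one_mem
      mul_mem' := by
        rintro a b (ha | ha) (hb | hb)
        · exact Or.inl (C₀.mul_mem ha hb)
        · exact Or.inr (by rw [mul_assoc]; exact C₀.mul_mem ha hb)
        · refine Or.inr ?_
          rw [show a * b * w = (a * w) * (w⁻¹ * b * w⁻¹⁻¹) by group, D.inv_conj (D.neg_mul_mem hw) (hCT hb)]
          exact C₀.mul_mem ha (C₀.inv_mem hb)
        · refine Or.inl ?_
          rw [show a * b = (a * w) * ((w⁻¹ * (b * w) * w⁻¹⁻¹) * (w * w)⁻¹) by group,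
            D.inv_conj (D.neg_mul_mem hw) (hCT hb), hww]
          exact C₀.mul_mem ha (C₀.mul_mem (C₀.inv_mem hb) (C₀.inv_mem hnC))
      inv_mem' := by
        rintro a (ha | ha)
        · exact Or.inl (C₀.inv_mem ha)
        · refine Or.inr ?_
          rw [show a⁻¹ * w = (w * (a * w)⁻¹ * w⁻¹) * (w * w) by group, D.inv_conj hw (T.inv_mem (hCT ha)), hww, inv_inv]
          exact C₀.mul_mem ha hnC }
  have hQC : C₀ ≤ Q := fun g hg => Or.inl hg
  have hwQ : w ∈ Q := Or.inr (hww ▸ hnC)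
  have hQW : ∀ g ∈ Q, g ∉ C₀ → g ∈ W := by
    intro g hg hgC
    have hc := hg.resolve_left hgC
    rw [show g = w⁻¹ * (w * (g * w) * w⁻¹) by group, D.inv_conj hw (hCT hc)]
    exact D.mulT _ (D.neg_mul_mem hw) _ (T.inv_mem (hCT hc))
  have hQcard : Nat.card Q = 2 ^ (Nat.card (SpecialLinearGroup (Fin 2) F)).factorization 2 := by
    have hidx : (C₀.subgroupOf Q).index = 2 := by
      rw [Subgroup.index_eq_two_iff]
      refine ⟨⟨w, hwQ⟩, fun b => ?_⟩
      show Xor ((b : (SpecialLinearGroup (Fin 2) F)) * w ∈ C₀) ((b : (SpecialLinearGroup (Fin 2) F)) ∈ C₀)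
      rcases b.2 with hb | hb
      · exact Or.inr ⟨hb, fun h => hwT (hCT (by simpa using C₀.mul_mem (C₀.inv_mem hb) h))⟩
      · exact Or.inl ⟨hb, fun h => hwT (hCT (by simpa using C₀.mul_mem (C₀.inv_mem h) hb))⟩
    rw [← (C₀.subgroupOf Q).card_mul_index, hidx, Nat.card_congr (Subgroup.subgroupOfEquivOfLe hQC).toEquiv, hC₀,
      Subgroup.card_map_of_injective T.subtype_injective, Sylow.card_eq_multiplicity, hk,
      Nat.factorization_mul Nat.card_pos.ne' (fun h => hk2 (by omega)),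
      Nat.factorization_mul two_ne_zero (fun h => hk2 (by omega)), Finsupp.add_apply, Finsupp.add_apply,
      Nat.factorization_eq_zero_of_not_dvd hk2, Nat.prime_two.factorization_self, add_zero, pow_succ]
  have hnT : ∀ b : Q, (b : (SpecialLinearGroup (Fin 2) F)) ∉ C₀ → (b : (SpecialLinearGroup (Fin 2) F)) ∈ W := fun b hb => hQW _ b.2 hb
  set A : Subgroup Q := C₀.subgroupOf Q with hA
  have hAidx : A.index = 2 := by
    rw [Subgroup.index_eq_two_iff]
    refine ⟨⟨w, hwQ⟩, fun b => ?_⟩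
    show Xor ((b : (SpecialLinearGroup (Fin 2) F)) * w ∈ C₀) ((b : (SpecialLinearGroup (Fin 2) F)) ∈ C₀)
    rcases b.2 with hb | hb
    · exact Or.inr ⟨hb, fun h => hwT (hCT (by simpa using C₀.mul_mem (C₀.inv_mem hb) h))⟩
    · exact Or.inl ⟨hb, fun h => hwT (hCT (by simpa using C₀.mul_mem (C₀.inv_mem h) hb))⟩
  have hQcl : 4 * Nat.card (ConjClasses Q) = Nat.card Q + 12 := by
    obtain ⟨c1, c2⟩ := card_classes_of_inverting A ⟨-1, hQC hnC⟩
      (fun x hx y hy => Subtype.ext (D.comm _ (hCT hx) _ (hCT hy))) hnC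
      (fun h => hneg (congrArg Subtype.val h)) (Subtype.ext (by simp))
      (fun x _ hxx => (eq_one_or_neg_one_of_inv_eq h2 (congrArg Subtype.val hxx)).imp Subtype.ext Subtype.ext)
      (fun h hh => ⟨Subtype.ext (D.sqW _ (hnT h hh)), fun x hx => Subtype.ext (D.inv_conj (hnT h hh) (hCT hx))⟩)
      (fun h k hh hk => by
        show (h : (SpecialLinearGroup (Fin 2) F)) * k ∈ C₀
        by_contra hc
        have hhk : (h : (SpecialLinearGroup (Fin 2) F)) * k ∈ W := hnT (h * k) hc
        have i1 := D.inv_conj hhk hXT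
        rw [show (h : (SpecialLinearGroup (Fin 2) F)) * k * X * ((h : (SpecialLinearGroup (Fin 2) F)) * k)⁻¹ =
          h * (k * X * (k : (SpecialLinearGroup (Fin 2) F))⁻¹) * (h : (SpecialLinearGroup (Fin 2) F))⁻¹ by group,
          D.inv_conj (hnT k hk) hXT, D.inv_conj (hnT h hh) (T.inv_mem hXT), inv_inv] at i1
        rcases eq_one_or_neg_one_of_inv_eq h2 (show X * X = 1 by nth_rewrite 1 [i1]; exact inv_mul_cancel X) with h' | h'
        · exact hX1 h'
        · exact hXn h')
      (h₀ := ⟨w, hwQ⟩) (fun h => hwT (hCT h))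
    omega
  have hAn : A.Normal := Subgroup.normal_of_index_eq_two hAidx
  have hAc : IsMulCommutative A := ⟨⟨fun x y => Subtype.ext (Subtype.ext (D.comm _ (hCT x.2) _ (hCT y.2)))⟩⟩
  have hQdeg : ∀ χ : Q → ℂ, IsIrrCharacter Q χ → ∀ d : ℕ, χ 1 = (d : ℂ) → d ∣ 2 := fun χ hχ d hd =>
    hAidx ▸ Cfsg.Lib.Characters.degree_dvd_index_of_abelian hχ A hd
  obtain ⟨g₀, hg₀⟩ : ∃ g : (SpecialLinearGroup (Fin 2) F), g • Sylow.ofCard Q hQcard = P := MulAction.exists_smul_eq _ _ _
  have hP : (P : Subgroup (SpecialLinearGroup (Fin 2) F)) = Q.map (MulAut.conj g₀).toMonoidHom := by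
    rw [← hg₀, Sylow.coe_subgroup_smul]; rfl
  have hCent : Subgroup.centralizer (Q : Set (SpecialLinearGroup (Fin 2) F)) = Subgroup.center (SpecialLinearGroup (Fin 2) F) := by
    refine le_antisymm (fun c hc => ?_) (Subgroup.center_le_centralizer _)
    rw [Subgroup.mem_centralizer_iff] at hc
    have hcT : c ∈ T := by
      rw [← D.centralizer_elem h2 hXT hX1 hXn, Subgroup.mem_centralizer_singleton_iff]
      exact (hc X (hQC hXC)).symm
    have e := D.inv_conj hw hcT
    rw [hc w hwQ, mul_inv_cancel_right] at e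
    exact mem_center_of_pm (eq_one_or_neg_one_of_inv_eq h2 (by nth_rewrite 1 [e]; exact inv_mul_cancel c))
  set N := Subgroup.normalizer (Q : Set (SpecialLinearGroup (Fin 2) F)) with hN
  have hTW : ∀ g ∈ N, (g ∈ T ∨ g ∈ W) → g ∈ Q := by
    have key : ∀ t ∈ N, t ∈ T → t ∈ C₀ := by
      intro t htN ht
      have h := (Subgroup.mem_normalizer_iff.1 htN w).1 hwQ
      rw [show t * w * t⁻¹ = t * (w * t⁻¹ * w⁻¹) * w by group, D.inv_conj hw (T.inv_mem ht), inv_inv] at h
      have htt : t * t ∈ C₀ := by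
        rcases h with h | h
        · refine absurd (hCT h) fun hT => hwT ?_
          simpa [mul_assoc] using T.mul_mem (T.inv_mem (T.mul_mem ht ht)) hT
        · rw [mul_assoc, hww] at h
          simpa using C₀.mul_mem h hnC
      obtain ⟨n, hn⟩ := hC2 _ htt
      exact hCmem t ht (n + 1) (by rw [pow_succ', pow_mul, sq, hn])
    rintro g hg (hgT | hgW)
    · exact hQC (key g hg hgT)
    · have hgwT : g * w ∈ T := by
        rw [← D.centralizer_elem h2 hXT hX1 hXn, Subgroup.mem_centralizer_singleton_iff, ← mul_inv_eq_iff_eq_mul,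
          show g * w * X * (g * w)⁻¹ = g * (w * X * w⁻¹) * g⁻¹ by group, D.inv_conj hw hXT,
          D.inv_conj hgW (T.inv_mem hXT), inv_inv]
      exact Or.inr (key _ (N.mul_mem hg (Subgroup.le_normalizer hwQ)) hgwT)
  have hnorm8 : 8 ∣ Nat.card T → N = Q := by
    intro h8
    refine le_antisymm (fun g hg => hTW g hg ?_) Subgroup.le_normalizer
    obtain ⟨Y, hYT, hYo⟩ := exists_orderOf hcyc h8
    have hYC : Y ∈ C₀ := hCmem Y hYT 3 (by rw [show 2 ^ 3 = orderOf Y by rw [hYo]; rfl, pow_orderOf_eq_one])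
    have hYpm : Y ≠ 1 ∧ Y ≠ -1 := by
      have hd : ¬ orderOf Y ∣ 2 := by rw [hYo]; norm_num
      exact ⟨fun h => hd (by simp [h]), fun h => hd (orderOf_dvd_of_pow_eq_one (by rw [h]; simp [sq]))⟩
    refine D.norm g Y hYT hYpm.1 hYpm.2 (hCT ?_)
    by_contra hc
    have hW := hQW _ ((Subgroup.mem_normalizer_iff.1 hg Y).1 (hQC hYC)) hc
    have h : orderOf (g * Y * g⁻¹) ∣ 4 := orderOf_dvd_of_pow_eq_one (by
      rw [show (g * Y * g⁻¹) ^ 4 = (g * Y * g⁻¹ * (g * Y * g⁻¹)) ^ 2 by rw [← sq, ← pow_mul], D.sqW _ hW]; simp [sq])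
    rw [← MulAut.conj_apply, MulEquiv.orderOf_eq, hYo] at h
    norm_num at h
  have hnorm4 : ¬ 8 ∣ Nat.card T → Nat.card N = 3 * Nat.card Q ∧ Q ≤ ⁅N, N⁆ := by
    intro h8
    have hC4 : C₀ = Subgroup.zpowers X := by
      refine (Subgroup.eq_of_le_of_card_ge (Subgroup.zpowers_le.2 hXC) ?_).symm
      rw [Nat.card_zpowers, hXo, hC₀, Subgroup.card_map_of_injective T.subtype_injective, Sylow.card_eq_multiplicity]
      have h3 : (Nat.card T).factorization 2 < 3 := by
        by_contra h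
        exact h8 ((Nat.prime_two.pow_dvd_iff_le_factorization Nat.card_pos.ne').2 (show 3 ≤ _ by omega))
      calc 2 ^ (Nat.card T).factorization 2 ≤ 2 ^ 2 := Nat.pow_le_pow_right two_pos (by omega)
        _ = 4 := rfl
    have hC : ∀ c ∈ C₀, c = 1 ∨ c = -1 ∨ c = X ∨ c = X⁻¹ := by
      intro c hc
      rw [hC4, mem_zpowers_iff_mem_range_orderOf, hXo] at hc
      simp only [Finset.mem_image, Finset.mem_range] at hc
      obtain ⟨n, hn, rfl⟩ := hc
      interval_cases n
      · simp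
      · simp
      · exact Or.inr (Or.inl (by rw [sq, hXX]))
      · exact Or.inr (Or.inr (Or.inr (by rw [pow_succ, sq, hXX, neg_one_mul]; exact (inv_eq_of_mul_eq_one_right (by rw [mul_neg, hXX, neg_neg])).symm)))
    have hwX : w * X = -(X * w) := by
      have h := D.inv_conj hw hXT
      rw [show X⁻¹ = -X from inv_eq_of_mul_eq_one_right (by rw [mul_neg, hXX, neg_neg]), mul_inv_eq_iff_eq_mul, neg_mul] at h
      exact h
    obtain ⟨ω, o1, o2, o3⟩ := exists_omega h2 hXX hww hwX
    set cl : (SpecialLinearGroup (Fin 2) F) → Set (SpecialLinearGroup (Fin 2) F) := fun q => {q, q⁻¹} with hcl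
    have hω : ω ∈ N := by
      have hm : ∀ q ∈ Q, ω * q * ω⁻¹ ∈ Q := by
        have hXQ : ω * X * ω⁻¹ ∈ Q := o1 ▸ Q.mul_mem (hQC hXC) hwQ
        have hcQ : ∀ c ∈ C₀, ω * c * ω⁻¹ ∈ Q := by
          intro c hc
          rcases hC c hc with rfl | rfl | rfl | rfl
          · simp
          · simpa using hQC hnC
          · exact hXQ
          · simpa [mul_assoc] using Q.inv_mem hXQ
        rintro q (hq | hq)
        · exact hcQ q hq
        · rw [show ω * q * ω⁻¹ = (ω * (q * w) * ω⁻¹) * (ω * w * ω⁻¹)⁻¹ by group, o2]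
          exact Q.mul_mem (hcQ _ hq) (Q.inv_mem (hQC hXC))
      have hle : Q.map (MulAut.conj ω).toMonoidHom = Q := by
        refine Subgroup.eq_of_le_of_card_ge ?_ (Subgroup.card_map_of_injective (MulAut.conj ω).injective).ge
        rintro _ ⟨q, hq, rfl⟩
        exact hm q hq
      refine Subgroup.mem_normalizer_iff.2 fun q => ⟨hm q, fun hq => ?_⟩
      rw [← hle] at hq
      obtain ⟨y, hy, e⟩ := hq
      rw [show y = q from (MulAut.conj ω).injective (by simpa using e)] at hy
      exact hy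
    have hne : ω ∉ Q := fun hωQ => by
      have h : ω * X * ω⁻¹ ∈ T := by
        rcases (em (ω ∈ C₀)) with hc | hc
        · rw [D.comm ω (hCT hc) X hXT, mul_inv_cancel_right]; exact hXT
        · rw [D.inv_conj (hQW ω hωQ hc) hXT]; exact T.inv_mem hXT
      rw [o1] at h
      exact hwT (by simpa using T.mul_mem (T.inv_mem hXT) h)
    have hQN : Q ≤ ⁅N, N⁆ := by
      have hQle : Q ≤ N := Subgroup.le_normalizer
      have hwm : w⁻¹ ∈ ⁅N, N⁆ := by
        have h := Subgroup.commutator_mem_commutator hω (hQle (hQC hXC))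
        rw [commutatorElement_def, o1] at h
        have e : X * w * X⁻¹ = w⁻¹ := by
          calc X * w * X⁻¹ = X * (w * X⁻¹ * w⁻¹) * w := by group
            _ = X * X * w := by rw [D.inv_conj hw (T.inv_mem hXT), inv_inv]
            _ = w⁻¹ := by rw [hXX, hwi]; simp
        rwa [e] at h
      have hXm : X ∈ ⁅N, N⁆ := by
        have h := Subgroup.commutator_mem_commutator hω (hQle hwQ)
        rw [commutatorElement_def, o2] at h
        simpa using Subgroup.mul_mem _ h (Subgroup.inv_mem _ hwm)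
      have hC0m : C₀ ≤ ⁅N, N⁆ := hC4 ▸ Subgroup.zpowers_le.2 hXm
      rintro g (hg | hg)
      · exact hC0m hg
      · simpa using Subgroup.mul_mem _ (hC0m hg) hwm
    have himg : ∀ g ∈ N, cl (g * X * g⁻¹) ∈ ({cl X, cl w, cl (X * w)} : Set (Set (SpecialLinearGroup (Fin 2) F))) := by
      intro g hg
      have hqQ : g * X * g⁻¹ ∈ Q := (Subgroup.mem_normalizer_iff.1 hg X).1 (hQC hXC)
      set q := g * X * g⁻¹ with hq
      have hqq : q * q = -1 := by rw [hq, show g * X * g⁻¹ * (g * X * g⁻¹) = g * (X * X) * g⁻¹ by group, hXX]; simp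
      have hclinv : ∀ a : (SpecialLinearGroup (Fin 2) F), cl a⁻¹ = cl a := fun a => by simp [hcl, Set.pair_comm]
      simp only [Set.mem_insert_iff, Set.mem_singleton_iff]
      by_cases hqC : q ∈ C₀
      · rcases hC q hqC with h | h | h | h
        · exact absurd (by rw [← hqq, h, one_mul]) hneg
        · exact absurd (by rw [← hqq, h]; simp) hneg
        · exact Or.inl (by rw [h])
        · exact Or.inl (by rw [h, hclinv])
      · have hqw := hqQ.resolve_left hqC
        have hqe : q = (q * w) * w⁻¹ := by group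
        rcases hC _ hqw with h | h | h | h <;> rw [h] at hqe
        · exact Or.inr (Or.inl (by rw [hqe, one_mul, hclinv]))
        · exact Or.inr (Or.inl (by rw [hqe, hwi]; simp))
        · refine Or.inr (Or.inr ?_)
          rw [hqe, hwi, ← mul_assoc, show X * w * -1 = (X * w)⁻¹ from (inv_eq_of_mul_eq_one_right (by
            rw [← mul_assoc, show X * w * (X * w) = X * (w * X) * w by group, hwX]; simp [← mul_assoc, hXX, mul_assoc, hww])).symm, hclinv]
        · refine Or.inr (Or.inr ?_)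
          rw [hqe, show X⁻¹ = -X from inv_eq_of_mul_eq_one_right (by rw [mul_neg, hXX, neg_neg]), hwi]
          simp
    have hmul : ∀ g ∈ N, ∀ h ∈ N, cl (g * X * g⁻¹) = cl (h * X * h⁻¹) → h⁻¹ * g ∈ Q := by
      intro g hg h hh e
      refine hTW _ (N.mul_mem (N.inv_mem hh) hg) (D.norm _ X hXT hX1 hXn ?_)
      have hm : g * X * g⁻¹ ∈ cl (h * X * h⁻¹) := e ▸ Set.mem_insert _ _
      rcases hm with hm | hm
      · rw [show h⁻¹ * g * X * (h⁻¹ * g)⁻¹ = h⁻¹ * (g * X * g⁻¹) * h by group, hm]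
        simpa [mul_assoc] using hXT
      · rw [show h⁻¹ * g * X * (h⁻¹ * g)⁻¹ = h⁻¹ * (g * X * g⁻¹) * h by group, Set.mem_singleton_iff.1 hm]
        simpa [mul_assoc] using T.inv_mem hXT
    let f : N ⧸ Q.subgroupOf N → ({cl X, cl w, cl (X * w)} : Set (Set (SpecialLinearGroup (Fin 2) F))) := fun x =>
      ⟨cl ((x.out : (SpecialLinearGroup (Fin 2) F)) * X * (x.out : (SpecialLinearGroup (Fin 2) F))⁻¹), himg _ x.out.2⟩
    have hf : Function.Injective f := fun a b e => by
      rw [← QuotientGroup.out_eq' a, ← QuotientGroup.out_eq' b, QuotientGroup.eq]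
      show ((a.out : (SpecialLinearGroup (Fin 2) F)))⁻¹ * (b.out : (SpecialLinearGroup (Fin 2) F)) ∈ Q
      exact hmul _ b.out.2 _ a.out.2 (congrArg Subtype.val e).symm
    have h3 : (Q.subgroupOf N).index ≤ 3 := by
      rw [Subgroup.index_eq_card]
      refine (Nat.card_le_card_of_injective f hf).trans ?_
      rw [Nat.card_coe_set_eq]
      exact (Set.ncard_insert_le _ _).trans (Nat.add_le_add_right ((Set.ncard_insert_le _ _).trans (by rw [Set.ncard_singleton])) 1)
    have hodd : ¬ 2 ∣ (Q.subgroupOf N).index := fun h =>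
      (Sylow.ofCard Q hQcard).not_dvd_index (dvd_trans h (Subgroup.relIndex_dvd_index_of_le Subgroup.le_normalizer))
    have h1 : (Q.subgroupOf N).index ≠ 1 := fun h => hne (Subgroup.subgroupOf_eq_top.1 (Subgroup.index_eq_one.1 h) hω)
    have h0 : (Q.subgroupOf N).index ≠ 0 := Subgroup.index_ne_zero_of_finite
    refine ⟨?_, hQN⟩
    rw [← (Q.subgroupOf N).card_mul_index, Nat.card_congr (Subgroup.subgroupOfEquivOfLe Subgroup.le_normalizer).toEquiv,
      show (Q.subgroupOf N).index = 3 by omega, mul_comm]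
  let eQ : Q ≃* P := (Q.equivMapOfInjective (MulAut.conj g₀).toMonoidHom (MulAut.conj g₀).injective).trans
    (MulEquiv.subgroupCongr hP.symm)
  have hPcl : 4 * Nat.card (ConjClasses P) = Nat.card P + 12 := by
    rw [← Nat.card_congr eQ.toEquiv]
    refine Eq.trans (congrArg (4 * ·) (Nat.card_congr ?_).symm) hQcl
    exact Equiv.ofBijective (ConjClasses.map eQ.toMonoidHom)
      ⟨fun a b h => by
        obtain ⟨x, rfl⟩ := ConjClasses.mk_surjective a
        obtain ⟨y, rfl⟩ := ConjClasses.mk_surjective b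
        have h' : IsConj (eQ x) (eQ y) := ConjClasses.mk_eq_mk_iff_isConj.1 h
        exact ConjClasses.mk_eq_mk_iff_isConj.2 (by simpa using MonoidHom.map_isConj eQ.symm.toMonoidHom h'),
       ConjClasses.map_surjective eQ.surjective⟩
  have hPdeg : ∀ χ : P → ℂ, IsIrrCharacter P χ → ∀ d : ℕ, χ 1 = (d : ℂ) → d ∣ 2 := fun χ hχ d hd =>
    hQdeg _ (Cfsg.Lib.Characters.isIrrCharacter_mulEquiv hχ eQ) d (by rw [map_one]; exact hd)
  refine ⟨?_, fun h => ?_, fun h => ?_, fun h => ?_, hPcl, hPdeg⟩ <;> rw [hP]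
  · rw [centralizer_map, hCent]
    ext x
    constructor
    · rintro ⟨y, hy, rfl⟩
      simpa [Subgroup.mem_center_iff.1 hy g₀] using hy
    · intro hx
      exact ⟨x, hx, by simp [Subgroup.mem_center_iff.1 hx g₀]⟩
  · rw [← Subgroup.map_equiv_normalizer_eq Q (MulAut.conj g₀), ← hN, hnorm8 h]
  · have e : Nat.card (Q.map (MulAut.conj g₀).toMonoidHom) = Nat.card Q :=
      Subgroup.card_map_of_injective (f := (MulAut.conj g₀).toMonoidHom) (fun a b hab => (MulAut.conj g₀).injective hab)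
    rw [← Subgroup.map_equiv_normalizer_eq Q (MulAut.conj g₀), ← hN, Subgroup.card_map_of_injective (MulAut.conj g₀).injective, (hnorm4 h).1]
    exact congrArg (fun n => 3 * n) e.symm
  · rw [← Subgroup.map_equiv_normalizer_eq Q (MulAut.conj g₀), ← hN, ← Subgroup.map_commutator]
    exact Subgroup.map_mono (hnorm4 h).2

end TorusData

end Cfsg.Lib.Classical.TwoDim
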