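import Mathlib
import Cfsg.Agent.Lib.Classical.UnitaryCentre

/-!
The Sylow `2`-subgroup of the three-dimensional unitary groups in characteristic two, as an explicit group of
upper unitriangular matrices.
-/

set_option autoImplicit false

namespace Cfsg.Lib.Classical.UnitarySylowTwo

open Matrix

variable {F : Type*} [Field F]

/-- The unitriangular matrix with parameters `a`, `b`. -/
def unip (q : ℕ) (a b : F) : Matrix (Fin 3) (Fin 3) F := !![1, a ^ q, b; 0, 1, a; 0, 0, 1]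

theorem unip_mul (q : ℕ) (hσ : ∀ x y : F, (x + y) ^ q = x ^ q + y ^ q) (a b c d : F) :
    unip q a b * unip q c d = unip q (a + c) (b + d + a ^ q * c) := by
  rw [unip, unip, unip, hσ]
  ext i j
  fin_cases i <;> fin_cases j <;> simp [Matrix.mul_apply, Fin.sum_univ_three] <;> ring

theorem unip_inj {q : ℕ} {a b c d : F} (h : unip q a b = unip q c d) : a = c ∧ b = d := by
  exact ⟨congrFun (congrFun h 1) 2, congrFun (congrFun h 0) 2⟩

section

variable [Fintype F] {n : ℕ}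

theorem two_eq_zero (hF : Fintype.card F = 4 ^ n) (hn : 1 ≤ n) : (2 : F) = 0 := by
  have h : Fintype.card F % 2 = 0 := by
    rw [hF]
    obtain ⟨k, rfl⟩ : ∃ k, n = k + 1 := ⟨n - 1, by omega⟩
    omega
  have hc := FiniteField.even_card_iff_char_two.2 h
  haveI : CharP F 2 := hc ▸ ringChar.charP F
  exact_mod_cast CharP.cast_eq_zero F 2

theorem pow_add_q (hF : Fintype.card F = 4 ^ n) (hn : 1 ≤ n) (x y : F) :
    (x + y) ^ (2 ^ n) = x ^ (2 ^ n) + y ^ (2 ^ n) := by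
  haveI : CharP F 2 := CharTwo.of_one_ne_zero_of_two_eq_zero one_ne_zero (two_eq_zero hF hn)
  exact add_pow_char_pow x y 2 n

theorem pow_q_q (hF : Fintype.card F = 4 ^ n) (x : F) : (x ^ (2 ^ n)) ^ (2 ^ n) = x := by
  rw [← pow_mul, ← mul_pow, show (2 * 2 : ℕ) = 4 from rfl, ← hF, FiniteField.pow_card]

/-- The trace to the fixed field. -/
noncomputable def tr (hF : Fintype.card F = 4 ^ n) (hn : 1 ≤ n) : F →+ F :=
  AddMonoidHom.mk' (fun x => x + x ^ (2 ^ n)) fun x y => by rw [pow_add_q hF hn]; ring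

theorem mem_ker_tr (hF : Fintype.card F = 4 ^ n) (hn : 1 ≤ n) (x : F) :
    x ∈ (tr hF hn).ker ↔ x ^ (2 ^ n) = x := by
  rw [AddMonoidHom.mem_ker]
  show x + x ^ 2 ^ n = 0 ↔ _
  have h2 := two_eq_zero hF hn
  exact ⟨fun h => by linear_combination h - x * h2, fun h => by linear_combination h + x * h2⟩

theorem fixed_card (hF : Fintype.card F = 4 ^ n) (hn : 1 ≤ n) :
    Nat.card (tr hF hn).ker = 2 ^ n ∧
      ∀ y : F, y ^ (2 ^ n) = y → ∃ x, x + x ^ (2 ^ n) = y := by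
  classical
  have hq1 : 1 < 2 ^ n := Nat.one_lt_pow (by omega) (by norm_num)
  have hle : Nat.card (tr hF hn).ker ≤ 2 ^ n := by
    let f : Polynomial F := Polynomial.X ^ (2 ^ n) - Polynomial.X
    have hf : f.natDegree = 2 ^ n := FiniteField.X_pow_card_sub_X_natDegree_eq F hq1
    have hf0 : f ≠ 0 := FiniteField.X_pow_card_sub_X_ne_zero F hq1
    calc Nat.card (tr hF hn).ker ≤ Nat.card ↥(f.roots.toFinset) := by
          refine Nat.card_le_card_of_injective (fun x => ⟨x.1, ?_⟩) fun a b h => Subtype.ext (congrArg (fun z : ↥(f.roots.toFinset) => (z : F)) h)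
          rw [Multiset.mem_toFinset, Polynomial.mem_roots hf0]
          simp [f, (mem_ker_tr hF hn x.1).1 x.2]
      _ ≤ 2 ^ n := by
        rw [Nat.card_eq_fintype_card, Fintype.card_coe, ← hf]
        exact (Multiset.toFinset_card_le _).trans (Polynomial.card_roots' f)
  have hrk : (tr hF hn).range ≤ (tr hF hn).ker := by
    rintro _ ⟨x, rfl⟩
    rw [mem_ker_tr]
    show (x + x ^ 2 ^ n) ^ 2 ^ n = x + x ^ 2 ^ n
    rw [pow_add_q hF hn, pow_q_q hF, add_comm]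
  have hprod : Nat.card (tr hF hn).ker * Nat.card (tr hF hn).range = 2 ^ n * 2 ^ n := by
    rw [← AddSubgroup.index_ker, AddSubgroup.card_mul_index, Nat.card_eq_fintype_card, hF, ← mul_pow]
    norm_num
  have hrle : Nat.card (tr hF hn).range ≤ Nat.card (tr hF hn).ker := AddSubgroup.card_le_of_le hrk
  have heq : Nat.card (tr hF hn).ker = 2 ^ n :=
    le_antisymm hle (Nat.mul_self_le_mul_self_iff.1 (hprod.ge.trans (Nat.mul_le_mul_left _ hrle)))
  refine ⟨heq, fun y hy => ?_⟩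
  have hR : (tr hF hn).range = (tr hF hn).ker := AddSubgroup.eq_of_le_of_card_ge hrk (by
    rw [heq] at hprod ⊢
    exact (Nat.eq_of_mul_eq_mul_left (by positivity) hprod).ge)
  exact hR.ge ((mem_ker_tr hF hn y).2 hy)

/-- The group of unitriangular matrices preserving the antidiagonal form. -/
noncomputable def unipGroup (hF : Fintype.card F = 4 ^ n) (hn : 1 ≤ n) :
    Subgroup (Matrix.SpecialLinearGroup (Fin 3) F) where
  carrier := {A | ∃ a b : F, b + b ^ (2 ^ n) = a ^ (2 ^ n) * a ∧ A.1 = unip (2 ^ n) a b}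
  one_mem' := ⟨0, 0, by simp, by
    rw [Matrix.SpecialLinearGroup.coe_one]
    ext i j
    fin_cases i <;> fin_cases j <;> simp [unip]⟩
  mul_mem' := by
    rintro A B ⟨a, b, hab, hA⟩ ⟨c, d, hcd, hB⟩
    refine ⟨a + c, b + d + a ^ (2 ^ n) * c, ?_, ?_⟩
    · rw [pow_add_q hF hn, pow_add_q hF hn, pow_add_q hF hn a, mul_pow, pow_q_q hF]
      linear_combination hab + hcd
    · rw [Matrix.SpecialLinearGroup.coe_mul, hA, hB, unip_mul _ (pow_add_q hF hn)]
  inv_mem' := by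
    rintro A ⟨a, b, hab, hA⟩
    refine ⟨a, b ^ (2 ^ n), by rw [pow_q_q hF, add_comm]; exact hab, ?_⟩
    have h2 := two_eq_zero hF hn
    have hinv : A.1 * unip (2 ^ n) a (b ^ (2 ^ n)) = 1 := by
      rw [hA, unip_mul _ (pow_add_q hF hn), show a + a = 0 by linear_combination a * h2,
        show b + b ^ 2 ^ n + a ^ 2 ^ n * a = 0 by linear_combination hab + a ^ 2 ^ n * a * h2]
      ext i j
      fin_cases i <;> fin_cases j <;> simp [unip]
    calc (A⁻¹).1 = (A⁻¹).1 * (A.1 * unip (2 ^ n) a (b ^ (2 ^ n))) := by rw [hinv, Matrix.mul_one]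
      _ = (A⁻¹ * A).1 * unip (2 ^ n) a (b ^ (2 ^ n)) := by rw [Matrix.SpecialLinearGroup.coe_mul, Matrix.mul_assoc]
      _ = _ := by rw [inv_mul_cancel, Matrix.SpecialLinearGroup.coe_one, Matrix.one_mul]

theorem exists_mem (hF : Fintype.card F = 4 ^ n) (hn : 1 ≤ n) (a : F) :
    ∃ A ∈ unipGroup hF hn, ∃ b, A.1 = unip (2 ^ n) a b := by
  obtain ⟨b, hb⟩ := (fixed_card hF hn).2 (a ^ (2 ^ n) * a) (by rw [mul_pow, pow_q_q hF, mul_comm])
  exact ⟨⟨unip (2 ^ n) a b, by simp [unip, Matrix.det_fin_three]⟩, ⟨a, b, hb, rfl⟩, b, rfl⟩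

/-- The parameters of an element. -/
theorem card_unipGroup (hF : Fintype.card F = 4 ^ n) (hn : 1 ≤ n) :
    Nat.card (unipGroup hF hn) = 2 ^ (3 * n) := by
  classical
  choose b₀ hb₀ using fun a : F => (fixed_card hF hn).2 (a ^ (2 ^ n) * a) (by rw [mul_pow, pow_q_q hF, mul_comm])
  have h2 := two_eq_zero hF hn
  let Φ : F × (tr hF hn).ker → unipGroup hF hn := fun p =>
    ⟨⟨unip (2 ^ n) p.1 (b₀ p.1 + p.2.1), by simp [unip, Matrix.det_fin_three]⟩, p.1, b₀ p.1 + p.2.1, by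
      have h := (mem_ker_tr hF hn p.2.1).1 p.2.2
      rw [pow_add_q hF hn, h]
      linear_combination hb₀ p.1 + p.2.1 * h2, rfl⟩
  have hΦ : Function.Bijective Φ := by
    refine ⟨fun p p' h => ?_, ?_⟩
    · have h' := unip_inj (congrArg (fun z : unipGroup hF hn => z.1.1) h)
      have h1 := h'.1
      have h3 := h'.2
      rw [h1, add_right_inj] at h3
      exact Prod.ext h1 (Subtype.ext h3)
    · rintro ⟨A, a, b, hab, hA⟩
      refine ⟨(a, ⟨b + b₀ a, (mem_ker_tr hF hn _).2 ?_⟩), Subtype.ext (Subtype.ext ?_)⟩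
      · rw [pow_add_q hF hn]
        linear_combination hab + hb₀ a - (b + b₀ a - a ^ 2 ^ n * a) * h2
      · show unip (2 ^ n) a (b₀ a + (b + b₀ a)) = A.1
        rw [hA, show b₀ a + (b + b₀ a) = b by linear_combination b₀ a * h2]
  rw [← Nat.card_congr (Equiv.ofBijective Φ hΦ), Nat.card_prod, (fixed_card hF hn).1, Nat.card_eq_fintype_card,
    hF, show 3 * n = 2 * n + n by ring, pow_add, pow_mul]
  norm_num

/-- The antidiagonal form. -/
def antiForm (q : ℕ) (u v : Fin 3 → F) : F := u 0 * v 2 ^ q + u 1 * v 1 ^ q + u 2 * v 0 ^ q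

theorem antiForm_unip (hF : Fintype.card F = 4 ^ n) (hn : 1 ≤ n) {a b : F}
    (hab : b + b ^ (2 ^ n) = a ^ (2 ^ n) * a) (u v : Fin 3 → F) :
    antiForm (2 ^ n) (unip (2 ^ n) a b *ᵥ u) (unip (2 ^ n) a b *ᵥ v) = antiForm (2 ^ n) u v := by
  have hu : unip (2 ^ n) a b *ᵥ u = ![u 0 + a ^ 2 ^ n * u 1 + b * u 2, u 1 + a * u 2, u 2] := by
    funext i; fin_cases i <;> simp [unip, Matrix.mulVec, dotProduct, Fin.sum_univ_three]
  have hv : unip (2 ^ n) a b *ᵥ v = ![v 0 + a ^ 2 ^ n * v 1 + b * v 2, v 1 + a * v 2, v 2] := by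
    funext i; fin_cases i <;> simp [unip, Matrix.mulVec, dotProduct, Fin.sum_univ_three]
  rw [hu, hv]
  simp only [antiForm, Matrix.cons_val_zero, Matrix.cons_val_one, Matrix.cons_val]
  simp only [pow_add_q hF hn, mul_pow, pow_q_q hF]
  have h2 := two_eq_zero hF hn
  linear_combination (u 2 * v 2 ^ 2 ^ n) * hab + (u 2 * v 2 ^ 2 ^ n * a ^ 2 ^ n * a + u 1 * v 2 ^ 2 ^ n * a ^ 2 ^ n
    + u 2 * v 1 ^ 2 ^ n * a) * h2

theorem hermForm_base (hF : Fintype.card F = 4 ^ n) (hn : 1 ≤ n) {a : F} (ha : a + a ^ (2 ^ n) = 1)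
    (u v : Fin 3 → F) :
    Cfsg.hermForm 3 F (2 ^ n) (!![1, 0, a; 1, 0, a + 1; 0, 1, 0] *ᵥ u) (!![1, 0, a; 1, 0, a + 1; 0, 1, 0] *ᵥ v) =
      antiForm (2 ^ n) u v := by
  have hu : !![1, 0, a; 1, 0, a + 1; 0, 1, 0] *ᵥ u = ![u 0 + a * u 2, u 0 + (a + 1) * u 2, u 1] := by
    funext i; fin_cases i <;> simp [Matrix.mulVec, dotProduct, Fin.sum_univ_three]
  have hv : !![1, 0, a; 1, 0, a + 1; 0, 1, 0] *ᵥ v = ![v 0 + a * v 2, v 0 + (a + 1) * v 2, v 1] := by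
    funext i; fin_cases i <;> simp [Matrix.mulVec, dotProduct, Fin.sum_univ_three]
  rw [hu, hv]
  simp only [Cfsg.hermForm, antiForm, Fin.sum_univ_three, Matrix.cons_val_zero, Matrix.cons_val_one, Matrix.cons_val]
  rw [pow_add_q hF hn, pow_add_q hF hn, mul_pow, mul_pow, pow_add_q hF hn a, one_pow]
  have h2 := two_eq_zero hF hn
  linear_combination (u 2 * v 2 ^ 2 ^ n) * ha + (u 0 * v 0 ^ 2 ^ n + u 0 * a ^ 2 ^ n * v 2 ^ 2 ^ n +
    u 2 * a * v 0 ^ 2 ^ n + u 2 * v 2 ^ 2 ^ n * a * a ^ 2 ^ n + u 2 * v 2 ^ 2 ^ n) * h2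

/-- A Sylow `2`-subgroup of `SU 3` is isomorphic to the unitriangular group. -/
theorem exists_equiv_SU (hF : Fintype.card F = 4 ^ n) (hn : 1 ≤ n) (P : Sylow 2 ↥(Cfsg.SU 3 F (2 ^ n))) :
    Nonempty (↥(P : Subgroup ↥(Cfsg.SU 3 F (2 ^ n))) ≃* unipGroup hF hn) := by
  classical
  haveI : Fact (Nat.Prime 2) := ⟨Nat.prime_two⟩
  obtain ⟨a, ha⟩ := (fixed_card hF hn).2 1 (one_pow _)
  have h2 := two_eq_zero hF hn
  let B : Matrix.SpecialLinearGroup (Fin 3) F := ⟨!![1, 0, a; 1, 0, a + 1; 0, 1, 0], by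
    simp [Matrix.det_fin_three]
    linear_combination -h2⟩
  set S₀ := (unipGroup hF hn).map (MulAut.conj B).toMonoidHom with hS₀
  have hle : S₀ ≤ Cfsg.SU 3 F (2 ^ n) := by
    rintro _ ⟨A, ⟨x, y, hxy, hA⟩, rfl⟩
    intro u v
    have hB : ∀ w, B.1 *ᵥ ((B⁻¹).1 *ᵥ w) = w := fun w => by
      rw [Matrix.mulVec_mulVec, ← Matrix.SpecialLinearGroup.coe_mul, mul_inv_cancel,
        Matrix.SpecialLinearGroup.coe_one, Matrix.one_mulVec]
    show Cfsg.hermForm 3 F (2 ^ n) ((B.1 * A.1 * (B⁻¹).1) *ᵥ u) ((B.1 * A.1 * (B⁻¹).1) *ᵥ v) = Cfsg.hermForm 3 F (2 ^ n) u v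
    rw [← Matrix.mulVec_mulVec, ← Matrix.mulVec_mulVec, ← Matrix.mulVec_mulVec, ← Matrix.mulVec_mulVec, hA]
    conv_rhs => rw [← hB u, ← hB v]
    show Cfsg.hermForm 3 F (2 ^ n) (!![1, 0, a; 1, 0, a + 1; 0, 1, 0] *ᵥ _) (!![1, 0, a; 1, 0, a + 1; 0, 1, 0] *ᵥ _) =
      Cfsg.hermForm 3 F (2 ^ n) (!![1, 0, a; 1, 0, a + 1; 0, 1, 0] *ᵥ _) (!![1, 0, a; 1, 0, a + 1; 0, 1, 0] *ᵥ _)
    rw [hermForm_base hF hn ha, hermForm_base hF hn ha, antiForm_unip hF hn hxy]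
  have hcard : Nat.card (S₀.subgroupOf (Cfsg.SU 3 F (2 ^ n))) = 2 ^ (3 * n) := by
    rw [Nat.card_congr (Subgroup.subgroupOfEquivOfLe hle).toEquiv, hS₀,
      Subgroup.card_map_of_injective (MulAut.conj B).injective, card_unipGroup]
  have hF' : Fintype.card F = (2 ^ n) ^ 2 := by rw [hF, ← pow_mul, mul_comm, pow_mul]; norm_num
  have hSU : ∃ m, Odd m ∧ Nat.card (Cfsg.SU 3 F (2 ^ n)) = 2 ^ (3 * n) * m := by
    have h := Cfsg.Lib.Classical.UnitaryCentre.card_SU hF' (n := 3) (by norm_num)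
    rw [Cfsg.Lib.Classical.UnitaryOrders.card_GU hF' 3] at h
    simp only [Finset.prod_range_succ, Finset.prod_range_zero, one_mul, show Even 0 ↔ True by simp,
      show ¬ Even 1 by decide, show Even 2 by decide, if_true, if_false, show (3 * (3 - 1) / 2 : ℕ) = 3 from rfl,
      zero_add, pow_one] at h
    refine ⟨((2 ^ n) ^ 2 - 1) * ((2 ^ n) ^ 3 + 1), ?_, Nat.eq_of_mul_eq_mul_left (Nat.succ_pos (2 ^ n)) ?_⟩
    · refine Odd.mul ?_ ?_
      · exact Nat.Even.sub_odd (Nat.one_le_pow _ _ (by positivity)) ((Nat.even_pow.2 ⟨even_two, by omega⟩).pow_of_ne_zero two_ne_zero) odd_one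
      · exact ((Nat.even_pow.2 ⟨even_two, by omega⟩).pow_of_ne_zero three_ne_zero).add_odd odd_one
    · rw [pow_mul' 2 3 n]
      refine h.trans ?_
      simp only [Nat.succ_eq_add_one]
      ring
  have hS₀p : IsPGroup 2 (S₀.subgroupOf (Cfsg.SU 3 F (2 ^ n))) := IsPGroup.of_card hcard
  have hidx : ¬ 2 ∣ (S₀.subgroupOf (Cfsg.SU 3 F (2 ^ n))).index := by
    obtain ⟨m, hm, hmc⟩ := hSU
    have h := (S₀.subgroupOf (Cfsg.SU 3 F (2 ^ n))).card_mul_index
    rw [hcard, hmc] at h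
    rw [Nat.eq_of_mul_eq_mul_left (by positivity) h]
    exact fun hd => (Nat.not_even_iff_odd.2 hm) (even_iff_two_dvd.2 hd)
  exact ⟨((Sylow.equiv P (hS₀p.toSylow hidx)).trans (Subgroup.subgroupOfEquivOfLe hle)).trans
    ((MulAut.conj B).subgroupMap (unipGroup hF hn)).symm⟩

/-- A Sylow `2`-subgroup of `PSU 3` is isomorphic to the unitriangular group. -/
theorem exists_equiv_PSU (hF : Fintype.card F = 4 ^ n) (hn : 1 ≤ n) (P : Sylow 2 (Cfsg.PSU 3 F (2 ^ n))) :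
    Nonempty (↥(P : Subgroup (Cfsg.PSU 3 F (2 ^ n))) ≃* unipGroup hF hn) := by
  classical
  haveI : Fact (Nat.Prime 2) := ⟨Nat.prime_two⟩
  obtain ⟨S⟩ : Nonempty (Sylow 2 ↥(Cfsg.SU 3 F (2 ^ n))) := inferInstance
  obtain ⟨e⟩ := exists_equiv_SU hF hn S
  set π := QuotientGroup.mk' (Subgroup.center (Cfsg.SU 3 F (2 ^ n)))
  let T := S.mapSurjective (f := π) (QuotientGroup.mk'_surjective _)
  have hF' : Fintype.card F = (2 ^ n) ^ 2 := by rw [hF, ← pow_mul, mul_comm, pow_mul]; norm_num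
  have hcop : (S : Subgroup ↥(Cfsg.SU 3 F (2 ^ n))) ⊓ π.ker = ⊥ := by
    refine Subgroup.inf_eq_bot_of_coprime ?_
    rw [QuotientGroup.ker_mk', Cfsg.Lib.Classical.UnitaryCentre.card_center hF' (by norm_num)]
    obtain ⟨k, hk⟩ := IsPGroup.iff_card.1 S.isPGroup'
    rw [hk]
    refine Nat.Coprime.pow_left _ (Nat.coprime_two_left.2 ?_)
    exact ((by decide : Odd 3).of_dvd_nat (Nat.gcd_dvd_left 3 _))
  have hinj : Function.Injective (π.subgroupMap (S : Subgroup ↥(Cfsg.SU 3 F (2 ^ n)))) := by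
    rw [← MonoidHom.ker_eq_bot_iff, eq_bot_iff]
    intro x hx
    rw [Subgroup.mem_bot]
    have hx' : (x : ↥(Cfsg.SU 3 F (2 ^ n))) ∈ (S : Subgroup ↥(Cfsg.SU 3 F (2 ^ n))) ⊓ π.ker :=
      ⟨x.2, congrArg Subtype.val (MonoidHom.mem_ker.1 hx)⟩
    rw [hcop, Subgroup.mem_bot] at hx'
    exact Subtype.ext hx'
  let e' := MulEquiv.ofBijective _ ⟨hinj, π.subgroupMap_surjective (S : Subgroup ↥(Cfsg.SU 3 F (2 ^ n)))⟩
  exact ⟨((Sylow.equiv P T).trans (MulEquiv.subgroupCongr (Sylow.coe_mapSurjective _ _))).trans (e'.symm.trans e)⟩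

end

end Cfsg.Lib.Classical.UnitarySylowTwo
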