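import Mathlib
import Cfsg.Agent.Lib.Classical.UnitarySylowTwo

/-!
Centre, involutions and derived group of the unitriangular unitary group in characteristic two.
-/

set_option autoImplicit false

namespace Cfsg.Lib.Classical.UnitarySylowTwo

open Matrix
open scoped commutatorElement

variable {F : Type*} [Field F] [Fintype F] {n : ℕ}

/-- The first parameter. -/
def parA {hF : Fintype.card F = 4 ^ n} {hn : 1 ≤ n} (x : unipGroup hF hn) : F := x.1.1 1 2

/-- The second parameter. -/
def parB {hF : Fintype.card F = 4 ^ n} {hn : 1 ≤ n} (x : unipGroup hF hn) : F := x.1.1 0 2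

variable {hF : Fintype.card F = 4 ^ n} {hn : 1 ≤ n}

theorem par_spec (x : unipGroup hF hn) : x.1.1 = unip (2 ^ n) (parA x) (parB x) ∧
    parB x + parB x ^ (2 ^ n) = parA x ^ (2 ^ n) * parA x := by
  obtain ⟨a, b, hab, hA⟩ := x.2
  have ha : parA x = a := by rw [parA, hA]; rfl
  have hb : parB x = b := by rw [parB, hA]; rfl
  rw [ha, hb]
  exact ⟨hA, hab⟩

theorem par_ext {x y : unipGroup hF hn} (h1 : parA x = parA y) (h2 : parB x = parB y) : x = y :=
  Subtype.ext (Subtype.ext (by rw [(par_spec x).1, (par_spec y).1, h1, h2]))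

theorem par_mul (x y : unipGroup hF hn) : parA (x * y) = parA x + parA y ∧
    parB (x * y) = parB x + parB y + parA x ^ (2 ^ n) * parA y := by
  have h : (x * y).1.1 = unip (2 ^ n) (parA x + parA y) (parB x + parB y + parA x ^ (2 ^ n) * parA y) := by
    rw [Subgroup.coe_mul, Matrix.SpecialLinearGroup.coe_mul, (par_spec x).1, (par_spec y).1,
      unip_mul _ (pow_add_q hF hn)]
  exact ⟨congrFun (congrFun h 1) 2, congrFun (congrFun h 0) 2⟩

theorem par_one : parA (1 : unipGroup hF hn) = 0 ∧ parB (1 : unipGroup hF hn) = 0 := by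
  constructor <;> simp [parA, parB]

theorem exists_parA (a : F) : ∃ x : unipGroup hF hn, parA x = a := by
  obtain ⟨A, hA, b, hb⟩ := exists_mem hF hn a
  exact ⟨⟨A, hA⟩, by rw [parA, hb]; rfl⟩

theorem exists_central (t : F) (ht : t ^ (2 ^ n) = t) : ∃ x : unipGroup hF hn, parA x = 0 ∧ parB x = t := by
  have h2 := two_eq_zero hF hn
  refine ⟨⟨⟨unip (2 ^ n) 0 t, by simp [unip, Matrix.det_fin_three]⟩, 0, t, ?_, rfl⟩, rfl, rfl⟩
  rw [ht, mul_zero]
  linear_combination t * h2

/-- The centre consists of the elements with vanishing first parameter. -/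
theorem mem_center_iff (x : unipGroup hF hn) : x ∈ Subgroup.center (unipGroup hF hn) ↔ parA x = 0 := by
  have h2 := two_eq_zero hF hn
  constructor
  · intro hx
    by_contra ha
    obtain ⟨t, ht⟩ := (fixed_card hF hn).2 1 (one_pow _)
    obtain ⟨y, hy⟩ := exists_parA (hF := hF) (hn := hn) (t / parA x ^ (2 ^ n))
    have h := congrArg parB (Subgroup.mem_center_iff.1 hx y)
    rw [(par_mul y x).2, (par_mul x y).2] at h
    have e1 : parA x ^ 2 ^ n * parA y = t := by rw [hy]; field_simp
    have e2 : parA y ^ 2 ^ n * parA x = t ^ 2 ^ n := by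
      rw [← e1, mul_pow, pow_q_q hF, mul_comm]
    exact one_ne_zero (α := F) (by linear_combination h - ht - e1 - e2 + (parA x ^ 2 ^ n * parA y) * h2)
  · intro ha
    refine Subgroup.mem_center_iff.2 fun y => par_ext ?_ ?_
    · rw [(par_mul y x).1, (par_mul x y).1, add_comm]
    · rw [(par_mul y x).2, (par_mul x y).2, ha, zero_pow (pow_ne_zero n two_ne_zero)]
      ring

theorem sq_parA (x : unipGroup hF hn) : parA (x ^ 2) = 0 := by
  rw [pow_two, (par_mul x x).1]
  linear_combination parA x * two_eq_zero hF hn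

theorem sq_eq_one_iff (x : unipGroup hF hn) : x ^ 2 = 1 ↔ parA x = 0 := by
  have h2 := two_eq_zero hF hn
  constructor
  · intro h
    have h' := congrArg parB h
    rw [pow_two, (par_mul x x).2, par_one.2] at h'
    have : parA x ^ (2 ^ n) * parA x = 0 := by linear_combination h' - parB x * h2
    rcases mul_eq_zero.1 this with h0 | h0
    · exact pow_eq_zero_iff (pow_ne_zero n two_ne_zero) |>.1 h0
    · exact h0
  · intro h
    refine par_ext ?_ ?_
    · rw [sq_parA, par_one.1]
    · rw [pow_two, (par_mul x x).2, h, par_one.2, mul_zero, add_zero]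
      linear_combination parB x * h2

theorem center_card : Nat.card (Subgroup.center (unipGroup hF hn)) = 2 ^ n := by
  rw [← (fixed_card hF hn).1]
  refine Nat.card_congr (Equiv.ofBijective (fun x => (⟨parB x.1, (mem_ker_tr hF hn _).2 ?_⟩ : (tr hF hn).ker)) ⟨?_, ?_⟩)
  · have h := (par_spec x.1).2
    rw [(mem_center_iff x.1).1 x.2, mul_zero] at h
    linear_combination h - parB x.1 * two_eq_zero hF hn
  · intro x y h
    exact Subtype.ext (par_ext (((mem_center_iff x.1).1 x.2).trans ((mem_center_iff y.1).1 y.2).symm) (congrArg Subtype.val h))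
  · rintro ⟨t, ht⟩
    obtain ⟨x, hx, hxt⟩ := exists_central (hF := hF) (hn := hn) t ((mem_ker_tr hF hn t).1 ht)
    exact ⟨⟨x, (mem_center_iff x).2 hx⟩, Subtype.ext hxt⟩

theorem closure_involutions : Subgroup.closure {x : unipGroup hF hn | orderOf x = 2} = Subgroup.center (unipGroup hF hn) := by
  haveI : Fact (Nat.Prime 2) := ⟨Nat.prime_two⟩
  refine le_antisymm ((Subgroup.closure_le _).2 fun x hx => ?_) fun x hx => ?_
  · exact (mem_center_iff x).2 ((sq_eq_one_iff x).1 (by rw [← (hx : orderOf x = 2)]; exact pow_orderOf_eq_one x))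
  · rcases eq_or_ne x 1 with rfl | h
    · exact one_mem _
    · exact Subgroup.subset_closure (orderOf_eq_prime ((sq_eq_one_iff x).2 ((mem_center_iff x).1 hx)) h)

theorem commutator_eq_center : commutator (unipGroup hF hn) = Subgroup.center (unipGroup hF hn) := by
  have h2 := two_eq_zero hF hn
  refine le_antisymm ?_ fun z hz => ?_
  · rw [commutator_def, Subgroup.commutator_le]
    intro x _ y _
    rw [mem_center_iff]
    have hinv : ∀ u : unipGroup hF hn, parA u⁻¹ = parA u := fun u => by
      have h := (par_mul u⁻¹ u).1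
      rw [inv_mul_cancel, par_one.1] at h
      linear_combination -h - parA u * h2
    rw [commutatorElement_def, (par_mul _ _).1, (par_mul _ _).1, (par_mul _ _).1, hinv, hinv]
    linear_combination (parA x + parA y) * h2
  · have hz0 := (mem_center_iff z).1 hz
    have hzt : parB z ^ (2 ^ n) = parB z := by
      have h := (par_spec z).2
      rw [hz0, mul_zero] at h
      linear_combination h - parB z * h2
    obtain ⟨a, ha⟩ := (fixed_card hF hn).2 _ hzt
    obtain ⟨x, hx⟩ := exists_parA (hF := hF) (hn := hn) a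
    obtain ⟨y, hy⟩ := exists_parA (hF := hF) (hn := hn) 1
    have h : z * (y * x) = x * y := by
      refine par_ext ?_ ?_
      · rw [(par_mul _ _).1, (par_mul _ _).1, (par_mul _ _).1, hz0, hx, hy]
        ring
      · rw [(par_mul _ _).2, (par_mul y x).2, (par_mul x y).2, hz0, hx, hy, one_pow,
          zero_pow (pow_ne_zero n two_ne_zero)]
        linear_combination -ha + a * h2
    have : z = ⁅x, y⁆ := by
      rw [commutatorElement_def, show x * y * x⁻¹ * y⁻¹ = (x * y) * (y * x)⁻¹ by group, ← h, mul_inv_cancel_right]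
    rw [this]
    exact Subgroup.commutator_mem_commutator (Subgroup.mem_top x) (Subgroup.mem_top y)

end Cfsg.Lib.Classical.UnitarySylowTwo
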